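import Cfsg.Agent.H36.U52.MatRep
import Cfsg.Agent.H915.LD
import Cfsg.Agent.S2089

/-!
# Representations of `U_5(2)` of degree at most 12, odd characteristic

`main` : a core `P` of degree `n ≤ 12` in characteristic `p ≠ 2` with `P` modulo scalars `≅ U_5(2)` has
* `n = 10`, `SD P`, `Fr P p`; or
* `n = 11`, `p ≠ 3`, not `SD P`, and (`p ≡ 1 mod 3`, `Fr P p`, or `p ≡ 2 mod 3`, `Cj P p`).
-/

set_option autoImplicit false
set_option linter.unusedSectionVars false

namespace Cfsg.Agent.H36.U52

open Module Matrix Cfsg Cfsg.Agent.H915.LD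

universe u v w

variable {F : Type u} [Field F] {n : ℕ}

section reps

variable {K : Type v} [Field K] (P : Subgroup (GL (Fin n) F))

/-- extension of scalars along a ring homomorphism -/
def ext (ψ : F →+* K) : P →* Matrix (Fin n) (Fin n) K :=
  ((RingHom.mapMatrix ψ : Matrix (Fin n) (Fin n) F →+* Matrix (Fin n) (Fin n) K).toMonoidHom.comp
    (Units.coeHom (Matrix (Fin n) (Fin n) F))).comp P.subtype

theorem ext_apply (ψ : F →+* K) (g : P) : ext P ψ g = ((g : GL (Fin n) F) : Matrix (Fin n) (Fin n) F).map ψ := rfl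

theorem trace_ext (ψ : F →+* K) (g : P) : (ext P ψ g).trace = ψ (tr (g : GL (Fin n) F)) := by
  rw [ext_apply, tr, Matrix.trace, Matrix.trace, map_sum]
  rfl

/-- the dual -/
def dul (r : P →* Matrix (Fin n) (Fin n) K) : P →* Matrix (Fin n) (Fin n) K where
  toFun g := (r g⁻¹)ᵀ
  map_one' := by rw [inv_one, map_one, Matrix.transpose_one]
  map_mul' a b := by rw [_root_.mul_inv_rev, map_mul, Matrix.transpose_mul]

theorem dul_apply (r : P →* Matrix (Fin n) (Fin n) K) (g : P) : dul P r g = (r g⁻¹)ᵀ := rfl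

theorem trace_dul (r : P →* Matrix (Fin n) (Fin n) K) (g : P) : (dul P r g).trace = (r g⁻¹).trace := by
  rw [dul_apply, Matrix.trace_transpose]

variable {P}

theorem single_span (S : Submodule K (Matrix (Fin n) (Fin n) K)) (h : ∀ i j, Matrix.single i j (1 : K) ∈ S) :
    S = ⊤ := by
  rw [eq_top_iff]
  intro M _
  rw [Matrix.matrix_eq_sum_single M]
  apply Submodule.sum_mem
  intro i _
  apply Submodule.sum_mem
  intro j _
  have h1 := S.smul_mem (M i j) (h i j)
  rwa [Matrix.smul_single, smul_eq_mul, mul_one] at h1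

theorem span_ext (hC : Core P) (ψ : F →+* K) : Submodule.span K (Set.range (ext P ψ)) = ⊤ := by
  set S := Submodule.span K (Set.range (ext P ψ)) with hS
  let T : Submodule F (Matrix (Fin n) (Fin n) F) :=
    { carrier := {M | M.map ψ ∈ S}
      add_mem' := fun {A B} hA hB => by
        have : (A + B).map ψ = A.map ψ + B.map ψ := Matrix.map_add ψ (map_add ψ) A B
        change (A + B).map ψ ∈ S
        rw [this]
        exact S.add_mem hA hB
      zero_mem' := by
        change (0 : Matrix (Fin n) (Fin n) F).map ψ ∈ S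
        rw [Matrix.map_zero ψ (map_zero ψ)]
        exact S.zero_mem
      smul_mem' := fun c A hA => by
        change (c • A).map ψ ∈ S
        have : (c • A).map ψ = ψ c • A.map ψ := by
          ext i j
          simp
        rw [this]
        exact S.smul_mem _ hA }
  have hT : T = ⊤ := by
    rw [eq_top_iff, ← H920.span_eq_top hC.absIrred, Submodule.span_le]
    rintro _ ⟨g, hg, rfl⟩
    exact Submodule.subset_span ⟨⟨g, hg⟩, rfl⟩
  apply single_span
  intro i j
  have h1 : Matrix.single i j (1 : F) ∈ T := by rw [hT]; trivial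
  have h2 : (Matrix.single i j (1 : F)).map ψ = Matrix.single i j (1 : K) := by
    rw [Matrix.map_single, map_one]
  rw [← h2]
  exact h1

theorem span_dul {r : P →* Matrix (Fin n) (Fin n) K} (h : Submodule.span K (Set.range r) = ⊤) :
    Submodule.span K (Set.range (dul P r)) = ⊤ := by
  set S := Submodule.span K (Set.range (dul P r)) with hS
  let L : Matrix (Fin n) (Fin n) K →ₗ[K] Matrix (Fin n) (Fin n) K := (Matrix.transposeLinearEquiv (Fin n) (Fin n) K K).toLinearMap
  have h1 : S.comap L = ⊤ := by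
    rw [eq_top_iff, ← h, Submodule.span_le]
    rintro _ ⟨g, rfl⟩
    change (r g)ᵀ ∈ S
    have : (r g)ᵀ = dul P r g⁻¹ := by rw [dul_apply, inv_inv]
    rw [this]
    exact Submodule.subset_span ⟨_, rfl⟩
  rw [eq_top_iff]
  intro M _
  have h2 : Mᵀ ∈ S.comap L := by rw [h1]; trivial
  have h3 : Mᵀᵀ ∈ S := h2
  rwa [Matrix.transpose_transpose] at h3

theorem rp_ext (hC : Core P) {E : El P} (hz : E.z1 ≠ 1) (ψ : F →+* K) : Rp E (ext P ψ) := by
  refine ⟨span_ext hC ψ, ?_, ?_⟩
  · intro g
    have h1 := hC.det g.2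
    have h2 : ((g : GL (Fin n) F) : Matrix (Fin n) (Fin n) F).det = 1 := by
      rw [← Matrix.GeneralLinearGroup.val_det_apply, h1, Units.val_one]
    have h3 := RingHom.map_det ψ ((g : GL (Fin n) F) : Matrix (Fin n) (Fin n) F)
    rw [h2, map_one] at h3
    exact h3.symm
  · intro h
    apply hz
    apply Subtype.ext
    apply Units.ext
    ext i j
    have h1 := congrFun (congrFun h i) j
    rw [ext_apply, Matrix.map_apply] at h1
    apply ψ.injective
    rw [h1]
    change (1 : Matrix (Fin n) (Fin n) K) i j = ψ ((1 : Matrix (Fin n) (Fin n) F) i j)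
    rw [Matrix.one_apply, Matrix.one_apply]
    split_ifs <;> simp

theorem rp_dul {E : El P} {r : P →* Matrix (Fin n) (Fin n) K} (h : Rp E r) : Rp E (dul P r) := by
  refine ⟨span_dul h.span, ?_, ?_⟩
  · intro g
    rw [dul_apply, Matrix.det_transpose]
    exact h.det _
  · intro h1
    apply h.z1
    rw [dul_apply] at h1
    have h2 := congrArg Matrix.transpose h1
    rw [Matrix.transpose_transpose, Matrix.transpose_one] at h2
    have h3 : r E.z1 * r E.z1⁻¹ = 1 := by rw [← map_mul, mul_inv_cancel, map_one]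
    rw [h2, mul_one] at h3
    exact h3

end reps

/-- **Theorem.** -/
theorem main [Finite F] {P : Subgroup (GL (Fin n) F)} (hC : Core P) (p : ℕ) [hp : Fact p.Prime] [CharP F p]
    (hp2 : p ≠ 2) (hn : n ≤ 12) {E : El P} (D : Rel E) (hg : Subgroup.closure (gens E) = ⊤) (hz : E.z1 ≠ 1) :
    (n = 10 ∧ SD P ∧ Fr P p) ∨
      (n = 11 ∧ p ≠ 3 ∧ ¬ SD P ∧ ((p % 3 = 1 ∧ Fr P p) ∨ (p % 3 = 2 ∧ Cj P p))) := by
  let K := AlgebraicClosure F
  let ι : F →+* K := algebraMap F K
  have : CharP K p := charP_of_injective_algebraMap (algebraMap F K).injective p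
  have hι : Function.Injective ι := ι.injective
  have h2 : (2 : K) ≠ 0 := by
    intro h
    have h1 : ((2 : ℕ) : K) = 0 := by exact_mod_cast h
    rw [CharP.cast_eq_zero_iff K p] at h1
    exact hp2 ((Nat.prime_dvd_prime_iff_eq hp.out Nat.prime_two).1 h1)
  have hfin : Finite P := inferInstance
  let φ : F →+* K := (frobenius K p).comp ι
  have r0 := rp_ext hC hz ι
  have rF := rp_ext hC hz φ
  have rD := rp_dul r0
  have t0 : ∀ g : P, (ext P ι g).trace = ι (tr (g : GL (Fin n) F)) := trace_ext P ι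
  have tF : ∀ g : P, (ext P φ g).trace = ι (tr (g : GL (Fin n) F)) ^ p := trace_ext P φ
  have tD : ∀ g : P, (dul P (ext P ι) g).trace = ι (tr ((g⁻¹ : P) : GL (Fin n) F)) := fun g => by
    rw [trace_dul, t0]
  by_cases h10 : n = 10
  · left
    refine ⟨h10, ?_, ?_⟩
    · intro g hg'
      have h := ten h2 D hg r0 rD h10 ⟨g, hg'⟩
      rw [t0, tD] at h
      exact (hι h).symm
    · intro g hg'
      have h := ten h2 D hg r0 rF h10 ⟨g, hg'⟩
      rw [t0, tF, ← map_pow] at h
      exact (hι h).symm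
  · right
    obtain ⟨h11, h3, s, σ, hs3, hσ, c0, cc0, z0, zz0⟩ := eleven_inv h2 D hg r0 hn h10
    have hσ3 : σ ^ 3 = 1 := by linear_combination (σ - 1) * hσ
    have hp3 : p ≠ 3 := by
      intro h
      apply h3
      have : ((p : ℕ) : K) = 0 := CharP.cast_eq_zero K p
      rw [h] at this
      exact_mod_cast this
    have h6 := six_ne h2 h3
    have cinv : E.c⁻¹ = E.c * E.c := by rw [inv_eq_iff_mul_eq_one, D.c3]
    have zinv : E.ze⁻¹ = E.ze * E.ze := by rw [inv_eq_iff_mul_eq_one, D.ze3]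
    have z1inv : E.z1⁻¹ = E.z1 := by rw [inv_eq_iff_mul_eq_one, D.z1z1]
    have czinv : (E.c * E.z1)⁻¹ = E.c * E.c * E.z1 := by
      rw [_root_.mul_inv_rev, z1inv, cinv, ← mul_assoc, D.z1c, mul_assoc, D.z1c, mul_assoc]
    have zzinv : (E.ze * E.z1)⁻¹ = E.ze * E.ze * E.z1 := by
      rw [_root_.mul_inv_rev, z1inv, zinv, ← mul_assoc, D.z1ze, mul_assoc, D.z1ze, mul_assoc]
    -- invariants of the three representations
    have hchar : ∀ x : K, (-8 * x) ^ p = -8 * x ^ p ∧ (6 * x) ^ p = 6 * x ^ p := by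
      intro x
      have e1 : ∀ m : ℕ, ((m : K)) ^ p = m := by
        intro m
        have := map_natCast (frobenius K p) m
        rwa [frobenius_def] at this
      have e8 : (8 : K) ^ p = 8 := by exact_mod_cast e1 8
      have e6 : (6 : K) ^ p = 6 := by exact_mod_cast e1 6
      have en1 : (-1 : K) ^ p = -1 := (hp.out.odd_of_ne_two hp2).neg_one_pow
      constructor
      · have : (-8 * x) = (-1) * (8 * x) := by ring
        rw [this, mul_pow, mul_pow, en1, e8]; ring
      · rw [mul_pow, e6]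
    have cF : (ext P φ E.c).trace - (ext P φ (E.c * E.z1)).trace = -8 * s ^ p := by
      rw [tF, tF, ← t0, ← t0, ← frobenius_def p, ← frobenius_def p, ← map_sub, c0, frobenius_def, (hchar s).1]
    have zF : (ext P φ E.ze).trace + (ext P φ (E.ze * E.z1)).trace = 6 * σ ^ p := by
      rw [tF, tF, ← t0, ← t0, ← frobenius_def p, ← frobenius_def p, ← map_add, z0, frobenius_def, (hchar σ).2]
    have cD : (dul P (ext P ι) E.c).trace - (dul P (ext P ι) (E.c * E.z1)).trace = -8 * s ^ 2 := by
      rw [tD, tD, ← t0, ← t0, cinv, czinv, cc0]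
    have zD : (dul P (ext P ι) E.ze).trace + (dul P (ext P ι) (E.ze * E.z1)).trace = 6 * σ ^ 2 := by
      rw [tD, tD, ← t0, ← t0, zinv, zzinv, zz0]
    refine ⟨h11, hp3, ?_, ?_⟩
    · intro hSD
      have e1 : ∀ g : P, (dul P (ext P ι) g).trace = (ext P ι g).trace := by
        intro g
        rw [t0, tD]
        congr 1
        exact hSD g g.2
      rw [e1, e1, z0] at zD
      have h4 : σ ^ 2 = σ := by
        have : (6 : K) * (σ ^ 2 - σ) = 0 := by linear_combination -zD
        exact sub_eq_zero.1 ((mul_eq_zero.1 this).resolve_left h6)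
      have h5 : σ = 1 := by
        have h7 : σ ^ 3 = σ ^ 2 := by rw [pow_succ', h4, ← pow_two, h4]
        rw [← h4, ← h7, hσ3]
      rw [h5] at hσ
      apply h3
      linear_combination hσ
    · have hmod : p % 3 = 1 ∨ p % 3 = 2 := by
        have h4 : ¬ 3 ∣ p := fun h => hp3 ((Nat.prime_dvd_prime_iff_eq Nat.prime_three hp.out).1 h).symm
        omega
      have powmod : ∀ x : K, x ^ 3 = 1 → ∀ m : ℕ, x ^ m = x ^ (m % 3) := by
        intro x hx m
        conv_lhs => rw [← Nat.div_add_mod m 3, pow_add, pow_mul, hx, one_pow, one_mul]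
      rcases hmod with h | h
      · left
        refine ⟨h, ?_⟩
        intro g hg'
        have h7 := eleven h2 D hg r0 rF h11 (by rw [c0, cF, powmod s hs3 p, h, pow_one])
          (by rw [z0, zF, powmod σ hσ3 p, h, pow_one]) ⟨g, hg'⟩
        rw [t0, tF, ← map_pow] at h7
        exact (hι h7).symm
      · right
        refine ⟨h, ?_⟩
        intro g hg'
        have h7 := eleven h2 D hg rF rD h11 (by rw [cF, cD, powmod s hs3 p, h])
          (by rw [zF, zD, powmod σ hσ3 p, h]) ⟨g, hg'⟩
        rw [tF, tD, ← map_pow] at h7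
        exact hι h7

/-- **Row T6.** Cores with socle `U_5(2)` of degree at most 12 in odd characteristic. -/
theorem t6 [Finite F] {P : Subgroup (GL (Fin n) F)} (hC : Core P) (p : ℕ) [hp : Fact p.Prime] [CharP F p]
    (hp2 : p ≠ 2) (hn : n ≤ 12) {F₄ : Type} [Field F₄] [Fintype F₄] (hF₄ : Fintype.card F₄ = 4)
    (e : Soc P ≃* PSU 5 F₄ 2) :
    (n = 10 ∧ SD P ∧ Fr P p) ∨
      (n = 11 ∧ p ≠ 3 ∧ ¬ SD P ∧ ((p % 3 = 1 ∧ Fr P p) ∨ (p % 3 = 2 ∧ Cj P p))) := by
  have hm := Cfsg.Agent.S2089.result 5 2 (F := F₄) (by rw [hF₄]; norm_num) (by norm_num) (by norm_num) (by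
    simp)
  have hm1 : HasSchurMultiplier (PSU 5 F₄ 2) (Multiplicative (ZMod 1)) := by
    have h5 : Nat.gcd 5 (2 + 1) = 1 := by norm_num
    rw [h5] at hm
    exact hm
  obtain ⟨e', -⟩ := hC.equiv_of_coprime e hm1 (by simp)
  obtain ⟨E, D, hg, hz⟩ := exists_data hF₄ e'
  exact main hC p hp2 hn D hg hz

end Cfsg.Agent.H36.U52
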