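import Cfsg.Agent.H36.U52.PlusTwo

/-!
# Modules of dimension 10 or 11 with the same invariants are isomorphic
-/

set_option autoImplicit false
set_option linter.unusedSectionVars false

namespace Cfsg.Agent.H36.U52

open Module

universe u v v' w

variable {K : Type u} {V : Type v} {W : Type v'} [Field K] [AddCommGroup V] [Module K V]
  [AddCommGroup W] [Module K W] [FiniteDimensional K V] [FiniteDimensional K W]
variable {G : Type w} [Group G]
variable {ρ : G →* Module.End K V} {ρ' : G →* Module.End K W}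
variable {E : El G} (D : Rel E) {i σ s : K}

/-- the seven generators -/
def gens (E : El G) : Set G := {E.b1, E.b2, E.h, E.a3, E.c, E.y1, E.y2}

/-- a non-zero map commuting with the generators gives the same traces -/
theorem trace_eq (hgen : Subgroup.closure (gens E) = ⊤) (hI : Irr7 (E.map ρ)) (hI' : Irr7 (E.map ρ'))
    {θ : W →ₗ[K] V} (h0 : θ ≠ 0) (hθ : gens E ⊆ Fx ρ ρ' θ) (g : G) :
    LinearMap.trace K V (ρ g) = LinearMap.trace K W (ρ' g) := by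
  have hall : ∀ g, g ∈ Fx ρ ρ' θ := by
    intro g
    have h1 := (Subgroup.closure_le (Fx ρ ρ' θ)).2 hθ
    rw [hgen] at h1
    exact h1 trivial
  have hk : LinearMap.ker θ = ⊥ := by
    have hs : ∀ g, ∀ x ∈ LinearMap.ker θ, ρ' g x ∈ LinearMap.ker θ := by
      intro g x hx
      rw [LinearMap.mem_ker] at hx ⊢
      rw [← hall g x, hx, map_zero]
    rcases hI' (LinearMap.ker θ) (hs _) (hs _) (hs _) (hs _) (hs _) (hs _) (hs _) with h | h
    · exact h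
    · exact absurd (LinearMap.ker_eq_top.1 h) h0
  have hr : LinearMap.range θ = ⊤ := by
    have hs : ∀ g, ∀ x ∈ LinearMap.range θ, ρ g x ∈ LinearMap.range θ := by
      rintro g _ ⟨x, rfl⟩
      exact ⟨ρ' g x, (hall g x).symm⟩
    rcases hI (LinearMap.range θ) (hs _) (hs _) (hs _) (hs _) (hs _) (hs _) (hs _) with h | h
    · exact absurd (LinearMap.range_eq_bot.1 h) h0
    · exact h
  let t : W ≃ₗ[K] V := LinearEquiv.ofBijective θ ⟨LinearMap.ker_eq_bot.1 hk, LinearMap.range_eq_top.1 hr⟩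
  have h1 : ρ g = t.conj (ρ' g) := by
    ext x
    rw [LinearEquiv.conj_apply_apply]
    change ρ g x = θ (ρ' g (t.symm x))
    rw [← hall g]
    congr 1
    exact (t.apply_symm_apply x).symm
  rw [h1, LinearMap.trace_conj']

section ten

variable (H : Good (E.map ρ) i) (H' : Good (E.map ρ') i)

theorem y_triv {e : El (Module.End K V)} (H : Good e i) (hV0 : V0 e = ⊥) {x : V} (hx : e.z1 x = x) :
    e.y1 x = x ∧ e.y2 x = x := by
  have D := H.rel
  have hz : ∀ x, e.z1 x = x → e.z2 x = -x := by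
    intro x hx
    have h1 : x + e.z2 x ∈ V0 e := mem_V0.2 ⟨by rw [map_add, D.vz1z2, hx], by rw [map_add, D.vz2z2]; abel⟩
    rw [hV0, Submodule.mem_bot] at h1
    exact (neg_eq_of_add_eq_zero_right h1).symm
  constructor
  · have h1 := D.vz2y1 x
    rw [hz _ (by rw [D.vz1y1, hx]), hz x hx, map_neg, map_neg, neg_inj] at h1
    have h2 := congrArg e.y1 (congrArg e.y1 h1)
    rw [D.vy1y1] at h2
    exact h2.symm
  · have h1 := D.vz2y2 x
    rw [hz _ (by rw [D.vz1y2, hx]), hz x hx, map_neg, map_neg, neg_inj] at h1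
    have h2 := congrArg e.y2 (congrArg e.y2 h1)
    rw [D.vy2y2] at h2
    exact h2.symm

include D H H'

/-- elements acting trivially on `z1 = 1` -/
theorem triv_mem {θ : W →ₗ[K] V} (hz : ∀ x, θ (ρ' E.z1 x) = θ x) (hr : ∀ x, ρ E.z1 (θ x) = θ x) {g : G}
    (hg : E.z1 * g = g * E.z1)
    (h1 : ∀ x, ρ E.z1 x = x → ρ g x = x) (h2 : ∀ x, ρ' E.z1 x = x → ρ' g x = x) : g ∈ Fx ρ ρ' θ := by
  intro x
  rw [h1 _ (hr x)]
  have e1 : (2 : K) • θ x = (2 : K) • θ (ρ' g x) := by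
    have e2 : ∀ y, (2 : K) • θ y = θ (y + ρ' E.z1 y) := by
      intro y
      rw [map_add, hz, two_smul]
    rw [e2, e2]
    have e3 : ρ' g x + ρ' E.z1 (ρ' g x) = ρ' g (x + ρ' E.z1 x) := by
      rw [map_add, ← ract, ← ract, hg]
    rw [e3, h2 _ (by
      rw [map_add, show ρ' E.z1 (ρ' E.z1 x) = x from H'.rel.vz1z1 x]; abel)]
  exact smul_right_injective V H.two e1

theorem compare_ten (hV0 : V0 (E.map ρ) = ⊥) (hV0' : V0 (E.map ρ') = ⊥) (hs : CS (E.map ρ) s)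
    (hs' : CS (E.map ρ') s) : ∃ θ : W →ₗ[K] V, θ ≠ 0 ∧ gens E ⊆ Fx ρ ρ' θ := by
  obtain ⟨F⟩ := exists_frame H
  obtain ⟨F'⟩ := exists_frame H'
  have hc := c_tm D H H' F F' hs hs'
  obtain ⟨⟨a3, b1, b2, c, r1, r2⟩, hh⟩ := glue D H H' F F' hc
  have z1 := t1_z1 D H H' F F'
  have z1' : ∀ x, ρ E.z1 (t1 F F' x) = t1 F F' x := fun x => (mem_V1.1 (t1_mem D H H' F F' x)).1
  refine ⟨tm F F' + t1 F F', ?_, ?_⟩
  · intro h0
    have h1 := LinearMap.congr_fun h0 F'.v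
    rw [LinearMap.add_apply, tm_v D H H' F F', LinearMap.zero_apply] at h1
    have h2 := z1 F'.v
    rw [show ρ' E.z1 F'.v = -F'.v from (mem_X.1 F'.hv).1.1.1, map_neg] at h2
    rw [half H.two h2.symm, add_zero] at h1
    exact Frame.ne H F h1
  · have y1 : E.y1 ∈ Fx ρ ρ' (t1 F F') := triv_mem D H H' z1 z1' D.z1y1
      (fun x hx => (y_triv H hV0 hx).1) (fun x hx => (y_triv H' hV0' hx).1)
    have y2 : E.y2 ∈ Fx ρ ρ' (t1 F F') := triv_mem D H H' z1 z1' D.z1y2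
      (fun x hx => (y_triv H hV0 hx).2) (fun x hx => (y_triv H' hV0' hx).2)
    rintro g (rfl | rfl | rfl | rfl | rfl | rfl | rfl)
    · exact Fx_add (b1_tm D H H' F F') b1
    · exact Fx_add (b2_tm D H H' F F') b2
    · exact hh
    · exact Fx_add (a3_tm D H H' F F') a3
    · exact Fx_add hc c
    · exact Fx_add (y1_tm D H H' F F') y1
    · exact Fx_add (y2_tm D H H' F F') y2

theorem t1_ne (F : Frame (E.map ρ) i) (F' : Frame (E.map ρ') i) : t1 F F' ≠ 0 := by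
  intro h
  have h1 : tw ρ ρ' E.h (t2 F F') = tw ρ ρ' E.h 0 := by
    rw [← t1, h]; ext x; simp [tw_apply]
  exact t2_ne D H H' F F' (tw_inj h1)

/-- **Uniqueness on `V1`** -/
theorem eq_smul_t1 (F : Frame (E.map ρ) i) (F' : Frame (E.map ρ') i) {θ : W →ₗ[K] V}
    (h1 : E.r1 ∈ Fx ρ ρ' θ) (h2 : E.r2 ∈ Fx ρ ρ' θ) (h3 : ∀ x, θ (ρ' E.z1 x) = θ x)
    (h4 : ∀ x, θ (ρ' E.z2 x) = -θ x) (h5 : E.z1 ∈ Fx ρ ρ' θ) (h6 : E.z2 ∈ Fx ρ ρ' θ) :
    ∃ κ : K, θ = κ • t1 F F' := by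
  have hh : E.h * E.h = 1 := D.hh
  have conj : ∀ {x y : G}, y * E.h = E.h * x → x * E.h = E.h * y := by
    intro x y h
    calc x * E.h = E.h * E.h * x * E.h := by rw [hh, one_mul]
      _ = E.h * (E.h * x) * E.h := by simp only [mul_assoc]
      _ = E.h * y * (E.h * E.h) := by rw [← h]; simp only [mul_assoc]
      _ = E.h * y := by rw [hh, mul_one]
  have hinv : E.h⁻¹ = E.h := by rw [inv_eq_iff_mul_eq_one, hh]
  set φ := tw ρ ρ' E.h θ with hφ
  have φz1 : ∀ x, φ (ρ' E.z1 x) = - φ x := by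
    intro x
    rw [hφ, tw_apply, tw_apply, hinv]
    have e1 : ρ' E.h (ρ' E.z1 x) = ρ' E.z2 (ρ' E.h x) := by
      rw [← ract, ← ract, D.z2h]
    rw [e1, h4, map_neg]
  have φz2 : ∀ x, φ (ρ' E.z2 x) = φ x := by
    intro x
    rw [hφ, tw_apply, tw_apply, hinv]
    have e1 : ρ' E.h (ρ' E.z2 x) = ρ' E.z1 (ρ' E.h x) := by
      rw [← ract, ← ract, D.z1h]
    rw [e1, h3]
  have φa3 : E.a3 ∈ Fx ρ ρ' φ := mem_Fx_tw' (conj D.r1h) h1
  have φb3 : E.b3 ∈ Fx ρ ρ' φ := mem_Fx_tw' (conj D.r2h) h2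
  -- image in `V2`
  have φim : ∀ x, φ x ∈ V2 (E.map ρ) := by
    intro x
    apply H.toV2
    · have e1 : E.z1 ∈ Fx ρ ρ' φ := mem_Fx_tw' D.z1h h6
      rw [show (E.map ρ).z1 (φ x) = φ (ρ' E.z1 x) from e1 x, φz1]
    · have e1 : E.z2 ∈ Fx ρ ρ' φ := mem_Fx_tw' D.z2h h5
      rw [show (E.map ρ).z2 (φ x) = φ (ρ' E.z2 x) from e1 x, φz2]
  have four : (4 : K) ≠ 0 := by
    have : (4 : K) = 2 * 2 := by norm_num
    rw [this]
    exact mul_ne_zero H.two H.two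
  have P2f : ∀ x, (4 : K) • t2 F' F' x = (x + ρ' E.z2 x) - ρ' E.z1 (x + ρ' E.z2 x) := by
    intro x
    have e1 := tm_t2 D H' H' F' F' x
    have e2 := tm_self D H' F' (x + ρ' E.z2 x)
    have e3 : (4 : K) • t2 F' F' x = (2 : K) • ((2 : K) • t2 F' F' x) := by rw [smul_smul]; norm_num
    rw [e3, ← e1]
    exact e2
  have φP : ∀ x, φ (t2 F' F' x) = φ x := by
    intro x
    have e1 : (4 : K) • φ (t2 F' F' x) = (4 : K) • φ x := by
      rw [← map_smul, P2f, map_sub, φz1, map_add, φz2]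
      module
    exact smul_right_injective V four e1
  have φa1 : E.a1 ∈ Fx ρ ρ' φ := by
    intro x
    rw [show ρ E.a1 (φ x) = - φ x from (mem_V2.1 (φim x)).1.2, ← φP (ρ' E.a1 x),
      ← a1_t2 D H' H' F' F' x, show ρ' E.a1 (t2 F' F' x) = -(t2 F' F' x) from (mem_V2.1 (t2_mem D H' H' F' F' x)).1.2,
      map_neg, φP]
  have φa2 : E.a2 ∈ Fx ρ ρ' φ := by
    intro x
    rw [show ρ E.a2 (φ x) = - φ x from (mem_V2.1 (φim x)).2, ← φP (ρ' E.a2 x),
      ← a2_t2 D H' H' F' F' x, show ρ' E.a2 (t2 F' F' x) = -(t2 F' F' x) from (mem_V2.1 (t2_mem D H' H' F' F' x)).2,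
      map_neg, φP]
  have key := eq_smul_t2 D H H' F F' φa1 φa2 φa3 φb3 (by ext x; exact φP x)
  refine ⟨F.f (φ F'.v), ?_⟩
  have e1 : tw ρ ρ' E.h φ = θ := by rw [hφ, ← tw_mul, hh, tw_one]
  rw [← e1]
  nth_rewrite 1 [key]
  rw [tw_smul, t1]

theorem compare_eleven (hI : Irr7 (E.map ρ)) (P : Plus (E.map ρ) σ) (P' : Plus (E.map ρ') σ)
    (hs : CS (E.map ρ) s) (hs' : CS (E.map ρ') s) : ∃ θ : W →ₗ[K] V, θ ≠ 0 ∧ gens E ⊆ Fx ρ ρ' θ := by
  obtain ⟨F⟩ := exists_frame H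
  obtain ⟨F'⟩ := exists_frame H'
  obtain ⟨N⟩ := exists_frameP H P
  obtain ⟨N'⟩ := exists_frameP H' P'
  have hc := c_tm D H H' F F' hs hs'
  obtain ⟨⟨a3, b1, b2, c, r1, r2⟩, hh⟩ := glue D H H' F F' hc
  obtain ⟨fr1, fr2, ν, hν, fc⟩ := r_ff D H H' P P' N N'
  set f := ff N N' with hf
  have fz1 : ∀ x, f (ρ' E.z1 x) = f x := ff_z1 D H H' P P' N N'
  have fz1' : E.z1 ∈ Fx ρ ρ' f := z1_ff D H H' P P' N N'
  have fz1'' : ∀ x, ρ E.z1 (f x) = f x := fun x => by rw [fz1' x, fz1]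
  have fz2' : E.z2 ∈ Fx ρ ρ' f := by rw [← D.r1r1]; exact mul_mem fr1 fr1
  -- the part on `V1`
  let f1 : W →ₗ[K] V := f - f ∘ₗ ρ' E.z2
  let f0 : W →ₗ[K] V := f + f ∘ₗ ρ' E.z2
  have f1a : ∀ x, f1 x = f x - f (ρ' E.z2 x) := fun x => rfl
  have f0a : ∀ x, f0 x = f x + f (ρ' E.z2 x) := fun x => rfl
  have z2z2 : ∀ x, ρ' E.z2 (ρ' E.z2 x) = x := H'.rel.vz2z2
  have z1z2 : ∀ x, ρ' E.z1 (ρ' E.z2 x) = ρ' E.z2 (ρ' E.z1 x) := H'.rel.vz1z2
  have lift : ∀ g, E.z2 * g = g * E.z2 → g ∈ Fx ρ ρ' f → g ∈ Fx ρ ρ' f1 := by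
    intro g hz hg x
    rw [f1a, f1a, map_sub, hg, hg, ← ract, ← ract, hz]
  obtain ⟨κ, hκ⟩ := eq_smul_t1 D H H' F F' (θ := f1) (lift _ D.z2r1 fr1) (lift _ D.z2r2 fr2)
    (fun x => by rw [f1a, f1a, fz1, ← z1z2, fz1]) (fun x => by rw [f1a, f1a, z2z2]; abel)
    (lift _ (D.z1z2.symm) fz1') (lift _ rfl fz2')
  -- `κ ≠ 0`
  have hκ0 : κ ≠ 0 := by
    intro h0
    rw [h0, zero_smul] at hκ
    have h1 : ∀ x, f (ρ' E.z2 x) = f x := by
      intro x
      have := LinearMap.congr_fun hκ x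
      rw [f1a, LinearMap.zero_apply, sub_eq_zero] at this
      exact this.symm
    have h2 : LinearMap.range f = ⊥ := by
      apply H.P1 hI
      · rintro _ ⟨x, rfl⟩
        refine mem_V0.2 ⟨fz1'' x, ?_⟩
        rw [show (E.map ρ).z2 (f x) = f (ρ' E.z2 x) from fz2' x, h1]
      · rintro _ ⟨x, rfl⟩
        have h3 := LinearMap.congr_fun fc (ρ' E.c x)
        rw [tw_apply, ract_inv'] at h3
        exact ⟨ν • ρ' E.c x, by rw [map_smul]; exact h3.symm⟩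
      · rintro _ ⟨x, rfl⟩
        exact ⟨ρ' E.y1 x, (y1_ff D H H' P P' N N' x).symm⟩
      · rintro _ ⟨x, rfl⟩
        exact ⟨ρ' E.y2 x, (y2_ff D H H' P P' N N' x).symm⟩
    exact ff_ne D H H' P P' N N' (LinearMap.range_eq_bot.1 h2)
  -- `ν = 1`
  have hν1 : ν = 1 := by
    have h1 : tw ρ ρ' E.c f1 = ν • f1 := by
      ext x
      have h2 := LinearMap.congr_fun fc x
      have h3 := LinearMap.congr_fun fc (ρ' E.z2 x)
      rw [tw_apply, LinearMap.smul_apply] at h2 h3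
      rw [tw_apply, LinearMap.smul_apply, f1a, f1a, map_sub, smul_sub, h2, ← h3]
      congr 3
      rw [← ract, ← ract]
      congr 2
      rw [eq_comm, inv_mul_eq_iff_eq_mul, ← mul_assoc, ← D.z2c, mul_inv_cancel_right]
    rw [hκ, tw_smul, mem_Fx_iff_tw.1 c, smul_smul, ← sub_eq_zero, ← sub_smul] at h1
    have h2 := (smul_eq_zero.1 h1).resolve_right (t1_ne D H H' F F')
    have h3 : κ * (ν - 1) = 0 := by linear_combination -h2
    exact sub_eq_zero.1 ((mul_eq_zero.1 h3).resolve_left hκ0)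
  have fc' : E.c ∈ Fx ρ ρ' f := by rw [mem_Fx_iff_tw, fc, hν1, one_smul]
  -- the glued map
  have hb1 : E.b1 ∈ Fx ρ ρ' f := triv_mem D H H' fz1 fz1'' D.z1b1 H.b1_triv H'.b1_triv
  have hb2 : E.b2 ∈ Fx ρ ρ' f := triv_mem D H H' fz1 fz1'' D.z1b2 H.b2_triv H'.b2_triv
  have ha3 : E.a3 ∈ Fx ρ ρ' f := triv_mem D H H' fz1 fz1'' D.z1a3 H.a3_triv H'.a3_triv
  have hf0 : E.h ∈ Fx ρ ρ' f0 := by
    intro x
    have e1 : f0 x ∈ V0 (E.map ρ) := by
      refine mem_V0.2 ⟨?_, ?_⟩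
      · change ρ E.z1 (f0 x) = _
        rw [f0a, map_add, fz1'', fz1'']
      · change ρ E.z2 (f0 x) = _
        rw [f0a, map_add, fz2', fz2', z2z2, add_comm]
    rw [show ρ E.h (f0 x) = f0 x from H.hV0 e1]
    have g1 : ∀ y, f0 (ρ' E.z1 y) = f0 y := fun y => by rw [f0a, f0a, fz1, ← z1z2, fz1]
    have g2 : ∀ y, f0 (ρ' E.z2 y) = f0 y := fun y => by rw [f0a, f0a, z2z2, add_comm]
    have g3 : ∀ y, (4 : K) • f0 y = f0 ((y + ρ' E.z2 y) + ρ' E.z1 (y + ρ' E.z2 y)) := by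
      intro y
      rw [map_add, g1, map_add, g2]; module
    have g4 : (x + ρ' E.z2 x) + ρ' E.z1 (x + ρ' E.z2 x) ∈ V0 (E.map ρ') := by
      have z1z1 : ∀ x, ρ' E.z1 (ρ' E.z1 x) = x := H'.rel.vz1z1
      refine mem_V0.2 ⟨?_, ?_⟩
      · change ρ' E.z1 _ = _
        rw [map_add, z1z1]; abel
      · change ρ' E.z2 _ = _
        rw [map_add, ← z1z2, map_add, z2z2, add_comm (ρ' E.z2 x) x]
    have g5 : (4 : K) • f0 (ρ' E.h x) = (4 : K) • f0 x := by
      rw [g3, g3]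
      have g6 : (ρ' E.h x + ρ' E.z2 (ρ' E.h x)) + ρ' E.z1 (ρ' E.h x + ρ' E.z2 (ρ' E.h x)) =
          ρ' E.h ((x + ρ' E.z2 x) + ρ' E.z1 (x + ρ' E.z2 x)) := by
        have k1 : ∀ y, ρ' E.z1 (ρ' E.h y) = ρ' E.h (ρ' E.z2 y) := fun y => by rw [← ract, ← ract, D.z1h]
        have k2 : ∀ y, ρ' E.z2 (ρ' E.h y) = ρ' E.h (ρ' E.z1 y) := fun y => by rw [← ract, ← ract, D.z2h]
        simp only [map_add, k1, k2, z1z2]
        abel
      rw [g6, show ρ' E.h _ = _ from H'.hV0 g4]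
    have four : (4 : K) ≠ 0 := by
      have : (4 : K) = 2 * 2 := by norm_num
      rw [this]
      exact mul_ne_zero H.two H.two
    exact (smul_right_injective V four g5).symm
  refine ⟨(2 * κ⁻¹) • f + tm F F', ?_, ?_⟩
  · intro h0
    have h1 := LinearMap.congr_fun h0 F'.v
    rw [LinearMap.add_apply, tm_v D H H' F F', LinearMap.zero_apply, LinearMap.smul_apply] at h1
    have h2 := fz1 F'.v
    rw [show ρ' E.z1 F'.v = -F'.v from (mem_X.1 F'.hv).1.1.1, map_neg] at h2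
    rw [half H.two h2.symm, smul_zero, zero_add] at h1
    exact Frame.ne H F h1
  · rintro g (rfl | rfl | rfl | rfl | rfl | rfl | rfl)
    · exact Fx_add (Fx_smul _ hb1) (b1_tm D H H' F F')
    · exact Fx_add (Fx_smul _ hb2) (b2_tm D H H' F F')
    · have e1 : (2 * κ⁻¹) • f + tm F F' = κ⁻¹ • f0 + (tm F F' + t1 F F') := by
        have e2 : (2 : K) • f = f0 + f1 := by
          ext x
          rw [LinearMap.add_apply, f0a, f1a, LinearMap.smul_apply]; module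
        rw [mul_comm, mul_smul, e2, smul_add, hκ, smul_smul, inv_mul_cancel₀ hκ0, one_smul]
        abel
      rw [e1]
      exact Fx_add (Fx_smul _ hf0) hh
    · exact Fx_add (Fx_smul _ ha3) (a3_tm D H H' F F')
    · exact Fx_add (Fx_smul _ fc') hc
    · exact Fx_add (Fx_smul _ (y1_ff D H H' P P' N N')) (y1_tm D H H' F F')
    · exact Fx_add (Fx_smul _ (y2_ff D H H' P P' N N')) (y2_tm D H H' F F')

end ten

end Cfsg.Agent.H36.U52
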