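import Cfsg.Agent.H36.U52.Rel
import Cfsg.Agent.Lib.FieldFour
import Cfsg.Agent.H674.SUTools
import Cfsg.Agent.S0780

/-!
# The elements and relations in `SU_5(2)`; generation
-/

set_option autoImplicit false
set_option maxRecDepth 100000

namespace Cfsg.Agent.H36.U52

open Matrix Cfsg Cfsg.Agent.Lib.FieldFour Cfsg.Agent.H674.SUTools Cfsg.Agent.LieClassical
open Cfsg.Agent.ClassicalGeometry.UnitTransv

namespace Mat

def m_z1 : Matrix (Fin 5) (Fin 5) F4 :=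
  !![F4.o, F4.i, F4.o, F4.o, F4.o; F4.i, F4.o, F4.o, F4.o, F4.o; F4.o, F4.o, F4.i, F4.o, F4.o; F4.o, F4.o, F4.o, F4.i, F4.o; F4.o, F4.o, F4.o, F4.o, F4.i]

def m_z2 : Matrix (Fin 5) (Fin 5) F4 :=
  !![F4.i, F4.o, F4.o, F4.o, F4.o; F4.o, F4.i, F4.o, F4.o, F4.o; F4.o, F4.o, F4.o, F4.i, F4.o; F4.o, F4.o, F4.i, F4.o, F4.o; F4.o, F4.o, F4.o, F4.o, F4.i]

def m_z3 : Matrix (Fin 5) (Fin 5) F4 :=
  !![F4.o, F4.i, F4.i, F4.i, F4.o; F4.i, F4.o, F4.i, F4.i, F4.o; F4.i, F4.i, F4.o, F4.i, F4.o; F4.i, F4.i, F4.i, F4.o, F4.o; F4.o, F4.o, F4.o, F4.o, F4.i]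

def m_z4 : Matrix (Fin 5) (Fin 5) F4 :=
  !![F4.o, F4.i, F4.v, F4.v, F4.o; F4.i, F4.o, F4.v, F4.v, F4.o; F4.w, F4.w, F4.o, F4.i, F4.o; F4.w, F4.w, F4.i, F4.o, F4.o; F4.o, F4.o, F4.o, F4.o, F4.i]

def m_z5 : Matrix (Fin 5) (Fin 5) F4 :=
  !![F4.o, F4.i, F4.w, F4.w, F4.o; F4.i, F4.o, F4.w, F4.w, F4.o; F4.v, F4.v, F4.o, F4.i, F4.o; F4.v, F4.v, F4.i, F4.o, F4.o; F4.o, F4.o, F4.o, F4.o, F4.i]

def m_a1 : Matrix (Fin 5) (Fin 5) F4 :=
  !![F4.o, F4.i, F4.i, F4.i, F4.o; F4.i, F4.o, F4.i, F4.i, F4.o; F4.i, F4.i, F4.i, F4.o, F4.o; F4.i, F4.i, F4.o, F4.i, F4.o; F4.o, F4.o, F4.o, F4.o, F4.i]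

def m_a2 : Matrix (Fin 5) (Fin 5) F4 :=
  !![F4.o, F4.i, F4.v, F4.v, F4.o; F4.i, F4.o, F4.v, F4.v, F4.o; F4.w, F4.w, F4.i, F4.o, F4.o; F4.w, F4.w, F4.o, F4.i, F4.o; F4.o, F4.o, F4.o, F4.o, F4.i]

def m_a3 : Matrix (Fin 5) (Fin 5) F4 :=
  !![F4.v, F4.w, F4.o, F4.o, F4.i; F4.w, F4.v, F4.o, F4.o, F4.i; F4.o, F4.o, F4.i, F4.o, F4.o; F4.o, F4.o, F4.o, F4.i, F4.o; F4.i, F4.i, F4.o, F4.o, F4.i]

def m_b1 : Matrix (Fin 5) (Fin 5) F4 :=
  !![F4.i, F4.o, F4.w, F4.i, F4.o; F4.o, F4.i, F4.w, F4.i, F4.o; F4.v, F4.v, F4.i, F4.o, F4.o; F4.i, F4.i, F4.o, F4.i, F4.o; F4.o, F4.o, F4.o, F4.o, F4.i]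

def m_b2 : Matrix (Fin 5) (Fin 5) F4 :=
  !![F4.i, F4.o, F4.v, F4.w, F4.o; F4.o, F4.i, F4.v, F4.w, F4.o; F4.w, F4.w, F4.i, F4.o, F4.o; F4.v, F4.v, F4.o, F4.i, F4.o; F4.o, F4.o, F4.o, F4.o, F4.i]

def m_b3 : Matrix (Fin 5) (Fin 5) F4 :=
  !![F4.v, F4.w, F4.o, F4.o, F4.v; F4.w, F4.v, F4.o, F4.o, F4.v; F4.o, F4.o, F4.i, F4.o, F4.o; F4.o, F4.o, F4.o, F4.i, F4.o; F4.w, F4.w, F4.o, F4.o, F4.i]

def m_h : Matrix (Fin 5) (Fin 5) F4 :=
  !![F4.o, F4.o, F4.i, F4.o, F4.o; F4.o, F4.o, F4.o, F4.i, F4.o; F4.i, F4.o, F4.o, F4.o, F4.o; F4.o, F4.i, F4.o, F4.o, F4.o; F4.o, F4.o, F4.o, F4.o, F4.i]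

def m_c : Matrix (Fin 5) (Fin 5) F4 :=
  !![F4.w, F4.o, F4.o, F4.o, F4.o; F4.o, F4.w, F4.o, F4.o, F4.o; F4.o, F4.o, F4.w, F4.o, F4.o; F4.o, F4.o, F4.o, F4.w, F4.o; F4.o, F4.o, F4.o, F4.o, F4.v]

def m_r1 : Matrix (Fin 5) (Fin 5) F4 :=
  !![F4.i, F4.o, F4.o, F4.o, F4.o; F4.o, F4.i, F4.o, F4.o, F4.o; F4.o, F4.o, F4.v, F4.w, F4.i; F4.o, F4.o, F4.w, F4.v, F4.i; F4.o, F4.o, F4.i, F4.i, F4.i]

def m_r2 : Matrix (Fin 5) (Fin 5) F4 :=
  !![F4.i, F4.o, F4.o, F4.o, F4.o; F4.o, F4.i, F4.o, F4.o, F4.o; F4.o, F4.o, F4.v, F4.w, F4.v; F4.o, F4.o, F4.w, F4.v, F4.v; F4.o, F4.o, F4.w, F4.w, F4.i]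

def m_d1 : Matrix (Fin 5) (Fin 5) F4 :=
  !![F4.i, F4.o, F4.v, F4.v, F4.o; F4.o, F4.i, F4.i, F4.i, F4.o; F4.w, F4.i, F4.i, F4.o, F4.o; F4.w, F4.i, F4.o, F4.i, F4.o; F4.o, F4.o, F4.o, F4.o, F4.i]

def m_d2 : Matrix (Fin 5) (Fin 5) F4 :=
  !![F4.i, F4.o, F4.w, F4.w, F4.o; F4.o, F4.i, F4.v, F4.v, F4.o; F4.v, F4.w, F4.i, F4.o, F4.o; F4.v, F4.w, F4.o, F4.i, F4.o; F4.o, F4.o, F4.o, F4.o, F4.i]

def m_y1 : Matrix (Fin 5) (Fin 5) F4 :=
  !![F4.i, F4.o, F4.o, F4.o, F4.o; F4.o, F4.i, F4.o, F4.o, F4.o; F4.o, F4.o, F4.w, F4.o, F4.o; F4.o, F4.o, F4.o, F4.v, F4.o; F4.o, F4.o, F4.o, F4.o, F4.i]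

def m_y2 : Matrix (Fin 5) (Fin 5) F4 :=
  !![F4.i, F4.o, F4.o, F4.o, F4.o; F4.o, F4.i, F4.o, F4.o, F4.o; F4.o, F4.o, F4.o, F4.o, F4.i; F4.o, F4.o, F4.i, F4.o, F4.o; F4.o, F4.o, F4.o, F4.i, F4.o]

def m_t : Matrix (Fin 5) (Fin 5) F4 :=
  !![F4.w, F4.o, F4.o, F4.o, F4.o; F4.o, F4.w, F4.o, F4.o, F4.o; F4.o, F4.o, F4.v, F4.o, F4.o; F4.o, F4.o, F4.o, F4.v, F4.o; F4.o, F4.o, F4.o, F4.o, F4.i]

def m_ze : Matrix (Fin 5) (Fin 5) F4 :=
  !![F4.i, F4.o, F4.o, F4.o, F4.o; F4.o, F4.i, F4.o, F4.o, F4.o; F4.o, F4.o, F4.w, F4.o, F4.o; F4.o, F4.o, F4.o, F4.w, F4.o; F4.o, F4.o, F4.o, F4.o, F4.w]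

end Mat

open Mat

/-- the matrices -/
def matEl : El (Matrix (Fin 5) (Fin 5) F4) :=
  ⟨m_z1, m_z2, m_z3, m_z4, m_z5, m_a1, m_a2, m_a3, m_b1, m_b2, m_b3, m_h, m_c, m_r1, m_r2, m_d1, m_d2, m_y1, m_y2, m_t, m_ze⟩

theorem rel_mat : Rel matEl := by
  constructor <;> decide +kernel

theorem hF4 : Fintype.card F4 = 2 ^ 2 := rfl

/-- the element of `SU_5(2)` -/
def s_z1 : SU 5 F4 2 := mkSU hF4 m_z1 (by decide +kernel) (show m_z1ᵀ * m_z1.map (fun x => x ^ 2) = 1 by decide +kernel)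
/-- the element of `SU_5(2)` -/
def s_z2 : SU 5 F4 2 := mkSU hF4 m_z2 (by decide +kernel) (show m_z2ᵀ * m_z2.map (fun x => x ^ 2) = 1 by decide +kernel)
/-- the element of `SU_5(2)` -/
def s_z3 : SU 5 F4 2 := mkSU hF4 m_z3 (by decide +kernel) (show m_z3ᵀ * m_z3.map (fun x => x ^ 2) = 1 by decide +kernel)
/-- the element of `SU_5(2)` -/
def s_z4 : SU 5 F4 2 := mkSU hF4 m_z4 (by decide +kernel) (show m_z4ᵀ * m_z4.map (fun x => x ^ 2) = 1 by decide +kernel)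
/-- the element of `SU_5(2)` -/
def s_z5 : SU 5 F4 2 := mkSU hF4 m_z5 (by decide +kernel) (show m_z5ᵀ * m_z5.map (fun x => x ^ 2) = 1 by decide +kernel)
/-- the element of `SU_5(2)` -/
def s_a1 : SU 5 F4 2 := mkSU hF4 m_a1 (by decide +kernel) (show m_a1ᵀ * m_a1.map (fun x => x ^ 2) = 1 by decide +kernel)
/-- the element of `SU_5(2)` -/
def s_a2 : SU 5 F4 2 := mkSU hF4 m_a2 (by decide +kernel) (show m_a2ᵀ * m_a2.map (fun x => x ^ 2) = 1 by decide +kernel)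
/-- the element of `SU_5(2)` -/
def s_a3 : SU 5 F4 2 := mkSU hF4 m_a3 (by decide +kernel) (show m_a3ᵀ * m_a3.map (fun x => x ^ 2) = 1 by decide +kernel)
/-- the element of `SU_5(2)` -/
def s_b1 : SU 5 F4 2 := mkSU hF4 m_b1 (by decide +kernel) (show m_b1ᵀ * m_b1.map (fun x => x ^ 2) = 1 by decide +kernel)
/-- the element of `SU_5(2)` -/
def s_b2 : SU 5 F4 2 := mkSU hF4 m_b2 (by decide +kernel) (show m_b2ᵀ * m_b2.map (fun x => x ^ 2) = 1 by decide +kernel)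
/-- the element of `SU_5(2)` -/
def s_b3 : SU 5 F4 2 := mkSU hF4 m_b3 (by decide +kernel) (show m_b3ᵀ * m_b3.map (fun x => x ^ 2) = 1 by decide +kernel)
/-- the element of `SU_5(2)` -/
def s_h : SU 5 F4 2 := mkSU hF4 m_h (by decide +kernel) (show m_hᵀ * m_h.map (fun x => x ^ 2) = 1 by decide +kernel)
/-- the element of `SU_5(2)` -/
def s_c : SU 5 F4 2 := mkSU hF4 m_c (by decide +kernel) (show m_cᵀ * m_c.map (fun x => x ^ 2) = 1 by decide +kernel)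
/-- the element of `SU_5(2)` -/
def s_r1 : SU 5 F4 2 := mkSU hF4 m_r1 (by decide +kernel) (show m_r1ᵀ * m_r1.map (fun x => x ^ 2) = 1 by decide +kernel)
/-- the element of `SU_5(2)` -/
def s_r2 : SU 5 F4 2 := mkSU hF4 m_r2 (by decide +kernel) (show m_r2ᵀ * m_r2.map (fun x => x ^ 2) = 1 by decide +kernel)
/-- the element of `SU_5(2)` -/
def s_d1 : SU 5 F4 2 := mkSU hF4 m_d1 (by decide +kernel) (show m_d1ᵀ * m_d1.map (fun x => x ^ 2) = 1 by decide +kernel)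
/-- the element of `SU_5(2)` -/
def s_d2 : SU 5 F4 2 := mkSU hF4 m_d2 (by decide +kernel) (show m_d2ᵀ * m_d2.map (fun x => x ^ 2) = 1 by decide +kernel)
/-- the element of `SU_5(2)` -/
def s_y1 : SU 5 F4 2 := mkSU hF4 m_y1 (by decide +kernel) (show m_y1ᵀ * m_y1.map (fun x => x ^ 2) = 1 by decide +kernel)
/-- the element of `SU_5(2)` -/
def s_y2 : SU 5 F4 2 := mkSU hF4 m_y2 (by decide +kernel) (show m_y2ᵀ * m_y2.map (fun x => x ^ 2) = 1 by decide +kernel)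
/-- the element of `SU_5(2)` -/
def s_t : SU 5 F4 2 := mkSU hF4 m_t (by decide +kernel) (show m_tᵀ * m_t.map (fun x => x ^ 2) = 1 by decide +kernel)
/-- the element of `SU_5(2)` -/
def s_ze : SU 5 F4 2 := mkSU hF4 m_ze (by decide +kernel) (show m_zeᵀ * m_ze.map (fun x => x ^ 2) = 1 by decide +kernel)

/-- the elements of `SU_5(2)` -/
def suEl : El (SU 5 F4 2) :=
  ⟨s_z1, s_z2, s_z3, s_z4, s_z5, s_a1, s_a2, s_a3, s_b1, s_b2, s_b3, s_h, s_c, s_r1, s_r2, s_d1, s_d2, s_y1, s_y2, s_t, s_ze⟩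

theorem Rel.of_injective {G H : Type*} [Monoid G] [Monoid H] {E : El G} {f : G →* H} (hf : Function.Injective f)
    (D : Rel (E.map f)) : Rel E := by
  obtain ⟨⟩ := D
  simp only [El.map] at *
  constructor <;> apply hf <;> first
    | (rw [map_one]; simp only [map_mul]; assumption)
    | (simp only [map_mul]; assumption)

theorem rel_su : Rel suEl := Rel.of_injective (f := cm) cm_injective rel_mat

/-! ### generation -/

/-- code of a scalar -/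
def code : F4 → ℕ
  | .o => 0
  | .i => 1
  | .w => 2
  | .v => 3

/-- the distance of a vector to the first point -/
def depth (x : Fin 5 → F4) : ℕ :=
  (1044229518128217752483524158539380761364051148926907599088021702521574061306190219789534216266052325678926463146311627663930591179490582545806324683652823937063624015029633621611028630654409976411336652461863933355408361067135602882844466999931309947863057131581090423787888001790495261600600840967159457661061719702849959813042426948233596585551868095909394951627572481639953412307731207688084673357378796458143728942969566498293596838147453789393585444708379448366752857551845646350643347340239136360323535570950163317463692277938662654194453137102058114581550542693573390075840662507259535586855101326667453890028264354440771505096694346106035257428117280846502604331071328803047477990518443561629172365246676694199331960430102854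248086501480237472214497240334207793654652785005516530057892502235447256543408246058201102509541813864266176793497332620284729654779755516296633660234226024317418409871108409559421474595498359767536996463045449523859060483019942221245845969713152313539918129632948558267037106171536361650110484906570892020378049494153589788986733606444581219708195352281801745584582958824598282568768757818569965044575340552895110020097956465155454486487465915274174590683974660892376154834314373859720686928464445424 >>> (4 * (code (x 0) + 4 * (code (x 1) + 4 * (code (x 2) + 4 * (code (x 3) + 4 * code (x 4))))))) &&& 15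

/-- the norm -/
def nrm (x : Fin 5 → F4) : F4 :=
  x 0 * x 0 ^ 2 + x 1 * x 1 ^ 2 + x 2 * x 2 ^ 2 + x 3 * x 3 ^ 2 + x 4 * x 4 ^ 2

/-- the generators -/
def gm : Fin 7 → Matrix (Fin 5) (Fin 5) F4 := ![m_b1, m_b2, m_h, m_a3, m_c, m_y1, m_y2]

/-- the generators -/
def gs : Fin 7 → SU 5 F4 2 := ![s_b1, s_b2, s_h, s_a3, s_c, s_y1, s_y2]

theorem cm_gs (j : Fin 7) : cm (gs j) = gm j := by
  fin_cases j <;> rfl

/-- the first vector -/
def e1 (l : F4) : Fin 5 → F4 := ![l, l, F4.o, F4.o, F4.o]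

theorem step (a b c d e : F4) (h : nrm ![a, b, c, d, e] = 0) :
    (∃ l, ![a, b, c, d, e] = e1 l) ∨ ∃ j, depth (gm j *ᵥ ![a, b, c, d, e]) < depth ![a, b, c, d, e] := by
  revert a b c d e
  decide +kernel

end Cfsg.Agent.H36.U52
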