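import Cfsg.Agent.H36.U52.One

/-!
# Dimensions, and `Q` acts trivially on `z1 = 1`
-/

set_option autoImplicit false
set_option linter.unusedSectionVars false

namespace Cfsg.Agent.H36.U52

open Module

universe u v w

variable {K : Type u} {V : Type v} [Field K] [AddCommGroup V] [Module K V] [FiniteDimensional K V]
variable {E : El (Module.End K V)}

/-- what we know about a module -/
structure Good (E : El (Module.End K V)) (i : K) : Prop where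
  rel : Rel E
  two : (2 : K) ≠ 0
  hi : i * i = -1
  dimX : finrank K (X E i) = 1
  z2V2 : ∀ x ∈ V2 E, E.z2 x = x
  toV2 : ∀ x, E.z1 x = -x → E.z2 x = x → x ∈ V2 E

theorem half {x : V} (h2 : (2 : K) ≠ 0) (h : x = -x) : x = 0 := by
  have : (2 : K) • x = 0 := by
    rw [two_smul]
    nth_rewrite 2 [h]
    exact add_neg_cancel x
  exact (smul_eq_zero.1 this).resolve_left h2

theorem h_maps (D : Rel E) : finrank K ↥(ES E.z1 1 ⊓ ES E.z2 (-1)) = finrank K ↥(ES E.z1 (-1) ⊓ ES E.z2 1) := by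
  apply finrank_eq_of_maps E.h E.h (inj_h D) (inj_h D)
  · intro x hx
    have h1 := mem_ES.1 hx.1
    have h2 := mem_ES.1 hx.2
    refine ⟨mem_ES.2 ?_, mem_ES.2 ?_⟩
    · rw [show E.z1 (E.h x) = E.h (E.z2 x) from ap D.z1h x, h2, map_smul]
    · rw [show E.z2 (E.h x) = E.h (E.z1 x) from ap D.z2h x, h1, map_smul]
  · intro x hx
    have h1 := mem_ES.1 hx.1
    have h2 := mem_ES.1 hx.2
    refine ⟨mem_ES.2 ?_, mem_ES.2 ?_⟩
    · rw [show E.z1 (E.h x) = E.h (E.z2 x) from ap D.z1h x, h2, map_smul]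
    · rw [show E.z2 (E.h x) = E.h (E.z1 x) from ap D.z2h x, h1, map_smul]

theorem split_z2 (D : Rel E) (h2 : (2 : K) ≠ 0) (α : K) :
    finrank K (ES E.z1 α) = finrank K ↥(ES E.z1 α ⊓ ES E.z2 1) + finrank K ↥(ES E.z1 α ⊓ ES E.z2 (-1)) := by
  apply finrank_invol (ES E.z1 α) E.z2 h2
  · intro x hx
    rw [mem_ES] at hx ⊢
    rw [show E.z1 (E.z2 x) = E.z2 (E.z1 x) from ap D.z1z2 x, hx, map_smul]
  · intro x _
    exact ap D.z2z2 x

theorem good_and_dims (D : Rel E) (h2 : (2 : K) ≠ 0) {i : K} (hi : i * i = -1) (hn : finrank K V ≤ 12)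
    (hz1 : E.z1 ≠ 1) :
    Good E i ∧ finrank K (V1 E) = 2 ∧ finrank K (Vm E) = 8 ∧ finrank K V = finrank K (V0 E) + 10 := by
  have e1 := finrank_Vm D h2 hi
  have e2 := finrank_total D h2
  have e0 : finrank K (X E i) ≠ 0 := by
    intro h
    rw [h, mul_zero, Submodule.finrank_eq_zero] at e1
    apply hz1
    ext x
    have h3 : x - E.z1 x ∈ Vm E := by
      rw [mem_Vm, map_sub, show E.z1 (E.z1 x) = x from ap D.z1z1 x]; abel
    rw [e1, Submodule.mem_bot] at h3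
    exact (sub_eq_zero.1 h3).symm
  have eX : finrank K (X E i) = 1 := by omega
  rw [eX] at e1
  obtain ⟨ε, hε, hz⟩ := z2_on_V2 D h2 hi eX
  have eV2 : finrank K (V2 E) = 2 := by rw [finrank_V2 D h2 hi, eX]
  have hsub : ES E.z1 (-1) ⊓ ES E.z2 ε = V2 E := by
    ext x
    constructor
    · intro hx
      exact mem_V2_of_z2 D h2 hε hz (mem_Vm.1 hx.1) (mem_ES.1 hx.2)
    · intro hx
      exact ⟨hx.1.1, mem_ES.2 (hz x hx)⟩
  have s1 := split_z2 D h2 (-1)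
  have s2 := split_z2 D h2 1
  have hh := h_maps D
  have e1' : finrank K (ES E.z1 (-1)) = 8 := e1.trans (by norm_num)
  have e2' : finrank K V = finrank K (ES E.z1 1) + 8 := by rw [e2, e1]; rfl
  have hε1 : ε = 1 := by
    rcases hε with h | h
    · exact h
    · exfalso
      subst h
      rw [hsub, eV2, e1'] at s1
      omega
  subst hε1
  rw [hsub, eV2] at s1 hh
  refine ⟨⟨D, h2, hi, eX, fun x hx => by rw [hz x hx, one_smul], fun x h1 h3 =>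
    mem_V2_of_z2 D h2 (Or.inl rfl) hz h1 (by rw [h3, one_smul])⟩, hh, e1, ?_⟩
  rw [e2', s2, hh]
  change _ = finrank K ↥(ES E.z1 1 ⊓ ES E.z2 1) + 10
  omega

section good

variable {i : K} (H : Good E i)
include H

theorem Good.N1 (x : V) (h1 : E.z1 x = -x) (h2 : E.z2 x = x) (h3 : E.a1 x = x) : x = 0 := by
  have h4 := (mem_V2.1 (H.toV2 x h1 h2)).1.2
  rw [h3] at h4
  exact half H.two h4

theorem Good.C1 (x : V) (h1 : E.z1 x = x) (h2 : E.z2 x = x) : E.z3 x = x := by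
  have D := H.rel
  have z3z3 : E.z3 (E.z3 x) = x := by
    rw [show E.z3 x = E.z2 (E.a1 x) from ap D.z3e x, show ∀ y, E.z3 y = E.z2 (E.a1 y) from fun y => ap D.z3e y,
      show E.a1 (E.z2 (E.a1 x)) = E.z2 (E.a1 (E.a1 x)) from (ap D.z2a1 _).symm,
      show E.a1 (E.a1 x) = x from ap D.a1a1 x, show E.z2 (E.z2 x) = x from ap D.z2z2 x]
  have z3b2 : ∀ y, E.z3 (E.b2 y) = E.b2 (E.z2 y) := by
    intro y
    have e1 : E.z2 (E.b2 (E.b2 y)) = E.b2 (E.z3 (E.b2 y)) := ap D.z2b2 _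
    rw [show E.b2 (E.b2 y) = y from ap D.b2b2 y] at e1
    rw [e1, show E.b2 (E.b2 _) = _ from ap D.b2b2 _]
    rfl
  set y := x - E.z3 x with hy
  have y1 : E.z1 y = y := by
    rw [hy, map_sub, h1, show E.z3 x = E.z2 (E.a1 x) from ap D.z3e x,
      show E.z1 (E.z2 (E.a1 x)) = E.z2 (E.z1 (E.a1 x)) from ap D.z1z2 _,
      show E.z1 (E.a1 x) = E.a1 (E.z1 x) from ap D.z1a1 _, h1]
  have y2 : E.z2 y = y := by
    rw [hy, map_sub, h2, show E.z3 x = E.z2 (E.a1 x) from ap D.z3e x,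
      show E.z2 (E.a1 x) = E.a1 (E.z2 x) from ap D.z2a1 _, h2,
      show E.z2 (E.a1 x) = E.a1 (E.z2 x) from ap D.z2a1 _, h2]
  have y3 : E.z3 y = -y := by rw [hy, map_sub, z3z3]; abel
  have w1 : E.z1 (E.h (E.b2 y)) = -(E.h (E.b2 y)) := by
    rw [show E.z1 (E.h _) = E.h (E.z2 _) from ap D.z1h _, show E.z2 (E.b2 y) = E.b2 (E.z3 y) from ap D.z2b2 y, y3,
      map_neg, map_neg]
  have w2 : E.z2 (E.h (E.b2 y)) = E.h (E.b2 y) := by
    rw [show E.z2 (E.h _) = E.h (E.z1 _) from ap D.z2h _, show E.z1 (E.b2 y) = E.b2 (E.z1 y) from ap D.z1b2 y, y1]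
  have w3 : E.z3 (E.h (E.b2 y)) = E.h (E.b2 y) := by
    rw [show E.z3 (E.h _) = E.h (E.z3 _) from ap D.z3h _, z3b2, y2]
  have w4 : E.a1 (E.h (E.b2 y)) = E.h (E.b2 y) := by
    have e1 : E.z3 (E.h (E.b2 y)) = E.z2 (E.a1 (E.h (E.b2 y))) := ap D.z3e _
    rw [show E.z2 (E.a1 _) = E.a1 (E.z2 _) from ap D.z2a1 _, w2, w3] at e1
    exact e1.symm
  have w0 := H.N1 _ w1 w2 w4
  have := inj_b2 D _ (inj_h D _ w0)
  exact (sub_eq_zero.1 this).symm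

theorem Good.z3b2 (y : V) : E.z3 (E.b2 y) = E.b2 (E.z2 y) := by
  have D := H.rel
  have e1 : E.z2 (E.b2 (E.b2 y)) = E.b2 (E.z3 (E.b2 y)) := ap D.z2b2 _
  rw [show E.b2 (E.b2 y) = y from ap D.b2b2 y] at e1
  rw [e1, show E.b2 (E.b2 _) = _ from ap D.b2b2 _]
  rfl

theorem Good.z4b1 (y : V) : E.z4 (E.b1 y) = E.b1 (E.z2 y) := by
  have D := H.rel
  have e1 : E.z2 (E.b1 (E.b1 y)) = E.b1 (E.z4 (E.b1 y)) := ap D.z2b1 _
  rw [show E.b1 (E.b1 y) = y from ap D.b1b1 y] at e1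
  rw [e1, show E.b1 (E.b1 _) = _ from ap D.b1b1 _]
  rfl

theorem Good.z3e (y : V) : E.z3 y = E.z2 (E.a1 y) := ap H.rel.z3e y
theorem Good.z4e (y : V) : E.z4 y = E.z2 (E.a2 y) := ap H.rel.z4e y
theorem Good.z2z2 (y : V) : E.z2 (E.z2 y) = y := ap H.rel.z2z2 y
theorem Good.z2a1 (y : V) : E.z2 (E.a1 y) = E.a1 (E.z2 y) := ap H.rel.z2a1 y
theorem Good.z2a2 (y : V) : E.z2 (E.a2 y) = E.a2 (E.z2 y) := ap H.rel.z2a2 y
theorem Good.z1a1 (y : V) : E.z1 (E.a1 y) = E.a1 (E.z1 y) := ap H.rel.z1a1 y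
theorem Good.z1a2 (y : V) : E.z1 (E.a2 y) = E.a2 (E.z1 y) := ap H.rel.z1a2 y
theorem Good.a1a1 (y : V) : E.a1 (E.a1 y) = y := ap H.rel.a1a1 y
theorem Good.a2a2 (y : V) : E.a2 (E.a2 y) = y := ap H.rel.a2a2 y
theorem Good.a1a2 (y : V) : E.a1 (E.a2 y) = E.a2 (E.a1 y) := ap H.rel.a1a2 y
theorem Good.z1z2 (y : V) : E.z1 (E.z2 y) = E.z2 (E.z1 y) := ap H.rel.z1z2 y

theorem Good.C2 (x : V) (h1 : E.z1 x = x) (h2 : E.z2 x = -x) : E.a1 x = x := by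
  have D := H.rel
  -- y = x - a1 x has a1 y = -y
  set y := x - E.a1 x with hy
  have y1 : E.z1 y = y := by rw [hy, map_sub, h1, H.z1a1, h1]
  have y2 : E.z2 y = -y := by rw [hy, map_sub, h2, H.z2a1, h2, map_neg]; abel
  have y3 : E.a1 y = -y := by rw [hy, map_sub, H.a1a1]; abel
  have w1 : E.z1 (E.b2 y) = E.b2 y := by rw [show E.z1 (E.b2 y) = E.b2 (E.z1 y) from ap D.z1b2 y, y1]
  have w2 : E.z2 (E.b2 y) = E.b2 y := by
    rw [show E.z2 (E.b2 y) = E.b2 (E.z3 y) from ap D.z2b2 y, H.z3e, y3, map_neg, y2, neg_neg]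
  have w3 := H.C1 _ w1 w2
  rw [H.z3b2, y2, map_neg] at w3
  have := inj_b2 D _ (half H.two w3.symm)
  exact (sub_eq_zero.1 this).symm

theorem Good.a1_triv (x : V) (h1 : E.z1 x = x) : E.a1 x = x := by
  have e1 : E.a1 (x + E.z2 x) = x + E.z2 x := by
    have w1 : E.z1 (x + E.z2 x) = x + E.z2 x := by rw [map_add, H.z1z2, h1]
    have w2 : E.z2 (x + E.z2 x) = x + E.z2 x := by rw [map_add, H.z2z2]; abel
    have w3 := H.C1 _ w1 w2
    rw [H.z3e, H.z2a1, w2] at w3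
    exact w3
  have e2 : E.a1 (x - E.z2 x) = x - E.z2 x := by
    apply H.C2
    · rw [map_sub, H.z1z2, h1]
    · rw [map_sub, H.z2z2]; abel
  rw [map_add] at e1
  rw [map_sub] at e2
  have : (2 : K) • E.a1 x = (2 : K) • x := by
    have h3 : (2 : K) • E.a1 x = (E.a1 x + E.a1 (E.z2 x)) + (E.a1 x - E.a1 (E.z2 x)) := by module
    rw [h3, e1, e2]; module
  exact smul_right_injective V H.two this

theorem Good.C4 (x : V) (h1 : E.z1 x = x) (h2 : E.z2 x = -x) : E.a2 x = x := by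
  have D := H.rel
  set y := x - E.a2 x with hy
  have y1 : E.z1 y = y := by rw [hy, map_sub, h1, H.z1a2, h1]
  have y2 : E.z2 y = -y := by rw [hy, map_sub, h2, H.z2a2, h2, map_neg]; abel
  have y3 : E.a2 y = -y := by rw [hy, map_sub, H.a2a2]; abel
  have y4 : E.a1 y = y := H.a1_triv y y1
  have y5 : E.z5 y = y := by
    rw [show E.z5 y = E.z1 (E.a1 (E.a2 (E.z2 y))) from ap D.z5e y, y2, map_neg, y3, neg_neg, y4, y1]
  have w1 : E.z1 (E.h y) = -(E.h y) := by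
    rw [show E.z1 (E.h _) = E.h (E.z2 _) from ap D.z1h _, y2, map_neg]
  have w2 : E.z2 (E.h y) = E.h y := by
    rw [show E.z2 (E.h _) = E.h (E.z1 _) from ap D.z2h _, y1]
  have w3 := (mem_V2.1 (H.toV2 _ w1 w2)).2
  have w4 : E.z4 (E.h y) = E.h y := by
    rw [show E.z4 (E.h y) = E.h (E.z5 y) from ap D.z4h y, y5]
  rw [H.z4e, w3, map_neg, w2] at w4
  have := inj_h D _ (half H.two w4.symm)
  exact (sub_eq_zero.1 this).symm

theorem Good.a2_triv (x : V) (h1 : E.z1 x = x) : E.a2 x = x := by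
  have D := H.rel
  have e2 : E.a2 (x - E.z2 x) = x - E.z2 x := by
    apply H.C4
    · rw [map_sub, H.z1z2, h1]
    · rw [map_sub, H.z2z2]; abel
  have e1 : E.a2 (x + E.z2 x) = x + E.z2 x := by
    set x' := x + E.z2 x with hx'
    have w1 : E.z1 x' = x' := by rw [hx', map_add, H.z1z2, h1]
    have w2 : E.z2 x' = x' := by rw [hx', map_add, H.z2z2]; abel
    set y := x' - E.a2 x' with hy
    have y1 : E.z1 y = y := by rw [hy, map_sub, w1, H.z1a2, w1]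
    have y2 : E.z2 y = y := by rw [hy, map_sub, w2, H.z2a2, w2]
    have y3 : E.a2 y = -y := by rw [hy, map_sub, H.a2a2]; abel
    have u1 : E.z1 (E.b1 y) = E.b1 y := by rw [show E.z1 (E.b1 y) = E.b1 (E.z1 y) from ap D.z1b1 y, y1]
    have u2 : E.z2 (E.b1 y) = -(E.b1 y) := by
      rw [show E.z2 (E.b1 y) = E.b1 (E.z4 y) from ap D.z2b1 y, H.z4e, y3, map_neg, y2, map_neg]
    have u3 := H.C4 _ u1 u2
    rw [show E.a2 (E.b1 y) = E.b1 (E.a2 y) from ap D.a2b1 y, y3, map_neg] at u3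
    have := inj_b1 D _ (half H.two u3.symm)
    exact (sub_eq_zero.1 this).symm
  rw [map_add] at e1
  rw [map_sub] at e2
  have : (2 : K) • E.a2 x = (2 : K) • x := by
    have h3 : (2 : K) • E.a2 x = (E.a2 x + E.a2 (E.z2 x)) + (E.a2 x - E.a2 (E.z2 x)) := by module
    rw [h3, e1, e2]; module
  exact smul_right_injective V H.two this

theorem Good.y1_y1 (x : V) : E.y1 (E.y1 (E.y1 x)) = x := ap H.rel.y13 x
theorem Good.y2_y2 (x : V) : E.y2 (E.y2 (E.y2 x)) = x := ap H.rel.y23 x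
theorem Good.y1_Vp (x : V) (h1 : E.z1 x = x) : E.z1 (E.y1 x) = E.y1 x := by
  rw [show E.z1 (E.y1 x) = E.y1 (E.z1 x) from ap H.rel.z1y1 x, h1]
theorem Good.y2_Vp (x : V) (h1 : E.z1 x = x) : E.z1 (E.y2 x) = E.y2 x := by
  rw [show E.z1 (E.y2 x) = E.y2 (E.z1 x) from ap H.rel.z1y2 x, h1]

theorem Good.b1_triv (x : V) (h1 : E.z1 x = x) : E.b1 x = x := by
  have h3 := H.y1_Vp _ (H.y1_Vp x h1)
  have h4 : E.b1 (E.y1 (E.y1 (E.y1 x))) = E.y1 (E.z1 (E.a2 (E.y1 (E.y1 x)))) := ap H.rel.b1y1 _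
  rw [H.a2_triv _ h3, h3, H.y1_y1] at h4
  exact h4

theorem Good.b2_triv (x : V) (h1 : E.z1 x = x) : E.b2 x = x := by
  have h3 := H.y1_Vp _ (H.y1_Vp x h1)
  have h4 : E.b2 (E.y1 (E.y1 (E.y1 x))) = E.y1 (E.z1 (E.a1 (E.y1 (E.y1 x)))) := ap H.rel.b2y1 _
  rw [H.a1_triv _ h3, h3, H.y1_y1] at h4
  exact h4

theorem Good.a3_triv (x : V) (h1 : E.z1 x = x) : E.a3 x = x := by
  have h3 := H.y2_Vp _ (H.y2_Vp x h1)
  have h4 : E.a3 (E.y2 (E.y2 (E.y2 x))) = E.y2 (E.a2 (E.b2 (E.y2 (E.y2 x)))) := ap H.rel.a3y2 _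
  rw [H.b2_triv _ h3, H.a2_triv _ h3, H.y2_y2] at h4
  exact h4

theorem Good.b3_triv (x : V) (h1 : E.z1 x = x) : E.b3 x = x := by
  have h3 := H.y2_Vp _ (H.y2_Vp x h1)
  have h4 : E.b3 (E.y2 (E.y2 (E.y2 x))) = E.y2 (E.z1 (E.a1 (E.a2 (E.b1 (E.y2 (E.y2 x)))))) := ap H.rel.b3y2 _
  rw [H.b1_triv _ h3, H.a2_triv _ h3, H.a1_triv _ h3, h3, H.y2_y2] at h4
  exact h4

/-! ### `V0` -/

theorem Good.h_V0 {x : V} (hx : x ∈ V0 E) : E.h x ∈ V0 E := by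
  rw [mem_V0] at hx ⊢
  exact ⟨by rw [show E.z1 (E.h _) = E.h (E.z2 _) from ap H.rel.z1h _, hx.2],
    by rw [show E.z2 (E.h _) = E.h (E.z1 _) from ap H.rel.z2h _, hx.1]⟩

theorem Good.c_V0 {x : V} (hx : x ∈ V0 E) : E.c x ∈ V0 E := by
  rw [mem_V0] at hx ⊢
  exact ⟨by rw [show E.z1 (E.c _) = E.c (E.z1 _) from ap H.rel.z1c _, hx.1],
    by rw [show E.z2 (E.c _) = E.c (E.z2 _) from ap H.rel.z2c _, hx.2]⟩

theorem Good.h_h (x : V) : E.h (E.h x) = x := ap H.rel.hh x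

theorem Good.d1_V0 {x : V} (hx : x ∈ V0 E) : E.d1 x = x := by
  have h3 : E.d1 (E.h (E.h x)) = E.h (E.b1 (E.h x)) := ap H.rel.d1h _
  rw [H.b1_triv _ (mem_V0.1 (H.h_V0 hx)).1, H.h_h] at h3
  exact h3

theorem Good.d2_V0 {x : V} (hx : x ∈ V0 E) : E.d2 x = x := by
  have h3 : E.d2 (E.h (E.h x)) = E.h (E.b2 (E.h x)) := ap H.rel.d2h _
  rw [H.b2_triv _ (mem_V0.1 (H.h_V0 hx)).1, H.h_h] at h3
  exact h3

theorem Good.r1_V0 {x : V} (hx : x ∈ V0 E) : E.r1 x = x := by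
  have h3 : E.r1 (E.h (E.h x)) = E.h (E.a3 (E.h x)) := ap H.rel.r1h _
  rw [H.a3_triv _ (mem_V0.1 (H.h_V0 hx)).1, H.h_h] at h3
  exact h3

theorem Good.r2_V0 {x : V} (hx : x ∈ V0 E) : E.r2 x = x := by
  have h3 : E.r2 (E.h (E.h x)) = E.h (E.b3 (E.h x)) := ap H.rel.r2h _
  rw [H.b3_triv _ (mem_V0.1 (H.h_V0 hx)).1, H.h_h] at h3
  exact h3

theorem Good.hV0 {x : V} (hx : x ∈ V0 E) : E.h x = x := by
  have h1 := (mem_V0.1 hx).1
  rw [show E.h x = E.b2 (E.d2 (E.b2 x)) from ap H.rel.he x, H.b2_triv _ h1, H.d2_V0 hx, H.b2_triv _ h1]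

theorem Good.t_V0 {x : V} (hx : x ∈ V0 E) : E.t x = x := by
  have h1 := (mem_V0.1 hx).1
  rw [show E.t x = E.b2 (E.d1 (E.b1 (E.d2 x))) from ap H.rel.te' x, H.d2_V0 hx, H.b1_triv _ h1, H.d1_V0 hx,
    H.b2_triv _ h1]

/-- on `V0`, `c ∘ ze = 1` -/
theorem Good.cze_V0 {x : V} (hx : x ∈ V0 E) : E.c (E.ze x) = x := by
  rw [← show E.t x = E.c (E.ze x) from ap H.rel.te x, H.t_V0 hx]

/-! ### `V1` -/

theorem Good.h_V1 {x : V} (hx : x ∈ V1 E) : E.h x ∈ V2 E := by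
  rw [mem_V1] at hx
  apply H.toV2
  · rw [show E.z1 (E.h _) = E.h (E.z2 _) from ap H.rel.z1h _, hx.2, map_neg]
  · rw [show E.z2 (E.h _) = E.h (E.z1 _) from ap H.rel.z2h _, hx.1]

theorem Good.h_V2 {x : V} (hx : x ∈ V2 E) : E.h x ∈ V1 E := by
  rw [mem_V1]
  constructor
  · rw [show E.z1 (E.h _) = E.h (E.z2 _) from ap H.rel.z1h _, H.z2V2 x hx]
  · rw [show E.z2 (E.h _) = E.h (E.z1 _) from ap H.rel.z2h _, (mem_V2.1 hx).1.1, map_neg]

end good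

end Cfsg.Agent.H36.U52
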