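import Cfsg.Agent.H36.U52.Dims

/-!
# A vector and a functional adapted to the extraspecial group
-/

set_option autoImplicit false
set_option linter.unusedSectionVars false

namespace Cfsg.Agent.H36.U52

open Module

universe u v w

variable {K : Type u} {V : Type v} [Field K] [AddCommGroup V] [Module K V]

section words

variable {E : El (Module.End K V)} (D : Rel E) (x : V)
include D

theorem Rel.vz1z1 : E.z1 (E.z1 x) = x := ap D.z1z1 x
theorem Rel.vz1a1 : E.z1 (E.a1 x) = E.a1 (E.z1 x) := ap D.z1a1 x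
theorem Rel.vz1a2 : E.z1 (E.a2 x) = E.a2 (E.z1 x) := ap D.z1a2 x
theorem Rel.vz1a3 : E.z1 (E.a3 x) = E.a3 (E.z1 x) := ap D.z1a3 x
theorem Rel.vz1b1 : E.z1 (E.b1 x) = E.b1 (E.z1 x) := ap D.z1b1 x
theorem Rel.vz1b2 : E.z1 (E.b2 x) = E.b2 (E.z1 x) := ap D.z1b2 x
theorem Rel.vz1b3 : E.z1 (E.b3 x) = E.b3 (E.z1 x) := ap D.z1b3 x
theorem Rel.va1a1 : E.a1 (E.a1 x) = x := ap D.a1a1 x
theorem Rel.va2a2 : E.a2 (E.a2 x) = x := ap D.a2a2 x
theorem Rel.va3a3 : E.a3 (E.a3 x) = E.z1 x := ap D.a3a3 x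
theorem Rel.vb1b1 : E.b1 (E.b1 x) = x := ap D.b1b1 x
theorem Rel.vb2b2 : E.b2 (E.b2 x) = x := ap D.b2b2 x
theorem Rel.vb3b3 : E.b3 (E.b3 x) = E.z1 x := ap D.b3b3 x
theorem Rel.va2a1 : E.a2 (E.a1 x) = E.a1 (E.a2 x) := (ap D.a1a2 x).symm
theorem Rel.va3a1 : E.a3 (E.a1 x) = E.a1 (E.a3 x) := (ap D.a1a3 x).symm
theorem Rel.va3a2 : E.a3 (E.a2 x) = E.a2 (E.a3 x) := (ap D.a2a3 x).symm
theorem Rel.va1b1 : E.a1 (E.b1 x) = E.b1 (E.a1 (E.z1 x)) := by
  rw [show E.a1 (E.b1 x) = E.z1 (E.b1 (E.a1 x)) from ap D.a1b1 x, D.vz1b1, D.vz1a1]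
theorem Rel.va1b2 : E.a1 (E.b2 x) = E.b2 (E.a1 x) := ap D.a1b2 x
theorem Rel.va1b3 : E.a1 (E.b3 x) = E.b3 (E.a1 x) := ap D.a1b3 x
theorem Rel.va2b1 : E.a2 (E.b1 x) = E.b1 (E.a2 x) := ap D.a2b1 x
theorem Rel.va2b2 : E.a2 (E.b2 x) = E.b2 (E.a2 (E.z1 x)) := by
  rw [show E.a2 (E.b2 x) = E.z1 (E.b2 (E.a2 x)) from ap D.a2b2 x, D.vz1b2, D.vz1a2]
theorem Rel.va2b3 : E.a2 (E.b3 x) = E.b3 (E.a2 x) := ap D.a2b3 x
theorem Rel.va3b1 : E.a3 (E.b1 x) = E.b1 (E.a3 x) := ap D.a3b1 x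
theorem Rel.va3b2 : E.a3 (E.b2 x) = E.b2 (E.a3 x) := ap D.a3b2 x
theorem Rel.va3b3 : E.a3 (E.b3 x) = E.b3 (E.a3 (E.z1 x)) := by
  rw [show E.a3 (E.b3 x) = E.z1 (E.b3 (E.a3 x)) from ap D.a3b3 x, D.vz1b3, D.vz1a3]
theorem Rel.vb2b1 : E.b2 (E.b1 x) = E.b1 (E.b2 x) := (ap D.b1b2 x).symm
theorem Rel.vb3b1 : E.b3 (E.b1 x) = E.b1 (E.b3 x) := (ap D.b1b3 x).symm
theorem Rel.vb3b2 : E.b3 (E.b2 x) = E.b2 (E.b3 x) := (ap D.b2b3 x).symm

end words

/-- 16 times the projection onto `X` -/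
def pX (E : El (Module.End K V)) (i : K) (x : V) : V :=
  let x1 := x - i • E.a3 x
  let x2 := x1 - E.a2 x1
  let x3 := x2 - E.a1 x2
  x3 - E.z1 x3
/-- 8 times the projection onto `V2` -/
def p3 (E : El (Module.End K V)) (x : V) : V :=
  let x2 := x - E.a2 x
  let x3 := x2 - E.a1 x2
  x3 - E.z1 x3
/-- 4 times the projection onto `V3` -/
def p4 (E : El (Module.End K V)) (x : V) : V :=
  let x3 := x - E.a1 x
  x3 - E.z1 x3

variable {E : El (Module.End K V)} {i : K}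

theorem res1 (D : Rel E) (x : V) : p4 E x + E.b1 (p4 E (E.b1 x)) = (2 : K) • (x - E.z1 x) := by
  simp only [p4, map_sub, map_add, map_smul, D.vz1z1, D.vz1a1, D.vz1b1, D.va1b1, D.vb1b1]
  module

theorem res2 (D : Rel E) (x : V) : p3 E x + E.b2 (p3 E (E.b2 x)) = (2 : K) • (p4 E x) := by
  simp only [p3, p4, map_sub, map_add, map_smul, D.vz1z1, D.vz1a1, D.vz1b2, D.va1b2, D.vb2b2, D.vz1a2, D.va2a1,
    D.va2b2]
  module

theorem res3 (D : Rel E) (x : V) : pX E i x + E.b3 (pX E i (E.b3 (E.z1 x))) = (2 : K) • (p3 E x) := by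
  simp only [pX, p3, map_sub, map_add, map_smul, D.vz1z1, D.vz1a1, D.vz1b3, D.va1b3, D.vb3b3, D.vz1a2, D.va2a1,
    D.va2b3, D.va3a1, D.va3a2, D.vz1a3, D.va3b3]
  module

theorem pX_lin (x y : V) (k : K) : pX E i (x + k • y) = pX E i x + k • pX E i y := by
  simp only [pX, map_sub, map_add, map_smul]
  module

theorem pX_z1 (D : Rel E) (x : V) : pX E i (E.z1 x) = - pX E i x := by
  simp only [pX, map_sub, map_add, map_smul, D.vz1z1, D.vz1a1, D.vz1a2, D.va2a1, D.va3a1, D.va3a2, D.vz1a3]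
  module

theorem pX_a1 (D : Rel E) (x : V) : pX E i (E.a1 x) = - pX E i x := by
  simp only [pX, map_sub, map_add, map_smul, D.vz1z1, D.vz1a1, D.vz1a2, D.va2a1, D.va3a1, D.va3a2, D.vz1a3, D.va1a1]
  module

theorem pX_a2 (D : Rel E) (x : V) : pX E i (E.a2 x) = - pX E i x := by
  simp only [pX, map_sub, map_add, map_smul, D.vz1z1, D.vz1a1, D.vz1a2, D.va2a1, D.va3a1, D.va3a2, D.vz1a3, D.va2a2]
  module

theorem pX_a3 (D : Rel E) (hi : i * i = -1) (x : V) : pX E i (E.a3 x) = i • pX E i x := by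
  simp only [pX, map_sub, map_add, map_smul, D.vz1z1, D.vz1a1, D.vz1a2, D.va2a1, D.va3a1, D.va3a2, D.vz1a3, D.va3a3,
    smul_sub, smul_smul, hi]
  module

theorem pX_mem (D : Rel E) (hi : i * i = -1) (x : V) : pX E i x ∈ X E i := by
  rw [mem_X]
  refine ⟨⟨⟨?_, ?_⟩, ?_⟩, ?_⟩
  · simp only [pX, map_sub, map_add, map_smul, D.vz1z1, D.vz1a1, D.vz1a2, D.va2a1, D.va3a1, D.va3a2, D.vz1a3]
    module
  · simp only [pX, map_sub, map_add, map_smul, D.vz1z1, D.vz1a1, D.vz1a2, D.va2a1, D.va3a1, D.va3a2, D.vz1a3, D.va1a1]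
    module
  · simp only [pX, map_sub, map_add, map_smul, D.vz1z1, D.vz1a1, D.vz1a2, D.va2a1, D.va3a1, D.va3a2, D.vz1a3, D.va2a2]
    module
  · simp only [pX, map_sub, map_add, map_smul, D.vz1z1, D.vz1a1, D.vz1a2, D.va2a1, D.va3a1, D.va3a2, D.vz1a3, D.va3a3,
      smul_sub, smul_smul, hi]
    module

theorem pX_of_mem (hi : i * i = -1) {x : V} (hx : x ∈ X E i) : pX E i x = (16 : K) • x := by
  rw [mem_X] at hx
  obtain ⟨⟨⟨h1, h2⟩, h3⟩, h4⟩ := hx
  simp only [pX, map_sub, map_smul, h1, h2, h3, h4, map_neg, smul_smul, hi]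
  module

/-- a vector spanning `X` and the coordinate functional of the projection onto `X` -/
structure Frame (E : El (Module.End K V)) (i : K) where
  v : V
  f : V →ₗ[K] K
  hv : v ∈ X E i
  fv : f v = 1
  hf : ∀ x, (16 * f x) • v = pX E i x

/-- the projection as a linear map -/
def pXl (E : El (Module.End K V)) (i : K) : V →ₗ[K] V where
  toFun := pX E i
  map_add' x y := by
    have := pX_lin (E := E) (i := i) x y 1
    rwa [one_smul, one_smul] at this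
  map_smul' k x := by
    have := pX_lin (E := E) (i := i) 0 x k
    rw [zero_add] at this
    rw [this, RingHom.id_apply]
    simp [pX]

variable [FiniteDimensional K V]

theorem sixteen (h2 : (2 : K) ≠ 0) : (16 : K) ≠ 0 := by
  have : (16 : K) = 2 * 2 * 2 * 2 := by norm_num
  rw [this]
  exact mul_ne_zero (mul_ne_zero (mul_ne_zero h2 h2) h2) h2

theorem exists_frame (H : Good E i) : Nonempty (Frame E i) := by
  have h16 := sixteen H.two
  let e : X E i ≃ₗ[K] K := LinearEquiv.ofFinrankEq _ _ (by rw [H.dimX, finrank_self])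
  let q : V →ₗ[K] X E i := LinearMap.codRestrict (X E i) ((16 : K)⁻¹ • pXl E i) (fun x => by
    rw [LinearMap.smul_apply]
    exact (X E i).smul_mem _ (pX_mem H.rel H.hi x))
  have hq : ∀ x, (q x : V) = (16 : K)⁻¹ • pX E i x := fun x => rfl
  refine ⟨⟨(e.symm 1 : X E i), e.toLinearMap ∘ₗ q, (e.symm 1).2, ?_, ?_⟩⟩
  · have h1 : q ((e.symm 1 : X E i) : V) = e.symm 1 := by
      apply Subtype.ext
      rw [hq, pX_of_mem H.hi (e.symm 1).2, smul_smul, inv_mul_cancel₀ h16, one_smul]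
    rw [LinearMap.comp_apply, h1]
    exact e.apply_symm_apply 1
  · intro x
    rw [LinearMap.comp_apply]
    have h1 : (e (q x)) • (e.symm 1 : X E i) = q x := by
      apply e.injective
      rw [map_smul, e.apply_symm_apply, smul_eq_mul, mul_one]
    have h2 := congrArg Subtype.val h1
    rw [Submodule.coe_smul, hq] at h2
    rw [mul_smul]
    have h3 : e.toLinearMap (q x) = e (q x) := rfl
    rw [h3, h2, smul_smul, mul_inv_cancel₀ h16, one_smul]

section frame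

variable (H : Good E i) (F : Frame E i)
include H

theorem Frame.ne : F.v ≠ 0 := by
  intro h
  have := F.fv
  rw [h, map_zero] at this
  exact zero_ne_one this

theorem Frame.f_of (F : Frame E i) {T : Module.End K V} {k : K} (h : ∀ x, pX E i (T x) = k • pX E i x) (x : V) :
    F.f (T x) = k * F.f x := by
  have h1 := F.hf (T x)
  rw [h, ← F.hf x, smul_smul, ← sub_eq_zero, ← sub_smul] at h1
  have h2 := (smul_eq_zero.1 h1).resolve_right (Frame.ne H F)
  have h3 : (16 : K) * (F.f (T x) - k * F.f x) = 0 := by linear_combination h2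
  exact sub_eq_zero.1 ((mul_eq_zero.1 h3).resolve_left (sixteen H.two))

theorem Frame.f_z1 (x : V) : F.f (E.z1 x) = - F.f x := by
  rw [Frame.f_of H F (T := E.z1) (k := -1) (fun x => by rw [pX_z1 H.rel, neg_one_smul]), neg_one_mul]

theorem Frame.f_a1 (x : V) : F.f (E.a1 x) = - F.f x := by
  rw [Frame.f_of H F (T := E.a1) (k := -1) (fun x => by rw [pX_a1 H.rel, neg_one_smul]), neg_one_mul]

theorem Frame.f_a2 (x : V) : F.f (E.a2 x) = - F.f x := by
  rw [Frame.f_of H F (T := E.a2) (k := -1) (fun x => by rw [pX_a2 H.rel, neg_one_smul]), neg_one_mul]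

theorem Frame.f_a3 (x : V) : F.f (E.a3 x) = i * F.f x :=
  Frame.f_of H F (T := E.a3) (k := i) (fun x => pX_a3 H.rel H.hi x) x

theorem pX_z2 (x : V) : pX E i (E.z2 x) = pX E i x := by
  have h1 := H.z2V2 _ (pX_mem H.rel H.hi x).1
  have h2 : E.z2 (pX E i x) = pX E i (E.z2 x) := by
    simp only [pX, map_sub, map_smul, show ∀ y, E.z2 (E.a3 y) = E.a3 (E.z2 y) from fun y => ap H.rel.z2a3 y,
      show ∀ y, E.z2 (E.a2 y) = E.a2 (E.z2 y) from fun y => ap H.rel.z2a2 y,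
      show ∀ y, E.z2 (E.a1 y) = E.a1 (E.z2 y) from fun y => ap H.rel.z2a1 y,
      show ∀ y, E.z2 (E.z1 y) = E.z1 (E.z2 y) from fun y => (ap H.rel.z1z2 y).symm]
  rw [← h2, h1]

theorem Frame.f_z2 (x : V) : F.f (E.z2 x) = F.f x := by
  rw [Frame.f_of H F (T := E.z2) (k := 1) (fun x => by rw [pX_z2 H, one_smul]), one_mul]

/-- the joint eigenspace is spanned by `v` -/
theorem Frame.eq_of_mem {x : V} (hx : x ∈ X E i) : x = F.f x • F.v := by
  have h1 := F.hf x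
  rw [pX_of_mem H.hi hx, mul_smul] at h1
  exact (smul_right_injective V (sixteen H.two) h1).symm

end frame

end Cfsg.Agent.H36.U52
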