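import Cfsg.Agent.H36.U52.Concrete
import Cfsg.Agent.H36.U52.Compare
import Cfsg.Agent.LieClassical.FieldTransfer

/-!
# The seven elements generate `SU_5(2)`; transfer to `PSU_5(2)`
-/

set_option autoImplicit false
set_option maxRecDepth 100000

namespace Cfsg.Agent.H36.U52

open Matrix Cfsg Cfsg.Agent.Lib.FieldFour Cfsg.Agent.H674.SUTools Cfsg.Agent.LieClassical
open Cfsg.Agent.ClassicalGeometry.UnitTransv

theorem nrm_eq (x : Fin 5 → F4) : hermForm 5 F4 2 x x = nrm x := by
  rw [hermForm, Fin.sum_univ_five]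
  rfl

/-- conjugate of a transvection -/
theorem conj_ut {s A : SU 5 F4 2} {x : Fin 5 → F4} {c : F4} (h : cm A = unitaryTransvection 5 2 x c) :
    cm (s * A * s⁻¹) = unitaryTransvection 5 2 (cm s *ᵥ x) c := by
  apply Matrix.ext_of_mulVec_single
  intro i
  have h1 : ∀ y, cm (s * A * s⁻¹) *ᵥ y = act s (act A (act s⁻¹ y)) := by
    intro y
    rw [← act_mul, ← act_mul, mul_assoc]; rfl
  rw [h1]
  have h2 : act A (act s⁻¹ (Pi.single i 1)) = unitaryTransvection 5 2 x c *ᵥ (act s⁻¹ (Pi.single i 1)) := by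
    rw [← h]; rfl
  rw [h2, unitaryTransvection_mulVec, unitaryTransvection_mulVec, act_add, act_smul, act_act_inv]
  congr 3
  rw [← herm_act s, act_act_inv]
  rfl

theorem base_mat (l c : F4) (h : (unitaryTransvection 5 2 (e1 l) c)ᵀ * (unitaryTransvection 5 2 (e1 l) c).map
    (fun x => x ^ 2) = 1) : unitaryTransvection 5 2 (e1 l) c = 1 ∨ unitaryTransvection 5 2 (e1 l) c = Mat.m_z1 := by
  revert l c
  unfold unitaryTransvection
  decide +kernel

theorem mem_gens (j : Fin 7) : gs j ∈ gens suEl := by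
  fin_cases j <;> simp [gs, gens, suEl]

theorem ut_mem : ∀ (n : ℕ) (x : Fin 5 → F4), depth x ≤ n → hermForm 5 F4 2 x x = 0 → ∀ (A : SU 5 F4 2) (c : F4),
    cm A = unitaryTransvection 5 2 x c → A ∈ Subgroup.closure (gens suEl) := by
  intro n
  induction n with
  | zero =>
    intro x hx hxx A c hA
    have hx5 : x = ![x 0, x 1, x 2, x 3, x 4] := by ext j; fin_cases j <;> rfl
    rcases step (x 0) (x 1) (x 2) (x 3) (x 4) (by rw [← hx5, ← nrm_eq]; exact hxx) with ⟨l, hl⟩ | ⟨j, hj⟩
    · rw [← hx5] at hl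
      subst hl
      have h1 := cm_isom hF4 A
      rw [hA] at h1
      rcases base_mat l c h1 with h | h
      · rw [h] at hA
        rw [(cm_eq_one_iff A).1 hA]
        exact one_mem _
      · rw [h] at hA
        have h2 : A = s_z1 := cm_injective hA
        have h3 : s_z1 = s_a3 * s_a3 := rel_su.a3a3.symm
        rw [h2, h3]
        have h4 : s_a3 ∈ Subgroup.closure (gens suEl) := Subgroup.subset_closure (mem_gens 3)
        exact mul_mem h4 h4
    · rw [← hx5] at hj
      omega
  | succ n ih =>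
    intro x hx hxx A c hA
    have hx5 : x = ![x 0, x 1, x 2, x 3, x 4] := by ext j; fin_cases j <;> rfl
    rcases step (x 0) (x 1) (x 2) (x 3) (x 4) (by rw [← hx5, ← nrm_eq]; exact hxx) with ⟨l, hl⟩ | ⟨j, hj⟩
    · rw [← hx5] at hl
      subst hl
      have h1 := cm_isom hF4 A
      rw [hA] at h1
      rcases base_mat l c h1 with h | h
      · rw [h] at hA
        rw [(cm_eq_one_iff A).1 hA]
        exact one_mem _
      · rw [h] at hA
        have h2 : A = s_z1 := cm_injective hA
        have h3 : s_z1 = s_a3 * s_a3 := rel_su.a3a3.symm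
        rw [h2, h3]
        have h4 : s_a3 ∈ Subgroup.closure (gens suEl) := Subgroup.subset_closure (mem_gens 3)
        exact mul_mem h4 h4
    · rw [← hx5] at hj
      have hs : gs j ∈ Subgroup.closure (gens suEl) := Subgroup.subset_closure (mem_gens j)
      have h1 := ih (gm j *ᵥ x) (by omega) (by
        rw [← cm_gs]
        have := herm_act (gs j) x x
        rw [hxx] at this
        exact this) (gs j * A * (gs j)⁻¹) c (by rw [conj_ut hA, cm_gs])
      have h2 : A = (gs j)⁻¹ * (gs j * A * (gs j)⁻¹) * gs j := by group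
      rw [h2]
      exact mul_mem (mul_mem (inv_mem hs) h1) hs

theorem closure_gens : Subgroup.closure (gens suEl) = ⊤ := by
  rw [eq_top_iff, ← Cfsg.Agent.S0780.result hF4 5 (by norm_num) (by norm_num), Subgroup.closure_le]
  rintro A ⟨v, c, hv, hA⟩
  exact ut_mem _ v le_rfl hv A c hA

theorem gens_map {G H : Type*} (E : El G) (f : G → H) : gens (E.map f) = f '' gens E := by
  simp only [gens, El.map, Set.image_insert_eq, Set.image_singleton]

theorem closure_map {G H : Type*} [Group G] [Group H] {E : El G} (h : Subgroup.closure (gens E) = ⊤) (f : G →* H)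
    (hf : Function.Surjective f) : Subgroup.closure (gens (E.map f)) = ⊤ := by
  rw [gens_map, ← MonoidHom.map_closure, h, ← MonoidHom.range_eq_map, MonoidHom.range_eq_top.2 hf]

theorem map_map' {G H L : Type*} (E : El G) (f : G → H) (g : H → L) : (E.map f).map g = E.map (g ∘ f) := rfl

theorem z1_not_center : s_z1 ∉ Subgroup.center (SU 5 F4 2) := by
  intro h
  have h1 : s_h * s_z1 = s_z1 * s_h := Subgroup.mem_center_iff.1 h s_h
  have h2 := congrArg cm h1
  rw [map_mul, map_mul] at h2
  revert h2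
  change ¬ (Mat.m_h * Mat.m_z1 = Mat.m_z1 * Mat.m_h)
  decide +kernel

/-- **the data in a group isomorphic to `PSU_5(2)`** -/
theorem exists_data {F : Type} [Field F] [Fintype F] (hF : Fintype.card F = 4) {P : Type*} [Group P]
    (e : P ≃* PSU 5 F 2) : ∃ E : El P, Rel E ∧ Subgroup.closure (gens E) = ⊤ ∧ E.z1 ≠ 1 := by
  let f : SU 5 F4 2 →* P :=
    (e.symm.toMonoidHom.comp (FieldTransfer.psuCongr 5 2 (equivOfCard hF)).symm.toMonoidHom).comp
      (QuotientGroup.mk' (Subgroup.center (SU 5 F4 2)))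
  have hf : Function.Surjective f :=
    (e.symm.surjective.comp (FieldTransfer.psuCongr 5 2 (equivOfCard hF)).symm.surjective).comp
      (QuotientGroup.mk'_surjective _)
  refine ⟨suEl.map f, rel_su.map f, closure_map closure_gens f hf, ?_⟩
  intro h
  apply z1_not_center
  have h1 : f s_z1 = 1 := h
  have h2 : (FieldTransfer.psuCongr 5 2 (equivOfCard hF)).symm (QuotientGroup.mk' (Subgroup.center (SU 5 F4 2)) s_z1) = 1 :=
    (MulEquiv.map_eq_one_iff e.symm).1 h1
  have h3 := (MulEquiv.map_eq_one_iff (FieldTransfer.psuCongr 5 2 (equivOfCard hF)).symm).1 h2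
  exact (QuotientGroup.eq_one_iff _).1 h3

end Cfsg.Agent.H36.U52
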