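import Mathlib

/-!
# Linear algebra: splitting and doubling of dimensions
-/

set_option autoImplicit false
set_option linter.unusedSectionVars false

namespace Cfsg.Agent.H36.U52

open Module

universe u v w

variable {K : Type u} {V : Type v} [Field K] [AddCommGroup V] [Module K V]

/-- the eigenspace -/
abbrev ES (T : Module.End K V) (α : K) : Submodule K V := Module.End.eigenspace T α

theorem mem_ES {T : Module.End K V} {α : K} {x : V} : x ∈ ES T α ↔ T x = α • x := Module.End.mem_eigenspace_iff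

variable [FiniteDimensional K V]

theorem finrank_add {W W1 W2 : Submodule K V} (h1 : W1 ≤ W) (h2 : W2 ≤ W) (hd : ∀ x, x ∈ W1 → x ∈ W2 → x = 0)
    (hs : ∀ x ∈ W, ∃ y ∈ W1, x - y ∈ W2) : finrank K W = finrank K W1 + finrank K W2 := by
  have h3 : W1 ⊔ W2 = W := by
    apply le_antisymm (sup_le h1 h2)
    intro x hx
    obtain ⟨y, hy, hxy⟩ := hs x hx
    rw [Submodule.mem_sup]
    exact ⟨y, hy, x - y, hxy, by abel⟩
  have h4 : W1 ⊓ W2 = ⊥ := by
    rw [Submodule.eq_bot_iff]
    intro x hx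
    exact hd x hx.1 hx.2
  have h5 := Submodule.finrank_sup_add_finrank_inf_eq W1 W2
  rw [h3, h4, finrank_bot, add_zero] at h5
  exact h5

/-- a subspace stable under an operator with two eigenvalues -/
theorem finrank_split (W : Submodule K V) (T : Module.End K V) (α β : K) (hαβ : α ≠ β) (hW : ∀ x ∈ W, T x ∈ W)
    (hT : ∀ x ∈ W, T (T x) = (α + β) • T x - (α * β) • x) :
    finrank K W = finrank K ↥(W ⊓ ES T α) + finrank K ↥(W ⊓ ES T β) := by
  have hne : α - β ≠ 0 := sub_ne_zero.2 hαβ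
  apply finrank_add inf_le_left inf_le_left
  · intro x hx hx'
    have h1 := mem_ES.1 hx.2
    have h2 := mem_ES.1 hx'.2
    have h3 : (α - β) • x = 0 := by rw [sub_smul, ← h1, ← h2, sub_self]
    exact (smul_eq_zero.1 h3).resolve_left hne
  · intro x hx
    refine ⟨(α - β)⁻¹ • (T x - β • x), ⟨W.smul_mem _ (W.sub_mem (hW x hx) (W.smul_mem _ hx)), ?_⟩, ?_, ?_⟩
    · refine mem_ES.2 ?_
      rw [map_smul, map_sub, map_smul, hT x hx, smul_comm α]
      congr 1
      module
    · exact W.sub_mem hx (W.smul_mem _ (W.sub_mem (hW x hx) (W.smul_mem _ hx)))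
    · have h1 : x - (α - β)⁻¹ • (T x - β • x) = (α - β)⁻¹ • (α • x - T x) := by
        have h2 : x = (α - β)⁻¹ • ((α - β) • x) := by rw [smul_smul, inv_mul_cancel₀ hne, one_smul]
        nth_rewrite 1 [h2]
        rw [← smul_sub]
        congr 1
        module
      have h3 : x - (α - β)⁻¹ • (T x - β • x) ∈ ES T β := by
        rw [h1, mem_ES, map_smul, map_sub, map_smul, hT x hx, smul_comm β]
        congr 1
        module
      exact h3

/-- an operator `T` with `T² = 1` -/
theorem finrank_invol (W : Submodule K V) (T : Module.End K V) (h2 : (2 : K) ≠ 0) (hW : ∀ x ∈ W, T x ∈ W)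
    (hT : ∀ x ∈ W, T (T x) = x) : finrank K W = finrank K ↥(W ⊓ ES T 1) + finrank K ↥(W ⊓ ES T (-1)) := by
  apply finrank_split W T 1 (-1) _ hW
  · intro x hx
    rw [hT x hx]
    module
  · intro h
    apply h2
    linear_combination h

theorem finrank_le_of_maps {W1 W2 : Submodule K V} (B : Module.End K V) (hB : ∀ x, B x = 0 → x = 0)
    (h : ∀ x ∈ W1, B x ∈ W2) : finrank K W1 ≤ finrank K W2 := by
  have hinj : Function.Injective (B.restrict h) := by
    rw [← LinearMap.ker_eq_bot, Submodule.eq_bot_iff]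
    intro x hx
    have h1 := congrArg Subtype.val (LinearMap.mem_ker.1 hx)
    exact Subtype.ext (hB _ h1)
  exact LinearMap.finrank_le_finrank_of_injective hinj

theorem finrank_eq_of_maps {W1 W2 : Submodule K V} (B B' : Module.End K V) (hB : ∀ x, B x = 0 → x = 0)
    (hB' : ∀ x, B' x = 0 → x = 0)
    (h : ∀ x ∈ W1, B x ∈ W2) (h' : ∀ x ∈ W2, B' x ∈ W1) : finrank K W1 = finrank K W2 :=
  le_antisymm (finrank_le_of_maps B hB h) (finrank_le_of_maps B' hB' h')

/-- the dimension doubles -/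
theorem finrank_double (W : Submodule K V) (T B : Module.End K V) (α β : K) (hαβ : α ≠ β) (hW : ∀ x ∈ W, T x ∈ W)
    (hT : ∀ x ∈ W, T (T x) = (α + β) • T x - (α * β) • x) (hBW : ∀ x ∈ W, B x ∈ W)
    (hB : ∀ x, B x = 0 → x = 0) (h1 : ∀ x ∈ W, T x = α • x → T (B x) = β • B x)
    (h2 : ∀ x ∈ W, T x = β • x → T (B x) = α • B x) :
    finrank K W = 2 * finrank K ↥(W ⊓ ES T α) := by
  rw [finrank_split W T α β hαβ hW hT]
  have h3 : finrank K ↥(W ⊓ ES T α) = finrank K ↥(W ⊓ ES T β) := by
    apply finrank_eq_of_maps B B hB hB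
    · intro x hx
      exact ⟨hBW x hx.1, mem_ES.2 (h1 x hx.1 (mem_ES.1 hx.2))⟩
    · intro x hx
      exact ⟨hBW x hx.1, mem_ES.2 (h2 x hx.1 (mem_ES.1 hx.2))⟩
  omega

/-- an operator with `T³ = 1` -/
theorem finrank_three (W : Submodule K V) (T : Module.End K V) (ω : K) (hω : ω ^ 2 + ω + 1 = 0) (h3 : (3 : K) ≠ 0)
    (hW : ∀ x ∈ W, T x ∈ W) (hT : ∀ x ∈ W, T (T (T x)) = x) :
    finrank K W = finrank K ↥(W ⊓ ES T 1) + finrank K ↥(W ⊓ ES T ω) + finrank K ↥(W ⊓ ES T (ω ^ 2)) := by
  set W1 : Submodule K V := W ⊓ LinearMap.ker (T ^ 2 + T + 1) with hW1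
  have mem1 : ∀ x, x ∈ W1 ↔ x ∈ W ∧ T (T x) + T x + x = 0 := by
    intro x
    rw [hW1, Submodule.mem_inf, LinearMap.mem_ker]
    simp only [pow_two, LinearMap.add_apply, Module.End.mul_apply, Module.End.one_apply]
  have e1 : finrank K W = finrank K ↥(W ⊓ ES T 1) + finrank K W1 := by
    apply finrank_add inf_le_left inf_le_left
    · intro x hx hx'
      have h4 := mem_ES.1 hx.2
      rw [one_smul] at h4
      have h5 := ((mem1 x).1 hx').2
      rw [h4, h4] at h5
      have h6 : (3 : K) • x = 0 := by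
        rw [← h5]; module
      exact (smul_eq_zero.1 h6).resolve_left h3
    · intro x hx
      refine ⟨(3 : K)⁻¹ • (T (T x) + T x + x), ⟨?_, ?_⟩, ?_⟩
      · exact W.smul_mem _ (W.add_mem (W.add_mem (hW _ (hW _ hx)) (hW _ hx)) hx)
      · refine mem_ES.2 ?_
        rw [one_smul, map_smul, map_add, map_add, hT x hx]
        congr 1
        abel
      · rw [mem1]
        refine ⟨W.sub_mem hx (W.smul_mem _ (W.add_mem (W.add_mem (hW _ (hW _ hx)) (hW _ hx)) hx)), ?_⟩
        have h7 := hT x hx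
        have h8 : T (T (T (T x))) = T x := by rw [h7]
        simp only [map_sub, map_smul, map_add, h7]
        have h9 : (T (T x) + T x + x) = (3 : K)⁻¹ • ((3 : K) • (T (T x) + T x + x)) := by
          rw [smul_smul, inv_mul_cancel₀ h3, one_smul]
        have h10 : T (T x) - (3 : K)⁻¹ • (T x + x + T (T x)) + (T x - (3 : K)⁻¹ • (x + T (T x) + T x)) +
            (x - (3 : K)⁻¹ • (T (T x) + T x + x)) = (T (T x) + T x + x) -
              (3 : K)⁻¹ • ((3 : K) • (T (T x) + T x + x)) := by module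
        rw [h10, ← h9, sub_self]
  have hωω : ω ≠ ω ^ 2 := by
    intro h
    have h0 : ω ≠ 0 := by rintro rfl; simp at hω
    have h1 : ω = 1 := by
      have : ω * (ω - 1) = 0 := by linear_combination -h
      rcases mul_eq_zero.1 this with h | h
      · exact absurd h h0
      · linear_combination h
    rw [h1] at hω
    apply h3
    linear_combination hω
  have e2 := finrank_split W1 T ω (ω ^ 2) hωω (by
    intro x hx
    rw [mem1] at hx ⊢
    refine ⟨hW x hx.1, ?_⟩
    rw [← map_add, ← map_add, hx.2, map_zero]) (by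
    intro x hx
    have h1 := ((mem1 x).1 hx).2
    have h2 : T (T x) = -(T x) - x := by
      have : T (T x) = (T (T x) + T x + x) - T x - x := by abel
      rw [this, h1]; abel
    rw [h2]
    have h4 : ω + ω ^ 2 = -1 := by linear_combination hω
    have h5 : ω * ω ^ 2 = 1 := by linear_combination (ω - 1) * hω
    rw [h4, h5]
    module)
  have sub : ∀ β : K, β ^ 2 + β + 1 = 0 → W1 ⊓ ES T β = W ⊓ ES T β := by
    intro β hβ
    ext x
    simp only [Submodule.mem_inf, mem1, mem_ES]
    constructor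
    · rintro ⟨⟨h1, _⟩, h2⟩
      exact ⟨h1, h2⟩
    · rintro ⟨h1, h2⟩
      refine ⟨⟨h1, ?_⟩, h2⟩
      rw [h2, map_smul, h2]
      have : β • β • x + β • x + x = (β ^ 2 + β + 1) • x := by module
      rw [this, hβ, zero_smul]
  rw [e1, e2, sub ω hω, sub (ω ^ 2) (by linear_combination (ω ^ 2 - ω + 1) * hω)]
  omega

end Cfsg.Agent.H36.U52
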