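import Cfsg.Agent.H36.U52.Tr
import Cfsg.Agent.H36.U52.Gen

/-!
# Matrix representations of degree at most 12
-/

set_option autoImplicit false
set_option linter.unusedSectionVars false

namespace Cfsg.Agent.H36.U52

open Module Matrix

universe u v w

variable {K : Type u} [Field K] {n : ℕ} {P : Type w} [Group P]

/-- the representation on column vectors -/
def en (r : P →* Matrix (Fin n) (Fin n) K) : P →* Module.End K (Fin n → K) :=
  (Matrix.toLinAlgEquiv' : Matrix (Fin n) (Fin n) K ≃ₐ[K] ((Fin n → K) →ₗ[K] (Fin n → K))).toMonoidHom.comp r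

theorem en_apply (r : P →* Matrix (Fin n) (Fin n) K) (g : P) : en r g = Matrix.toLin' (r g) := rfl

theorem en_vec (r : P →* Matrix (Fin n) (Fin n) K) (g : P) (x : Fin n → K) : en r g x = r g *ᵥ x := rfl

theorem trace_en (r : P →* Matrix (Fin n) (Fin n) K) (g : P) :
    LinearMap.trace K _ (en r g) = (r g).trace := by
  rw [en_apply, Matrix.trace_toLin'_eq]

/-- what we need of a matrix representation -/
structure Rp (E : El P) (r : P →* Matrix (Fin n) (Fin n) K) : Prop where
  span : Submodule.span K (Set.range r) = ⊤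
  det : ∀ g, (r g).det = 1
  z1 : r E.z1 ≠ 1

theorem irr_of_span {r : P →* Matrix (Fin n) (Fin n) K} (h : Submodule.span K (Set.range r) = ⊤)
    (W : Submodule K (Fin n → K)) (hW : ∀ g, ∀ x ∈ W, en r g x ∈ W) : W = ⊥ ∨ W = ⊤ := by
  by_cases hb : W = ⊥
  · exact Or.inl hb
  · right
    obtain ⟨w, hw, hw0⟩ := Submodule.exists_mem_ne_zero_of_ne_bot hb
    obtain ⟨j, hj⟩ : ∃ j, w j ≠ 0 := by
      by_contra hc
      push Not at hc
      exact hw0 (funext hc)
    let S : Submodule K (Matrix (Fin n) (Fin n) K) :=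
      { carrier := {M | ∀ x ∈ W, M *ᵥ x ∈ W}
        add_mem' := fun {A B} hA hB x hx => by
          rw [Matrix.add_mulVec]
          exact W.add_mem (hA x hx) (hB x hx)
        zero_mem' := fun x _ => by rw [Matrix.zero_mulVec]; exact W.zero_mem
        smul_mem' := fun c A hA x hx => by
          rw [Matrix.smul_mulVec]
          exact W.smul_mem _ (hA x hx) }
    have hS : S = ⊤ := by
      rw [eq_top_iff, ← h, Submodule.span_le]
      rintro _ ⟨g, rfl⟩ x hx
      exact hW g x hx
    rw [eq_top_iff]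
    intro x _
    have h1 : Matrix.vecMulVec x (Pi.single j (w j)⁻¹) ∈ S := by rw [hS]; trivial
    have h2 := h1 w hw
    rw [Matrix.vecMulVec_mulVec, single_dotProduct, inv_mul_cancel₀ hj] at h2
    simpa using h2

theorem irr7_of_span [Finite P] {r : P →* Matrix (Fin n) (Fin n) K}
    (h : Submodule.span K (Set.range r) = ⊤) {E : El P} (hg : Subgroup.closure (gens E) = ⊤) :
    Irr7 (E.map (en r)) := by
  intro W h1 h2 h3 h4 h5 h6 h7
  apply irr_of_span h
  have key : ∀ g ∈ Subgroup.closure (gens E), ∀ x ∈ W, en r g x ∈ W := by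
    intro g hg
    induction hg using Subgroup.closure_induction with
    | mem g hg =>
      rcases hg with rfl | rfl | rfl | rfl | rfl | rfl | rfl
      · exact h1
      · exact h2
      · exact h3
      · exact h4
      · exact h5
      · exact h6
      · exact h7
    | one => intro x hx; rw [map_one]; exact hx
    | mul a b _ _ ha hb => intro x hx; rw [ract]; exact ha _ (hb _ hx)
    | inv a _ ha =>
      have hp : ∀ k : ℕ, ∀ x ∈ W, en r (a ^ k) x ∈ W := by
        intro k
        induction k with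
        | zero => intro x hx; rw [pow_zero, map_one]; exact hx
        | succ k ih => intro x hx; rw [pow_succ, ract]; exact ih _ (ha x hx)
      have h8 : a⁻¹ = a ^ (orderOf a - 1) := by
        rw [inv_eq_iff_mul_eq_one, ← pow_succ', Nat.sub_add_cancel (orderOf_pos a), pow_orderOf_eq_one]
      rw [h8]
      exact hp _
  intro g x hx
  exact key g (by rw [hg]; trivial) x hx

section ac

variable [IsAlgClosed K] [Finite P] (h2 : (2 : K) ≠ 0) {E : El P} (D : Rel E)
  (hg : Subgroup.closure (gens E) = ⊤)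

theorem exists_i : ∃ i : K, i * i = -1 := by
  obtain ⟨z, hz⟩ := IsAlgClosed.exists_pow_nat_eq (-1 : K) (n := 2) (by norm_num)
  exact ⟨z, by rw [← pow_two, hz]⟩

include h2 in
theorem exists_omega : ∃ ω : K, ω ^ 2 + ω + 1 = 0 := by
  obtain ⟨z, hz⟩ := IsAlgClosed.exists_pow_nat_eq (-3 : K) (n := 2) (by norm_num)
  refine ⟨(z - 1) / 2, ?_⟩
  field_simp
  linear_combination hz

include h2 D hg

theorem rp_good {r : P →* Matrix (Fin n) (Fin n) K} (hr : Rp E r) (hn : n ≤ 12) {i : K} (hi : i * i = -1) :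
    Good (E.map (en r)) i ∧ finrank K (Vm (E.map (en r))) = 8 ∧ finrank K (Vp (E.map (en r))) + 8 = n ∧
      finrank K (V0 (E.map (en r))) + 10 = n ∧ Irr7 (E.map (en r)) := by
  have hD := D.map (en r)
  have hz : (E.map (en r)).z1 ≠ 1 := by
    intro h
    apply hr.z1
    have h1 : Matrix.toLin' (r E.z1) = Matrix.toLin' 1 := by rw [Matrix.toLin'_one]; exact h
    exact Matrix.toLin'.injective h1
  have hf : finrank K (Fin n → K) = n := finrank_fin_fun K
  obtain ⟨H, -, h8, h10⟩ := good_and_dims hD h2 hi (by rw [hf]; exact hn) hz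
  have ht := finrank_total hD h2
  rw [hf] at h10 ht
  exact ⟨H, h8, by omega, h10.symm, irr7_of_span hr.span hg⟩

theorem ten_le {r : P →* Matrix (Fin n) (Fin n) K} (hr : Rp E r) (hn : n ≤ 12) : 10 ≤ n := by
  obtain ⟨i, hi⟩ := exists_i (K := K)
  obtain ⟨-, -, -, h, -⟩ := rp_good h2 D hg hr hn hi
  omega

/-- **degree 10** -/
theorem ten {r r' : P →* Matrix (Fin n) (Fin n) K} (hr : Rp E r) (hr' : Rp E r') (hn : n = 10) (g : P) :
    (r g).trace = (r' g).trace := by
  obtain ⟨i, hi⟩ := exists_i (K := K)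
  obtain ⟨H, h8, -, h10, hI⟩ := rp_good h2 D hg hr (by omega) hi
  obtain ⟨H', h8', -, h10', hI'⟩ := rp_good h2 D hg hr' (by omega) hi
  have hV0 : V0 (E.map (en r)) = ⊥ := by rw [← Submodule.finrank_eq_zero (R := K)]; omega
  have hV0' : V0 (E.map (en r')) = ⊥ := by rw [← Submodule.finrank_eq_zero (R := K)]; omega
  obtain ⟨F⟩ := exists_frame H
  obtain ⟨F'⟩ := exists_frame H'
  have hd : ∀ r : P →* Matrix (Fin n) (Fin n) K, (∀ g, (r g).det = 1) → LinearMap.det (E.map (en r)).c = 1 := by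
    intro r h
    have : (E.map (en r)).c = Matrix.toLin' (r E.c) := rfl
    rw [this, LinearMap.det_toLin', h]
  have hf : finrank K (Fin n → K) = 10 := by rw [finrank_fin_fun K, hn]
  obtain ⟨s, hs3, hs⟩ := exists_cs D H F
  obtain ⟨s', hs3', hs'⟩ := exists_cs D H' F'
  have e1 := s_eq_one H hV0 hf hs hs3 (hd r hr.det)
  have e2 := s_eq_one H' hV0' hf hs' hs3' (hd r' hr'.det)
  rw [e1] at hs
  rw [e2] at hs'
  obtain ⟨θ, hθ0, hθ⟩ := compare_ten D H H' hV0 hV0' hs hs'
  have := trace_eq hg hI hI' hθ0 hθ g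
  rwa [trace_en, trace_en] at this

/-- **degree 11 or 12**: the invariants -/
theorem eleven_inv {r : P →* Matrix (Fin n) (Fin n) K} (hr : Rp E r) (hn : n ≤ 12) (hn' : n ≠ 10) :
    n = 11 ∧ (3 : K) ≠ 0 ∧ ∃ s σ : K, s ^ 3 = 1 ∧ σ ^ 2 + σ + 1 = 0 ∧
      (r E.c).trace - (r (E.c * E.z1)).trace = -8 * s ∧
      (r (E.c * E.c)).trace - (r (E.c * E.c * E.z1)).trace = -8 * s ^ 2 ∧
      (r E.ze).trace + (r (E.ze * E.z1)).trace = 6 * σ ∧
      (r (E.ze * E.ze)).trace + (r (E.ze * E.ze * E.z1)).trace = 6 * σ ^ 2 := by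
  obtain ⟨i, hi⟩ := exists_i (K := K)
  obtain ⟨H, h8, hp, h10, hI⟩ := rp_good h2 D hg hr hn hi
  have hV0 : V0 (E.map (en r)) ≠ ⊥ := by
    intro h
    rw [h, finrank_bot] at h10
    omega
  obtain ⟨F⟩ := exists_frame H
  obtain ⟨h3, σ, P⟩ := H.exists_plus hI hV0 (by omega) (by omega) (fun _ => exists_omega h2)
  obtain ⟨s, hs3, hs⟩ := exists_cs D H F
  refine ⟨by omega, P.three, s, σ, hs3, P.hσ, ?_, ?_, ?_, ?_⟩
  · have h := tr_c H h8 hs
    rw [mul_sub, mul_one, map_sub] at h
    rw [← h, ← trace_en, ← trace_en, map_mul (en r)]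
    rfl
  · have h := tr_cc H h8 hs
    rw [mul_sub, mul_one, map_sub] at h
    rw [← h, ← trace_en, ← trace_en, map_mul (en r) (E.c * E.c), map_mul (en r) E.c E.c]
    rfl
  · have h := tr_ze H h3 P
    rw [mul_add, mul_one, map_add] at h
    rw [← h, ← trace_en, ← trace_en, map_mul (en r)]
    rfl
  · have h := tr_zeze H h3 P
    rw [mul_add, mul_one, map_add] at h
    rw [← h, ← trace_en, ← trace_en, map_mul (en r) (E.ze * E.ze), map_mul (en r) E.ze E.ze]
    rfl

theorem eleven {r r' : P →* Matrix (Fin n) (Fin n) K} (hr : Rp E r) (hr' : Rp E r') (hn : n = 11)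
    (hc : (r E.c).trace - (r (E.c * E.z1)).trace = (r' E.c).trace - (r' (E.c * E.z1)).trace)
    (hz : (r E.ze).trace + (r (E.ze * E.z1)).trace = (r' E.ze).trace + (r' (E.ze * E.z1)).trace) (g : P) :
    (r g).trace = (r' g).trace := by
  obtain ⟨i, hi⟩ := exists_i (K := K)
  obtain ⟨H, h8, hp, h10, hI⟩ := rp_good h2 D hg hr (by omega) hi
  obtain ⟨H', h8', hp', h10', hI'⟩ := rp_good h2 D hg hr' (by omega) hi
  have hV0 : V0 (E.map (en r)) ≠ ⊥ := by
    intro h
    rw [h, finrank_bot] at h10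
    omega
  have hV0' : V0 (E.map (en r')) ≠ ⊥ := by
    intro h
    rw [h, finrank_bot] at h10'
    omega
  obtain ⟨F⟩ := exists_frame H
  obtain ⟨F'⟩ := exists_frame H'
  obtain ⟨h3, σ, Q⟩ := H.exists_plus hI hV0 (by omega) (by omega) (fun _ => exists_omega h2)
  obtain ⟨h3', σ', Q'⟩ := H'.exists_plus hI' hV0' (by omega) (by omega) (fun _ => exists_omega h2)
  obtain ⟨s, hs3, hs⟩ := exists_cs D H F
  obtain ⟨s', hs3', hs'⟩ := exists_cs D H' F'
  have four : (4 : K) ≠ 0 := by
    have : (4 : K) = 2 * 2 := by norm_num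
    rw [this]
    exact mul_ne_zero h2 h2
  have eight : (8 : K) ≠ 0 := by
    have : (8 : K) = 2 * 4 := by norm_num
    rw [this]
    exact mul_ne_zero h2 four
  have hss : s = s' := by
    have e1 := tr_c H h8 hs
    have e2 := tr_c H' h8' hs'
    rw [mul_sub, mul_one, map_sub] at e1 e2
    have e3 : (r E.c).trace - (r (E.c * E.z1)).trace = -8 * s := by
      rw [← e1, ← trace_en, ← trace_en, map_mul (en r)]; rfl
    have e4 : (r' E.c).trace - (r' (E.c * E.z1)).trace = -8 * s' := by
      rw [← e2, ← trace_en, ← trace_en, map_mul (en r')]; rfl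
    rw [e3, e4] at hc
    have : (8 : K) * (s - s') = 0 := by linear_combination -hc
    exact sub_eq_zero.1 ((mul_eq_zero.1 this).resolve_left eight)
  have hσσ : σ = σ' := by
    have e1 := tr_ze H h3 Q
    have e2 := tr_ze H' h3' Q'
    rw [mul_add, mul_one, map_add] at e1 e2
    have e3 : (r E.ze).trace + (r (E.ze * E.z1)).trace = 6 * σ := by
      rw [← e1, ← trace_en, ← trace_en, map_mul (en r)]; rfl
    have e4 : (r' E.ze).trace + (r' (E.ze * E.z1)).trace = 6 * σ' := by
      rw [← e2, ← trace_en, ← trace_en, map_mul (en r')]; rfl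
    rw [e3, e4] at hz
    have : (6 : K) * (σ - σ') = 0 := by linear_combination hz
    exact sub_eq_zero.1 ((mul_eq_zero.1 this).resolve_left (six_ne h2 Q.three))
  rw [← hss] at hs'
  rw [← hσσ] at Q'
  obtain ⟨θ, hθ0, hθ⟩ := compare_eleven D H H' hI Q Q' hs hs'
  have := trace_eq hg hI hI' hθ0 hθ g
  rwa [trace_en, trace_en] at this

end ac

end Cfsg.Agent.H36.U52
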