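import Cfsg.Agent.H36.U52.Rel
import Cfsg.Agent.H36.U52.Lin

/-!
# One module of dimension at most 12: eigenspaces of `z1`, `z2`
-/

set_option autoImplicit false
set_option linter.unusedSectionVars false

namespace Cfsg.Agent.H36.U52

open Module

universe u v w

variable {K : Type u} {V : Type v} [Field K] [AddCommGroup V] [Module K V]

/-- `z1 = -1` -/
def Vm (E : El (Module.End K V)) : Submodule K V := ES E.z1 (-1)
/-- `z1 = 1` -/
def Vp (E : El (Module.End K V)) : Submodule K V := ES E.z1 1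
/-- `z1 = a1 = -1` -/
def V3 (E : El (Module.End K V)) : Submodule K V := Vm E ⊓ ES E.a1 (-1)
/-- `z1 = a1 = a2 = -1` -/
def V2 (E : El (Module.End K V)) : Submodule K V := V3 E ⊓ ES E.a2 (-1)
/-- `z1 = a1 = a2 = -1`, `a3 = i` -/
def X (E : El (Module.End K V)) (i : K) : Submodule K V := V2 E ⊓ ES E.a3 i
/-- `z1 = 1`, `z2 = -1` -/
def V1 (E : El (Module.End K V)) : Submodule K V := Vp E ⊓ ES E.z2 (-1)
/-- `z1 = 1`, `z2 = 1` -/
def V0 (E : El (Module.End K V)) : Submodule K V := Vp E ⊓ ES E.z2 1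

variable {E : El (Module.End K V)}

theorem mem_Vm {x : V} : x ∈ Vm E ↔ E.z1 x = -x := by rw [Vm, mem_ES, neg_one_smul]
theorem mem_Vp {x : V} : x ∈ Vp E ↔ E.z1 x = x := by rw [Vp, mem_ES, one_smul]
theorem mem_V3 {x : V} : x ∈ V3 E ↔ E.z1 x = -x ∧ E.a1 x = -x := by
  rw [V3, Submodule.mem_inf, mem_Vm, mem_ES, neg_one_smul]
theorem mem_V2 {x : V} : x ∈ V2 E ↔ (E.z1 x = -x ∧ E.a1 x = -x) ∧ E.a2 x = -x := by
  rw [V2, Submodule.mem_inf, mem_V3, mem_ES, neg_one_smul]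
theorem mem_X {i : K} {x : V} : x ∈ X E i ↔ ((E.z1 x = -x ∧ E.a1 x = -x) ∧ E.a2 x = -x) ∧ E.a3 x = i • x := by
  rw [X, Submodule.mem_inf, mem_V2, mem_ES]
theorem mem_V1 {x : V} : x ∈ V1 E ↔ E.z1 x = x ∧ E.z2 x = -x := by
  rw [V1, Submodule.mem_inf, mem_Vp, mem_ES, neg_one_smul]
theorem mem_V0 {x : V} : x ∈ V0 E ↔ E.z1 x = x ∧ E.z2 x = x := by
  rw [V0, Submodule.mem_inf, mem_Vp, mem_ES, one_smul]

/-- apply an identity of operators -/
theorem ap {f g : Module.End K V} (h : f = g) (x : V) : f x = g x := LinearMap.congr_fun h x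

section vec

variable (D : Rel E) (x : V)
include D

theorem inj_z1 (h : E.z1 x = 0) : x = 0 := by
  have h1 : E.z1 (E.z1 x) = x := ap D.z1z1 x
  rw [← h1, h, map_zero]

theorem inj_z2 (h : E.z2 x = 0) : x = 0 := by
  have h1 : E.z2 (E.z2 x) = x := ap D.z2z2 x
  rw [← h1, h, map_zero]

theorem inj_b1 (h : E.b1 x = 0) : x = 0 := by
  have h1 : E.b1 (E.b1 x) = x := ap D.b1b1 x
  rw [← h1, h, map_zero]

theorem inj_b2 (h : E.b2 x = 0) : x = 0 := by
  have h1 : E.b2 (E.b2 x) = x := ap D.b2b2 x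
  rw [← h1, h, map_zero]

theorem inj_b3 (h : E.b3 x = 0) : x = 0 := by
  have h1 : E.b3 (E.b3 x) = E.z1 x := ap D.b3b3 x
  rw [h, map_zero] at h1
  exact inj_z1 D x h1.symm

theorem inj_h (h : E.h x = 0) : x = 0 := by
  have h1 : E.h (E.h x) = x := ap D.hh x
  rw [← h1, h, map_zero]

theorem inj_c (h : E.c x = 0) : x = 0 := by
  have h1 : E.c (E.c (E.c x)) = x := ap D.c3 x
  rw [← h1, h, map_zero, map_zero]

theorem inj_y2 (h : E.y2 x = 0) : x = 0 := by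
  have h1 : E.y2 (E.y2 (E.y2 x)) = x := ap D.y23 x
  rw [← h1, h, map_zero, map_zero]

theorem inj_r1 (h : E.r1 x = 0) : x = 0 := by
  have h1 : E.r1 (E.r1 x) = E.z2 x := ap D.r1r1 x
  rw [h, map_zero] at h1
  exact inj_z2 D x h1.symm

/-- `b3` commutes with everything relevant, anti-commutes with `a3` -/
theorem b3_V2 (hx : x ∈ V2 E) : E.b3 x ∈ V2 E := by
  rw [mem_V2] at hx ⊢
  obtain ⟨⟨h1, h2⟩, h3⟩ := hx
  refine ⟨⟨?_, ?_⟩, ?_⟩
  · rw [show E.z1 (E.b3 x) = E.b3 (E.z1 x) from ap D.z1b3 x, h1, map_neg]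
  · rw [show E.a1 (E.b3 x) = E.b3 (E.a1 x) from ap D.a1b3 x, h2, map_neg]
  · rw [show E.a2 (E.b3 x) = E.b3 (E.a2 x) from ap D.a2b3 x, h3, map_neg]

theorem a3_V2 (hx : x ∈ V2 E) : E.a3 x ∈ V2 E := by
  rw [mem_V2] at hx ⊢
  obtain ⟨⟨h1, h2⟩, h3⟩ := hx
  refine ⟨⟨?_, ?_⟩, ?_⟩
  · rw [show E.z1 (E.a3 x) = E.a3 (E.z1 x) from ap D.z1a3 x, h1, map_neg]
  · rw [show E.a1 (E.a3 x) = E.a3 (E.a1 x) from ap D.a1a3 x, h2, map_neg]
  · rw [show E.a2 (E.a3 x) = E.a3 (E.a2 x) from ap D.a2a3 x, h3, map_neg]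

theorem z2_V2 (hx : x ∈ V2 E) : E.z2 x ∈ V2 E := by
  rw [mem_V2] at hx ⊢
  obtain ⟨⟨h1, h2⟩, h3⟩ := hx
  refine ⟨⟨?_, ?_⟩, ?_⟩
  · rw [show E.z1 (E.z2 x) = E.z2 (E.z1 x) from ap D.z1z2 x, h1, map_neg]
  · rw [← show E.z2 (E.a1 x) = E.a1 (E.z2 x) from ap D.z2a1 x, h2, map_neg]
  · rw [← show E.z2 (E.a2 x) = E.a2 (E.z2 x) from ap D.z2a2 x, h3, map_neg]

theorem a3_b3 (hx : x ∈ V2 E) : E.a3 (E.b3 x) = -(E.b3 (E.a3 x)) := by
  have h1 : E.a3 (E.b3 x) = E.z1 (E.b3 (E.a3 x)) := ap D.a3b3 x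
  have h2 := b3_V2 D _ (a3_V2 D x hx)
  rw [h1]
  exact (mem_V2.1 h2).1.1

theorem a3_a3 (hx : x ∈ V2 E) : E.a3 (E.a3 x) = -x := by
  rw [show E.a3 (E.a3 x) = E.z1 x from ap D.a3a3 x]
  exact (mem_V2.1 hx).1.1

theorem b3_b3 (hx : x ∈ V2 E) : E.b3 (E.b3 x) = -x := by
  rw [show E.b3 (E.b3 x) = E.z1 x from ap D.b3b3 x]
  exact (mem_V2.1 hx).1.1

end vec

variable [FiniteDimensional K V]

theorem finrank_V2 (D : Rel E) (h2 : (2 : K) ≠ 0) {i : K} (hi : i * i = -1) :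
    finrank K (V2 E) = 2 * finrank K (X E i) := by
  have hi0 : i ≠ 0 := by
    rintro rfl
    rw [mul_zero] at hi
    apply h2
    linear_combination 2 * hi
  apply finrank_double (V2 E) E.a3 E.b3 i (-i)
  · intro h
    apply h2
    have h3 : (2 : K) * i = 0 := by linear_combination h
    exact (mul_eq_zero.1 h3).resolve_right hi0
  · exact fun x hx => a3_V2 D x hx
  · intro x hx
    rw [a3_a3 D x hx]
    have : i * -i = 1 := by linear_combination -hi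
    rw [this, add_neg_cancel, zero_smul, one_smul, zero_sub]
  · exact fun x hx => b3_V2 D x hx
  · exact fun x => inj_b3 D x
  · intro x hx h
    rw [a3_b3 D x hx, h, map_smul, neg_smul]
  · intro x hx h
    rw [a3_b3 D x hx, h, map_smul, neg_smul, neg_neg]

theorem two_ne {α : K} (h2 : (2 : K) ≠ 0) (hα : α = 1 ∨ α = -1) : α ≠ -α := by
  intro h
  apply h2
  rcases hα with rfl | rfl
  · linear_combination h
  · linear_combination -h

theorem finrank_V3 (D : Rel E) (h2 : (2 : K) ≠ 0) : finrank K (V3 E) = 2 * finrank K (V2 E) := by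
  apply finrank_double (V3 E) E.a2 E.b2 (-1) 1
  · intro h
    apply h2
    linear_combination -h
  · intro x hx
    rw [mem_V3] at hx ⊢
    obtain ⟨h1, h3⟩ := hx
    refine ⟨?_, ?_⟩
    · rw [show E.z1 (E.a2 x) = E.a2 (E.z1 x) from ap D.z1a2 x, h1, map_neg]
    · rw [show E.a1 (E.a2 x) = E.a2 (E.a1 x) from ap D.a1a2 x, h3, map_neg]
  · intro x _
    rw [show E.a2 (E.a2 x) = x from ap D.a2a2 x]
    module
  · intro x hx
    rw [mem_V3] at hx ⊢
    obtain ⟨h1, h3⟩ := hx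
    refine ⟨?_, ?_⟩
    · rw [show E.z1 (E.b2 x) = E.b2 (E.z1 x) from ap D.z1b2 x, h1, map_neg]
    · rw [show E.a1 (E.b2 x) = E.b2 (E.a1 x) from ap D.a1b2 x, h3, map_neg]
  · exact fun x => inj_b2 D x
  · intro x hx h
    have h1 := (mem_V3.1 hx).1
    rw [show E.a2 (E.b2 x) = E.z1 (E.b2 (E.a2 x)) from ap D.a2b2 x, h,
      show E.z1 (E.b2 _) = E.b2 (E.z1 _) from ap D.z1b2 _, map_smul, h1]
    simp
  · intro x hx h
    have h1 := (mem_V3.1 hx).1
    rw [show E.a2 (E.b2 x) = E.z1 (E.b2 (E.a2 x)) from ap D.a2b2 x, h,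
      show E.z1 (E.b2 _) = E.b2 (E.z1 _) from ap D.z1b2 _, map_smul, h1]
    simp

theorem finrank_Vm' (D : Rel E) (h2 : (2 : K) ≠ 0) : finrank K (Vm E) = 2 * finrank K (V3 E) := by
  apply finrank_double (Vm E) E.a1 E.b1 (-1) 1
  · intro h
    apply h2
    linear_combination -h
  · intro x hx
    rw [mem_Vm] at hx ⊢
    rw [show E.z1 (E.a1 x) = E.a1 (E.z1 x) from ap D.z1a1 x, hx, map_neg]
  · intro x _
    rw [show E.a1 (E.a1 x) = x from ap D.a1a1 x]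
    module
  · intro x hx
    rw [mem_Vm] at hx ⊢
    rw [show E.z1 (E.b1 x) = E.b1 (E.z1 x) from ap D.z1b1 x, hx, map_neg]
  · exact fun x => inj_b1 D x
  · intro x hx h
    have h1 := mem_Vm.1 hx
    rw [show E.a1 (E.b1 x) = E.z1 (E.b1 (E.a1 x)) from ap D.a1b1 x, h,
      show E.z1 (E.b1 _) = E.b1 (E.z1 _) from ap D.z1b1 _, map_smul, h1]
    simp
  · intro x hx h
    have h1 := mem_Vm.1 hx
    rw [show E.a1 (E.b1 x) = E.z1 (E.b1 (E.a1 x)) from ap D.a1b1 x, h,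
      show E.z1 (E.b1 _) = E.b1 (E.z1 _) from ap D.z1b1 _, map_smul, h1]
    simp

theorem finrank_Vm (D : Rel E) (h2 : (2 : K) ≠ 0) {i : K} (hi : i * i = -1) :
    finrank K (Vm E) = 8 * finrank K (X E i) := by
  rw [finrank_Vm' D h2, finrank_V3 D h2, finrank_V2 D h2 hi]
  ring

theorem finrank_total (D : Rel E) (h2 : (2 : K) ≠ 0) : finrank K V = finrank K (Vp E) + finrank K (Vm E) := by
  have h := finrank_invol (K := K) (V := V) ⊤ E.z1 h2 (fun _ _ => trivial) (fun x _ => ap D.z1z1 x)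
  rw [finrank_top] at h
  rw [h, top_inf_eq, top_inf_eq]
  rfl

/-- on `V2`, `z2` is a sign `ε` if `X` is one-dimensional -/
theorem z2_on_V2 (D : Rel E) (h2 : (2 : K) ≠ 0) {i : K} (hi : i * i = -1) (hX : finrank K (X E i) = 1) :
    ∃ ε : K, (ε = 1 ∨ ε = -1) ∧ ∀ x ∈ V2 E, E.z2 x = ε • x := by
  obtain ⟨v, hv0, hv⟩ := finrank_eq_one_iff'.1 hX
  have hspan : ∀ x ∈ X E i, ∃ k : K, x = k • (v : V) := by
    intro x hx
    obtain ⟨k, hk⟩ := hv ⟨x, hx⟩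
    exact ⟨k, (congrArg Subtype.val hk).symm⟩
  have hv0' : (v : V) ≠ 0 := fun h => hv0 (Subtype.ext h)
  have hzX : ∀ x ∈ X E i, E.z2 x ∈ X E i := by
    intro x hx
    refine ⟨z2_V2 D x hx.1, mem_ES.2 ?_⟩
    rw [← show E.z2 (E.a3 x) = E.a3 (E.z2 x) from ap D.z2a3 x, mem_ES.1 hx.2, map_smul]
  obtain ⟨ε, hε⟩ := hspan _ (hzX _ v.2)
  have hεε : ε = 1 ∨ ε = -1 := by
    have h3 : E.z2 (E.z2 (v : V)) = v := ap D.z2z2 _
    rw [hε, map_smul, hε, smul_smul] at h3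
    have h4 : (ε * ε - 1) • (v : V) = 0 := by rw [sub_smul, h3, one_smul, sub_self]
    have h5 := (smul_eq_zero.1 h4).resolve_right hv0'
    have h6 : (ε - 1) * (ε + 1) = 0 := by linear_combination h5
    rcases mul_eq_zero.1 h6 with h | h
    · left; linear_combination h
    · right; linear_combination h
  refine ⟨ε, hεε, ?_⟩
  have hX1 : ∀ x ∈ X E i, E.z2 x = ε • x := by
    intro x hx
    obtain ⟨k, rfl⟩ := hspan x hx
    rw [map_smul, hε, smul_comm]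
  have hX2 : ∀ x ∈ V2 E, E.a3 x = -(i • x) → E.z2 x = ε • x := by
    intro x hx h
    have h3 : E.b3 x ∈ X E i := by
      refine ⟨b3_V2 D x hx, mem_ES.2 ?_⟩
      rw [a3_b3 D x hx, h, map_neg, map_smul, neg_neg]
    have h4 := hX1 _ h3
    rw [show E.z2 (E.b3 x) = E.b3 (E.z2 x) from ap D.z2b3 x, ← map_smul] at h4
    have h5 : E.b3 (E.z2 x - ε • x) = 0 := by rw [map_sub, h4, sub_self]
    exact sub_eq_zero.1 (inj_b3 D _ h5)
  intro x hx
  have hx3 := a3_a3 D x hx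
  have h1 := hX1 (x - i • E.a3 x) ⟨(V2 E).sub_mem hx ((V2 E).smul_mem _ (a3_V2 D x hx)), mem_ES.2 (by
    rw [map_sub, map_smul, hx3, smul_sub, smul_smul, hi, neg_smul, one_smul, smul_neg]; abel)⟩
  have h3 := hX2 (x + i • E.a3 x) ((V2 E).add_mem hx ((V2 E).smul_mem _ (a3_V2 D x hx))) (by
    rw [map_add, map_smul, hx3, smul_add, smul_smul, hi, neg_smul, one_smul, smul_neg]; abel)
  rw [map_sub] at h1
  rw [map_add] at h3
  have h4 : (2 : K) • E.z2 x = (2 : K) • (ε • x) := by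
    have : (2 : K) • E.z2 x = (E.z2 x - E.z2 (i • E.a3 x)) + (E.z2 x + E.z2 (i • E.a3 x)) := by module
    rw [this, h1, h3]
    module
  exact smul_right_injective V h2 h4

/-- the converse -/
theorem mem_V2_of_z2 (D : Rel E) (h2 : (2 : K) ≠ 0) {ε : K} (hε : ε = 1 ∨ ε = -1)
    (hz : ∀ x ∈ V2 E, E.z2 x = ε • x) {x : V} (h1 : E.z1 x = -x) (hx : E.z2 x = ε • x) : x ∈ V2 E := by
  have hne := two_ne h2 hε
  have kill : ∀ y : V, ε • y = (-ε) • y → y = 0 := by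
    intro y hy
    have : (ε - -ε) • y = 0 := by rw [sub_smul, hy, sub_self]
    exact (smul_eq_zero.1 this).resolve_left (sub_ne_zero.2 hne)
  -- `a1 = 1`, `a2 = -1`
  have k1 : ∀ y : V, E.z1 y = -y → E.z2 y = ε • y → E.a1 y = y → E.a2 y = -y → y = 0 := by
    intro y hy1 hy2 ha hb
    have hm : E.b1 y ∈ V2 E := by
      rw [mem_V2]
      refine ⟨⟨?_, ?_⟩, ?_⟩
      · rw [show E.z1 (E.b1 y) = E.b1 (E.z1 y) from ap D.z1b1 y, hy1, map_neg]
      · rw [show E.a1 (E.b1 y) = E.z1 (E.b1 (E.a1 y)) from ap D.a1b1 y, ha,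
          show E.z1 (E.b1 _) = E.b1 (E.z1 _) from ap D.z1b1 _, hy1, map_neg]
      · rw [show E.a2 (E.b1 y) = E.b1 (E.a2 y) from ap D.a2b1 y, hb, map_neg]
    have h3 := hz _ hm
    rw [show E.z2 (E.b1 y) = E.b1 (E.z4 y) from ap D.z2b1 y, show E.z4 y = E.z2 (E.a2 y) from ap D.z4e y, hb,
      map_neg, hy2, ← neg_smul, map_smul] at h3
    have := kill _ h3.symm
    exact inj_b1 D y this
  have k2 : ∀ y : V, E.z1 y = -y → E.z2 y = ε • y → E.a1 y = -y → E.a2 y = y → y = 0 := by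
    intro y hy1 hy2 ha hb
    have hm : E.b2 y ∈ V2 E := by
      rw [mem_V2]
      refine ⟨⟨?_, ?_⟩, ?_⟩
      · rw [show E.z1 (E.b2 y) = E.b2 (E.z1 y) from ap D.z1b2 y, hy1, map_neg]
      · rw [show E.a1 (E.b2 y) = E.b2 (E.a1 y) from ap D.a1b2 y, ha, map_neg]
      · rw [show E.a2 (E.b2 y) = E.z1 (E.b2 (E.a2 y)) from ap D.a2b2 y, hb,
          show E.z1 (E.b2 _) = E.b2 (E.z1 _) from ap D.z1b2 _, hy1, map_neg]
    have h3 := hz _ hm
    rw [show E.z2 (E.b2 y) = E.b2 (E.z3 y) from ap D.z2b2 y, show E.z3 y = E.z2 (E.a1 y) from ap D.z3e y, ha,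
      map_neg, hy2, ← neg_smul, map_smul] at h3
    have := kill _ h3.symm
    exact inj_b2 D y this
  have k3 : ∀ y : V, E.z1 y = -y → E.z2 y = ε • y → E.a1 y = y → E.a2 y = y → y = 0 := by
    intro y hy1 hy2 ha hb
    have e1 : E.a2 (E.b2 y) = -(E.b2 y) := by
      rw [show E.a2 (E.b2 y) = E.z1 (E.b2 (E.a2 y)) from ap D.a2b2 y, hb,
          show E.z1 (E.b2 _) = E.b2 (E.z1 _) from ap D.z1b2 _, hy1, map_neg]
    have e2 : E.a1 (E.b2 y) = E.b2 y := by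
      rw [show E.a1 (E.b2 y) = E.b2 (E.a1 y) from ap D.a1b2 y, ha]
    have e3 : E.z1 (E.b2 y) = -(E.b2 y) := by
      rw [show E.z1 (E.b2 y) = E.b2 (E.z1 y) from ap D.z1b2 y, hy1, map_neg]
    have e4 : E.z2 (E.b2 y) = ε • E.b2 y := by
      rw [show E.z2 (E.b2 y) = E.b2 (E.z3 y) from ap D.z2b2 y, show E.z3 y = E.z2 (E.a1 y) from ap D.z3e y, ha,
        hy2, map_smul]
    exact inj_b2 D y (k1 _ e3 e4 e2 e1)
  -- first `a1`
  have ha1a1 : E.a1 (E.a1 x) = x := ap D.a1a1 x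
  have ha2 : ∀ y, E.a2 (E.a2 y) = y := fun y => ap D.a2a2 y
  have s1 : x + E.a1 x = 0 := by
    set y := x + E.a1 x with hy
    have y1 : E.z1 y = -y := by
      rw [hy, map_add, h1, show E.z1 (E.a1 x) = E.a1 (E.z1 x) from ap D.z1a1 x, h1, map_neg]; abel
    have y2 : E.z2 y = ε • y := by
      rw [hy, map_add, hx, show E.z2 (E.a1 x) = E.a1 (E.z2 x) from ap D.z2a1 x, hx, map_smul, smul_add]
    have y3 : E.a1 y = y := by rw [hy, map_add, ha1a1]; abel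
    have c1 : E.a1 (E.a2 y) = E.a2 y := by
      rw [show E.a1 (E.a2 y) = E.a2 (E.a1 y) from ap D.a1a2 y, y3]
    have c2 : E.z1 (E.a2 y) = -(E.a2 y) := by
      rw [show E.z1 (E.a2 y) = E.a2 (E.z1 y) from ap D.z1a2 y, y1, map_neg]
    have c3 : E.z2 (E.a2 y) = ε • E.a2 y := by
      rw [show E.z2 (E.a2 y) = E.a2 (E.z2 y) from ap D.z2a2 y, y2, map_smul]
    have p1 := k3 (y + E.a2 y) (by rw [map_add, y1, c2]; abel) (by rw [map_add, y2, c3, ← smul_add])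
      (by rw [map_add, y3, c1]) (by rw [map_add, ha2]; abel)
    have p2 := k1 (y - E.a2 y) (by rw [map_sub, y1, c2]; abel) (by rw [map_sub, y2, c3, ← smul_sub])
      (by rw [map_sub, y3, c1]) (by rw [map_sub, ha2]; abel)
    have : (2 : K) • y = 0 := by
      have : (2 : K) • y = (y + E.a2 y) + (y - E.a2 y) := by module
      rw [this, p1, p2, add_zero]
    exact (smul_eq_zero.1 this).resolve_left h2
  have x1 : E.a1 x = -x := by
    rw [add_comm] at s1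
    exact eq_neg_of_add_eq_zero_left s1
  have s2 : x + E.a2 x = 0 := by
    apply k2
    · rw [map_add, h1, show E.z1 (E.a2 x) = E.a2 (E.z1 x) from ap D.z1a2 x, h1, map_neg]; abel
    · rw [map_add, hx, show E.z2 (E.a2 x) = E.a2 (E.z2 x) from ap D.z2a2 x, hx, map_smul, smul_add]
    · rw [map_add, show E.a1 (E.a2 x) = E.a2 (E.a1 x) from ap D.a1a2 x, x1, map_neg]; abel
    · rw [map_add, ha2]; abel
  have x2 : E.a2 x = -x := by
    rw [add_comm] at s2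
    exact eq_neg_of_add_eq_zero_left s2
  exact mem_V2.2 ⟨⟨h1, x1⟩, x2⟩

end Cfsg.Agent.H36.U52
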