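import Cfsg.Agent.H36.U52.Frame

/-!
# The part `z1 = 1` of a module of dimension 11 or 12
-/

set_option autoImplicit false
set_option linter.unusedSectionVars false

namespace Cfsg.Agent.H36.U52

open Module

universe u v

variable {K : Type u} {V : Type v} [Field K] [AddCommGroup V] [Module K V]

/-- the seven generators act irreducibly -/
def Irr7 (e : El (Module.End K V)) : Prop :=
  ∀ W : Submodule K V, (∀ x ∈ W, e.b1 x ∈ W) → (∀ x ∈ W, e.b2 x ∈ W) → (∀ x ∈ W, e.h x ∈ W) →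
    (∀ x ∈ W, e.a3 x ∈ W) → (∀ x ∈ W, e.c x ∈ W) → (∀ x ∈ W, e.y1 x ∈ W) → (∀ x ∈ W, e.y2 x ∈ W) →
    W = ⊥ ∨ W = ⊤

variable {e : El (Module.End K V)} {i : K}

section

variable (D : Rel e) (x : V)
include D

theorem Rel.vcy1 : e.y1 (e.c x) = e.c (e.y1 x) := (ap D.cy1 x).symm
theorem Rel.vy1y1 : e.y1 (e.y1 (e.y1 x)) = x := ap D.y13 x
theorem Rel.vy2y2 : e.y2 (e.y2 (e.y2 x)) = x := ap D.y23 x
theorem Rel.vccc : e.c (e.c (e.c x)) = x := ap D.c3 x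
theorem Rel.vz1y1 : e.z1 (e.y1 x) = e.y1 (e.z1 x) := ap D.z1y1 x
theorem Rel.vz1y2 : e.z1 (e.y2 x) = e.y2 (e.z1 x) := ap D.z1y2 x
theorem Rel.vz1c' : e.z1 (e.c x) = e.c (e.z1 x) := ap D.z1c x
theorem Rel.vz1r1 : e.z1 (e.r1 x) = e.r1 (e.z1 x) := ap D.z1r1 x
theorem Rel.vz1r2 : e.z1 (e.r2 x) = e.r2 (e.z1 x) := ap D.z1r2 x
theorem Rel.vz1ze : e.z1 (e.ze x) = e.ze (e.z1 x) := ap D.z1ze x
theorem Rel.vz2c : e.z2 (e.c x) = e.c (e.z2 x) := ap D.z2c x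
theorem Rel.vz2r1 : e.z2 (e.r1 x) = e.r1 (e.z2 x) := ap D.z2r1 x
theorem Rel.vz2r2 : e.z2 (e.r2 x) = e.r2 (e.z2 x) := ap D.z2r2 x
theorem Rel.vz2ze : e.z2 (e.ze x) = e.ze (e.z2 x) := ap D.z2ze x
theorem Rel.vr1y1 : e.y2 (e.r1 x) = e.r1 (e.y1 x) := (ap D.r1y1 x).symm
theorem Rel.vr1y2 : e.y1 (e.y1 (e.r1 x)) = e.r1 (e.y2 x) := (ap D.r1y2 x).symm
theorem Rel.vcy2 : e.y1 (e.y1 (e.y2 (e.y1 (e.y1 (e.c x))))) = e.c (e.y2 x) := (ap D.cy2 x).symm
theorem Rel.vy1y2 : e.y1 (e.y2 x) = e.ze (e.y2 (e.y1 x)) := ap D.y1y2 x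
theorem Rel.vzey1 : e.ze (e.y1 x) = e.y1 (e.ze x) := ap D.zey1 x
theorem Rel.vzey2 : e.ze (e.y2 x) = e.y2 (e.ze x) := ap D.zey2 x
theorem Rel.vzer1 : e.ze (e.r1 x) = e.r1 (e.ze x) := ap D.zer1 x
theorem Rel.vzer2 : e.ze (e.r2 x) = e.r2 (e.ze x) := ap D.zer2 x
theorem Rel.vzec : e.ze (e.c x) = e.c (e.ze x) := ap D.zec x
theorem Rel.vzeze : e.ze (e.ze (e.ze x)) = x := ap D.ze3 x
theorem Rel.vz2y1 : e.z2 (e.y1 x) = e.y1 (e.y1 (e.z2 x)) := ap D.z2y1 x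
theorem Rel.vz2y2 : e.z2 (e.y2 x) = e.y2 (e.y2 (e.z2 x)) := ap D.z2y2 x
theorem Rel.vz2z2 : e.z2 (e.z2 x) = x := ap D.z2z2 x
theorem Rel.vz1z2 : e.z1 (e.z2 x) = e.z2 (e.z1 x) := ap D.z1z2 x
theorem Rel.vr1h : e.r1 (e.h x) = e.h (e.a3 x) := ap D.r1h x
theorem Rel.vr2h : e.r2 (e.h x) = e.h (e.b3 x) := ap D.r2h x
theorem Rel.vhh : e.h (e.h x) = x := ap D.hh x
theorem Rel.vr2 : e.r2 (e.c x) = e.c (e.r1 x) := (ap D.cr1 x).symm

end

section

variable [FiniteDimensional K V] (H : Good e i)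
include H

theorem Good.exists_v2 : ∃ x ∈ V2 e, x ≠ 0 := by
  obtain ⟨v, hv0, -⟩ := finrank_eq_one_iff'.1 H.dimX
  exact ⟨v, v.2.1, fun h => hv0 (Subtype.ext h)⟩

theorem Good.exists_v1 : ∃ x ∈ V1 e, x ≠ 0 := by
  obtain ⟨x, hx, h0⟩ := H.exists_v2
  exact ⟨e.h x, H.h_V2 hx, fun h => h0 (inj_h H.rel x h)⟩

theorem Good.P1 (hI : Irr7 e) (W : Submodule K V) (hW : W ≤ V0 e) (hc : ∀ x ∈ W, e.c x ∈ W)
    (h1 : ∀ x ∈ W, e.y1 x ∈ W) (h2 : ∀ x ∈ W, e.y2 x ∈ W) : W = ⊥ := by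
  rcases hI W (fun x hx => by rw [H.b1_triv x (mem_V0.1 (hW hx)).1]; exact hx)
    (fun x hx => by rw [H.b2_triv x (mem_V0.1 (hW hx)).1]; exact hx)
    (fun x hx => by rw [H.hV0 (hW hx)]; exact hx)
    (fun x hx => by rw [H.a3_triv x (mem_V0.1 (hW hx)).1]; exact hx) hc h1 h2 with h | h
  · exact h
  · exfalso
    obtain ⟨x, hx, h0⟩ := H.exists_v2
    have h3 : x ∈ V0 e := hW (by rw [h]; trivial)
    have h4 := (mem_V0.1 h3).1
    rw [(mem_V2.1 hx).1.1] at h4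
    exact h0 (half H.two h4.symm)

theorem Good.P2 (hI : Irr7 e) (h1 : ∀ x ∈ V1 e, e.y1 x = x) (h2 : ∀ x ∈ V1 e, e.y2 x = x) : V0 e = ⊥ := by
  have D := H.rel
  have hVm : ∀ T : Module.End K V, (∀ x, e.z1 (T x) = T (e.z1 x)) → ∀ x ∈ Vm e, T x ∈ Vm e := by
    intro T hT x hx
    rw [mem_Vm] at hx ⊢
    rw [hT, hx, map_neg]
  have key : ∀ T : Module.End K V, (∀ x, e.z1 (T x) = T (e.z1 x)) → (∀ x ∈ V1 e, T x ∈ V1 e) →
      ∀ x ∈ Vm e ⊔ V1 e, T x ∈ Vm e ⊔ V1 e := by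
    intro T hT hT' x hx
    rw [Submodule.mem_sup] at hx ⊢
    obtain ⟨y, hy, z, hz, rfl⟩ := hx
    exact ⟨T y, hVm T hT y hy, T z, hT' z hz, (map_add _ _ _).symm⟩
  have h3 := hI (Vm e ⊔ V1 e)
    (key _ D.vz1b1 (fun x hx => by rw [H.b1_triv x (mem_V1.1 hx).1]; exact hx))
    (key _ D.vz1b2 (fun x hx => by rw [H.b2_triv x (mem_V1.1 hx).1]; exact hx))
    (by
      intro x hx
      rw [Submodule.mem_sup] at hx
      obtain ⟨y, hy, z, hz, rfl⟩ := hx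
      rw [map_add]
      refine Submodule.add_mem _ ?_ (Submodule.mem_sup_left (H.h_V1 hz).1.1)
      have hy1 := mem_Vm.1 hy
      have e2 : e.z2 (e.h y) = -(e.h y) := by
        rw [show e.z2 (e.h y) = e.h (e.z1 y) from ap D.z2h y, hy1, map_neg]
      have e3 : e.h y = (2 : K)⁻¹ • (e.h y - e.z1 (e.h y)) + (2 : K)⁻¹ • (e.h y + e.z1 (e.h y)) := by
        rw [← smul_add]
        have : e.h y - e.z1 (e.h y) + (e.h y + e.z1 (e.h y)) = (2 : K) • e.h y := by module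
        rw [this, smul_smul, inv_mul_cancel₀ H.two, one_smul]
      rw [e3]
      refine Submodule.add_mem _ (Submodule.mem_sup_left ?_) (Submodule.mem_sup_right ?_)
      · apply Submodule.smul_mem
        rw [mem_Vm, map_sub, D.vz1z1]; abel
      · apply Submodule.smul_mem
        rw [mem_V1]
        constructor
        · rw [map_add, D.vz1z1]; abel
        · rw [map_add, ← D.vz1z2, e2, map_neg]; abel)
    (key _ D.vz1a3 (fun x hx => by rw [H.a3_triv x (mem_V1.1 hx).1]; exact hx))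
    (key _ D.vz1c' (fun x hx => by
      rw [mem_V1] at hx ⊢
      exact ⟨by rw [D.vz1c', hx.1], by rw [D.vz2c, hx.2, map_neg]⟩))
    (key _ D.vz1y1 (fun x hx => by rw [h1 x hx]; exact hx))
    (key _ D.vz1y2 (fun x hx => by rw [h2 x hx]; exact hx))
  have h4 : Vm e ⊔ V1 e = ⊤ := by
    rcases h3 with h | h
    · exfalso
      obtain ⟨x, hx, h0⟩ := H.exists_v2
      have : x ∈ Vm e ⊔ V1 e := Submodule.mem_sup_left hx.1.1
      rw [h, Submodule.mem_bot] at this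
      exact h0 this
    · exact h
  rw [Submodule.eq_bot_iff]
  intro x hx
  have hx' := mem_V0.1 hx
  have h5 : x ∈ Vm e ⊔ V1 e := by rw [h4]; trivial
  rw [Submodule.mem_sup] at h5
  obtain ⟨y, hy, z, hz, rfl⟩ := h5
  have hy1 := mem_Vm.1 hy
  have hz1 := mem_V1.1 hz
  have e1 := hx'.1
  rw [map_add, hy1, hz1.1] at e1
  have hy0 : y = 0 := by
    apply half H.two
    have := congrArg (fun w => w - z) e1
    simp only [add_sub_cancel_right] at this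
    exact this.symm
  subst hy0
  rw [zero_add] at hx' ⊢
  have e2 := hx'.2
  rw [hz1.2] at e2
  exact half H.two e2.symm

/-- `V2` is irreducible under `a3`, `b3` -/
theorem Good.V2_irr (M : Submodule K V) (h1 : ∀ x ∈ M, e.a3 x ∈ M) (h2 : ∀ x ∈ M, e.b3 x ∈ M)
    {x : V} (hx : x ∈ V2 e) (hxM : x ∈ M) (hx0 : x ≠ 0) : V2 e ≤ M := by
  have D := H.rel
  obtain ⟨F⟩ := exists_frame H
  have inX : ∀ y ∈ V2 e, y - i • e.a3 y ∈ X e i := by
    intro y hy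
    refine ⟨(V2 e).sub_mem hy ((V2 e).smul_mem _ (a3_V2 D y hy)), mem_ES.2 ?_⟩
    rw [map_sub, map_smul, a3_a3 D y hy, smul_sub, smul_smul, H.hi, neg_smul, one_smul, smul_neg]; abel
  have inX' : ∀ y ∈ V2 e, e.b3 (y + i • e.a3 y) ∈ X e i := by
    intro y hy
    have hy' := (V2 e).add_mem hy ((V2 e).smul_mem i (a3_V2 D y hy))
    refine ⟨b3_V2 D _ hy', mem_ES.2 ?_⟩
    rw [a3_b3 D _ hy', map_add, map_smul, a3_a3 D y hy]
    simp only [map_add, map_smul, map_neg, smul_add, smul_neg, smul_smul, H.hi]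
    module
  have hv : F.v ∈ M := by
    by_cases h : x - i • e.a3 x = 0
    · have h3 : e.b3 (x + i • e.a3 x) ∈ M := h2 _ (M.add_mem hxM (M.smul_mem _ (h1 _ hxM)))
      have h4 := Frame.eq_of_mem H F (inX' x hx)
      have h5 : F.f (e.b3 (x + i • e.a3 x)) ≠ 0 := by
        intro h0
        rw [h0, zero_smul] at h4
        have h6 := inj_b3 D _ h4
        have h7 : (2 : K) • x = 0 := by
          have : (2 : K) • x = (x - i • e.a3 x) + (x + i • e.a3 x) := by module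
          rw [this, h, h6, add_zero]
        exact hx0 ((smul_eq_zero.1 h7).resolve_left H.two)
      rw [h4] at h3
      have h8 := M.smul_mem (F.f (e.b3 (x + i • e.a3 x)))⁻¹ h3
      rwa [smul_smul, inv_mul_cancel₀ h5, one_smul] at h8
    · have h3 : x - i • e.a3 x ∈ M := M.sub_mem hxM (M.smul_mem _ (h1 _ hxM))
      have h4 := Frame.eq_of_mem H F (inX x hx)
      have h5 : F.f (x - i • e.a3 x) ≠ 0 := by
        intro h0
        rw [h0, zero_smul] at h4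
        exact h h4
      rw [h4] at h3
      have h8 := M.smul_mem (F.f (x - i • e.a3 x))⁻¹ h3
      rwa [smul_smul, inv_mul_cancel₀ h5, one_smul] at h8
  have hX : ∀ y ∈ X e i, y ∈ M := by
    intro y hy
    rw [Frame.eq_of_mem H F hy]
    exact M.smul_mem _ hv
  intro y hy
  have h3 := hX _ (inX y hy)
  have h4 := h2 _ (hX _ (inX' y hy))
  have hy' := (V2 e).add_mem hy ((V2 e).smul_mem i (a3_V2 D y hy))
  rw [b3_b3 D _ hy'] at h4
  have h5 : (2 : K) • y ∈ M := by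
    have : (2 : K) • y = (y - i • e.a3 y) - (-(y + i • e.a3 y)) := by module
    rw [this]
    exact M.sub_mem h3 h4
  have h6 := M.smul_mem (2 : K)⁻¹ h5
  rwa [smul_smul, inv_mul_cancel₀ H.two, one_smul] at h6

/-- `V1` is irreducible under `r1`, `r2` -/
theorem Good.V1_irr (M : Submodule K V) (h1 : ∀ x ∈ M, e.r1 x ∈ M) (h2 : ∀ x ∈ M, e.r2 x ∈ M)
    {x : V} (hx : x ∈ V1 e) (hxM : x ∈ M) (hx0 : x ≠ 0) : V1 e ≤ M := by
  have D := H.rel
  have h3 := H.V2_irr (M.comap e.h) (fun y hy => by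
      rw [Submodule.mem_comap] at hy ⊢
      rw [← D.vr1h]; exact h1 _ hy) (fun y hy => by
      rw [Submodule.mem_comap] at hy ⊢
      rw [← D.vr2h]; exact h2 _ hy) (H.h_V1 hx) (by rw [Submodule.mem_comap, D.vhh]; exact hxM)
      (fun h => hx0 (inj_h D x h))
  intro y hy
  have h4 := h3 (H.h_V1 hy)
  rw [Submodule.mem_comap, D.vhh] at h4
  exact h4

/-- subspaces of `z1 = 1` stable under `z2`, `r1`, `r2` and missing `V1` are in `V0` -/
theorem Good.le_V0 (M : Submodule K V) (hM : M ≤ Vp e) (hz : ∀ x ∈ M, e.z2 x ∈ M)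
    (h0 : ∀ x ∈ M, x ∈ V1 e → x = 0) : M ≤ V0 e := by
  have D := H.rel
  intro x hx
  have h1 := mem_Vp.1 (hM hx)
  have h2 := h0 (x - e.z2 x) (M.sub_mem hx (hz x hx)) (mem_V1.2 ⟨by rw [map_sub, D.vz1z2, h1],
    by rw [map_sub, D.vz2z2]; abel⟩)
  exact mem_V0.2 ⟨h1, (sub_eq_zero.1 h2).symm⟩

theorem Good.claimA (hI : Irr7 e) (hV0 : V0 e ≠ ⊥) {x : V} (h1 : e.z1 x = x) (h2 : e.y1 x = x) (h3 : e.y2 x = x) :
    x = 0 := by
  have D := H.rel
  set Y : Submodule K V := Vp e ⊓ ES e.y1 1 ⊓ ES e.y2 1 with hY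
  have memY : ∀ x, x ∈ Y ↔ (e.z1 x = x ∧ e.y1 x = x) ∧ e.y2 x = x := by
    intro x
    rw [hY, Submodule.mem_inf, Submodule.mem_inf, mem_Vp, mem_ES, mem_ES, one_smul]
  have Yc : ∀ x ∈ Y, e.c x ∈ Y := by
    intro x hx
    rw [memY] at hx ⊢
    obtain ⟨⟨h1, h2⟩, h3⟩ := hx
    have g1 : e.y1 (e.c x) = e.c x := by rw [D.vcy1, h2]
    refine ⟨⟨by rw [D.vz1c', h1], g1⟩, ?_⟩
    have g2 := D.vcy2 x
    rw [g1, g1, h3] at g2
    have g3 := congrArg e.y1 g2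
    rw [D.vy1y1, g1] at g3
    exact g3
  have Yr : ∀ x ∈ Y, e.r1 x ∈ Y := by
    intro x hx
    rw [memY] at hx ⊢
    obtain ⟨⟨h1, h2⟩, h3⟩ := hx
    refine ⟨⟨by rw [D.vz1r1, h1], ?_⟩, by rw [D.vr1y1, h2]⟩
    have g2 := D.vr1y2 x
    rw [h3] at g2
    have g3 := congrArg e.y1 g2
    rw [D.vy1y1] at g3
    exact g3.symm
  have Yr2 : ∀ x ∈ Y, e.r2 x ∈ Y := by
    intro x hx
    have g1 := D.vr2 (e.c (e.c x))
    rw [D.vccc] at g1
    rw [g1]
    exact Yc _ (Yr _ (Yc _ (Yc _ hx)))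
  have Yz : ∀ x ∈ Y, e.z2 x ∈ Y := by
    intro x hx
    rw [memY] at hx ⊢
    obtain ⟨⟨h1, h2⟩, h3⟩ := hx
    refine ⟨⟨by rw [D.vz1z2, h1], ?_⟩, ?_⟩
    · have g2 := D.vz2y1 x
      rw [h2] at g2
      have g3 := congrArg e.y1 g2
      rw [D.vy1y1] at g3
      exact g3
    · have g2 := D.vz2y2 x
      rw [h3] at g2
      have g3 := congrArg e.y2 g2
      rw [D.vy2y2] at g3
      exact g3
  have Y1 : ∀ x ∈ Y, x ∈ V1 e → x = 0 := by
    intro x hx hx1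
    by_contra hx0
    have h5 := H.V1_irr Y Yr Yr2 hx1 hx hx0
    exact hV0 (H.P2 hI (fun y hy => ((memY y).1 (h5 hy)).1.2) (fun y hy => ((memY y).1 (h5 hy)).2))
  have Y0 := H.le_V0 Y (fun x hx => hx.1.1) Yz Y1
  have Yb := H.P1 hI Y Y0 Yc (fun x hx => by rw [((memY x).1 hx).1.2]; exact hx)
    (fun x hx => by rw [((memY x).1 hx).2]; exact hx)
  have hx : x ∈ Y := (memY x).2 ⟨⟨h1, h2⟩, h3⟩
  rw [Yb, Submodule.mem_bot] at hx
  exact hx

omit H in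
/-- a unipotent operator of order three in characteristic three -/
theorem unip_fixed (h3 : (3 : K) = 0) (M : Submodule K V) (T : Module.End K V) (hM : ∀ x ∈ M, T x ∈ M)
    (hT : ∀ x ∈ M, T (T (T x)) = x) {x : V} (hx : x ∈ M) (hx0 : x ≠ 0) : ∃ y ∈ M, y ≠ 0 ∧ T y = y := by
  have hT3 : ∀ x ∈ M, T (T (T x - x) - (T x - x)) - (T (T x - x) - (T x - x)) = 0 := by
    intro x hx
    have : T (T (T x - x) - (T x - x)) - (T (T x - x) - (T x - x)) = (3 : K) • (T x - T (T x)) := by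
      simp only [map_sub, hT x hx]
      module
    rw [this, h3, zero_smul]
  by_cases h1 : T x - x = 0
  · exact ⟨x, hx, hx0, sub_eq_zero.1 h1⟩
  · by_cases h2 : T (T x - x) - (T x - x) = 0
    · exact ⟨T x - x, M.sub_mem (hM x hx) hx, h1, sub_eq_zero.1 h2⟩
    · exact ⟨_, M.sub_mem (hM _ (M.sub_mem (hM x hx) hx)) (M.sub_mem (hM x hx) hx), h2,
        sub_eq_zero.1 (hT3 x hx)⟩

theorem Good.claimB (hI : Irr7 e) (hV0 : V0 e ≠ ⊥) (hn : finrank K (Vp e) ≤ 4)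
    (hω : (3 : K) ≠ 0 → ∃ ω : K, ω ^ 2 + ω + 1 = 0) {x : V} (h1 : e.z1 x = x) (h2 : e.ze x = x) : x = 0 := by
  have D := H.rel
  set Z : Submodule K V := Vp e ⊓ ES e.ze 1 with hZ
  have memZ : ∀ x, x ∈ Z ↔ e.z1 x = x ∧ e.ze x = x := by
    intro x
    rw [hZ, Submodule.mem_inf, mem_Vp, mem_ES, one_smul]
  have Zy1 : ∀ x ∈ Z, e.y1 x ∈ Z := by
    intro x hx
    rw [memZ] at hx ⊢
    exact ⟨by rw [D.vz1y1, hx.1], by rw [D.vzey1, hx.2]⟩
  have Zy2 : ∀ x ∈ Z, e.y2 x ∈ Z := by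
    intro x hx
    rw [memZ] at hx ⊢
    exact ⟨by rw [D.vz1y2, hx.1], by rw [D.vzey2, hx.2]⟩
  have Zc : ∀ x ∈ Z, e.c x ∈ Z := by
    intro x hx
    rw [memZ] at hx ⊢
    exact ⟨by rw [D.vz1c', hx.1], by rw [D.vzec, hx.2]⟩
  have Zr : ∀ x ∈ Z, e.r1 x ∈ Z := by
    intro x hx
    rw [memZ] at hx ⊢
    exact ⟨by rw [D.vz1r1, hx.1], by rw [D.vzer1, hx.2]⟩
  have comm : ∀ x ∈ Z, e.y1 (e.y2 x) = e.y2 (e.y1 x) := by
    intro x hx
    rw [D.vy1y2]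
    exact ((memZ _).1 (Zy2 _ (Zy1 _ hx))).2
  have hx : x ∈ Z := (memZ x).2 ⟨h1, h2⟩
  by_contra hx0
  by_cases h3 : (3 : K) = 0
  · obtain ⟨y, hy, hy0, hyy⟩ := unip_fixed h3 Z e.y1 Zy1 (fun x _ => D.vy1y1 x) hx hx0
    obtain ⟨w, hw, hw0, hww⟩ := unip_fixed h3 (Z ⊓ ES e.y1 1) e.y2 (fun x hx => ⟨Zy2 x hx.1, mem_ES.2 (by
      have := mem_ES.1 hx.2
      rw [one_smul] at this ⊢
      rw [comm x hx.1, this])⟩) (fun x _ => D.vy2y2 x) (x := y) ⟨hy, mem_ES.2 (by rw [hyy, one_smul])⟩ hy0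
    have hw1 := mem_ES.1 hw.2
    rw [one_smul] at hw1
    exact hw0 (H.claimA hI hV0 ((memZ w).1 hw.1).1 hw1 hww)
  · obtain ⟨ω, hω⟩ := hω h3
    have hω3 : ω ^ 3 = 1 := by linear_combination (ω - 1) * hω
    have hω3' : (ω ^ 2) * ω = 1 := by rw [← hω3]; ring
    -- joint eigenspaces
    let N : K → K → ℕ := fun α β => finrank K ↥((Z ⊓ ES e.y1 α) ⊓ ES e.y2 β)
    have s0 := finrank_three Z e.y1 ω hω h3 Zy1 (fun x _ => D.vy1y1 x)
    have s : ∀ α : K, finrank K ↥(Z ⊓ ES e.y1 α) = N α 1 + N α ω + N α (ω ^ 2) := fun α =>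
      finrank_three (Z ⊓ ES e.y1 α) e.y2 ω hω h3 (fun x hx => ⟨Zy2 x hx.1, mem_ES.2 (by
        rw [comm x hx.1, mem_ES.1 hx.2, map_smul])⟩) (fun x _ => D.vy2y2 x)
    rw [s, s, s] at s0
    have r : ∀ α β γ : K, β * γ = 1 → N α β ≤ N γ α := by
      intro α β γ hβγ
      apply finrank_le_of_maps e.r1 (fun x => inj_r1 D x)
      rintro x ⟨⟨hx1, hx2⟩, hx3⟩
      replace hx3 := mem_ES.1 hx3
      have hx2' := mem_ES.1 hx2
      refine ⟨⟨Zr x hx1, mem_ES.2 ?_⟩, mem_ES.2 ?_⟩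
      · have g2 := D.vr1y2 x
        rw [hx3, map_smul] at g2
        have g3 := congrArg e.y1 g2
        rw [D.vy1y1, map_smul] at g3
        calc e.y1 (e.r1 x) = (γ * β) • e.y1 (e.r1 x) := by rw [mul_comm γ β, hβγ, one_smul]
          _ = γ • (β • e.y1 (e.r1 x)) := mul_smul _ _ _
          _ = γ • e.r1 x := by rw [← g3]
      · rw [D.vr1y1, hx2', map_smul]
    have cc : ∀ α β γ : K, β = γ * α → α ^ 3 = 1 → N α β ≤ N α γ := by
      intro α β γ hβγ hα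
      apply finrank_le_of_maps e.c (fun x => inj_c D x)
      rintro x ⟨⟨hx1, hx2⟩, hx3⟩
      replace hx3 := mem_ES.1 hx3
      have hx2' := mem_ES.1 hx2
      have g1 : e.y1 (e.c x) = α • e.c x := by rw [D.vcy1, hx2', map_smul]
      refine ⟨⟨Zc x hx1, mem_ES.2 g1⟩, mem_ES.2 ?_⟩
      have g2 := D.vcy2 x
      rw [g1, map_smul, g1, map_smul, map_smul, map_smul, map_smul, map_smul, map_smul, hx3, map_smul] at g2
      -- `α² y1² y2 c x = β c x`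
      have g3 := congrArg e.y1 g2
      rw [map_smul, map_smul, D.vy1y1, map_smul, g1] at g3
      -- `α² y2 c x = β α c x`
      have g4 : e.y2 (e.c x) = (α ^ 3) • e.y2 (e.c x) := by rw [hα, one_smul]
      rw [g4, pow_succ', pow_two, mul_smul, mul_smul, g3, smul_smul, smul_smul, hβγ]
      have : α * (γ * α) * α = γ * α ^ 3 := by ring
      rw [this, hα, mul_one]
    have n00 : N 1 1 = 0 := by
      rw [Submodule.finrank_eq_zero, Submodule.eq_bot_iff]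
      rintro x ⟨⟨hx1, hx2⟩, hx3⟩
      replace hx3 := mem_ES.1 hx3
      rw [one_smul] at hx3
      have hx2' := mem_ES.1 hx2
      rw [one_smul] at hx2'
      exact H.claimA hI hV0 ((memZ x).1 hx1).1 hx2' hx3
    have a1 := r ω 1 1 (by ring)
    have a2 := r 1 ω (ω ^ 2) (by rw [mul_comm]; exact hω3')
    have a3 := r (ω ^ 2) 1 1 (by ring)
    have a4 := r 1 (ω ^ 2) ω hω3'
    have b1 := r ω ω (ω ^ 2) (by rw [mul_comm]; exact hω3')
    have b2 := r (ω ^ 2) ω (ω ^ 2) (by rw [mul_comm]; exact hω3')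
    have b3 := r (ω ^ 2) (ω ^ 2) ω hω3'
    have b4 := r ω (ω ^ 2) ω hω3'
    have c1 := cc ω 1 (ω ^ 2) hω3'.symm hω3
    have c2 := cc ω (ω ^ 2) ω (by ring) hω3
    have c3 := cc ω ω 1 (by ring) hω3
    have hle : finrank K Z ≤ 4 := le_trans (Submodule.finrank_mono inf_le_left) hn
    have hz : finrank K Z = 0 := by omega
    rw [Submodule.finrank_eq_zero] at hz
    rw [hz, Submodule.mem_bot] at hx
    exact hx0 hx

/-- what we know about the part `z1 = 1` in dimension 11 -/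
structure Plus (e : El (Module.End K V)) (σ : K) : Prop where
  hσ : σ ^ 2 + σ + 1 = 0
  three : (3 : K) ≠ 0
  ze : ∀ x, e.z1 x = x → e.ze x = σ • x
  dimU : finrank K ↥(Vp e ⊓ ES e.y1 1) = 1

theorem Good.exists_plus (hI : Irr7 e) (hV0 : V0 e ≠ ⊥) (hn : finrank K (Vp e) ≤ 4)
    (hn' : 3 ≤ finrank K (Vp e)) (hω : (3 : K) ≠ 0 → ∃ ω : K, ω ^ 2 + ω + 1 = 0) :
    finrank K (Vp e) = 3 ∧ ∃ σ : K, Plus e σ := by
  have D := H.rel
  obtain ⟨F⟩ := exists_frame H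
  -- the scalar on `V1`
  have hm : ∀ w ∈ V2 e, e.h (e.ze (e.h w)) ∈ V2 e := by
    intro w hw
    apply H.h_V1
    have h1 := mem_V1.1 (H.h_V2 hw)
    rw [mem_V1]
    exact ⟨by rw [D.vz1ze, h1.1], by rw [D.vz2ze, h1.2, map_neg]⟩
  have ha3 : ∀ w, e.a3 (e.h (e.ze (e.h w))) = e.h (e.ze (e.h (e.a3 w))) := by
    intro w
    have h1 : ∀ y, e.a3 (e.h y) = e.h (e.r1 y) := by
      intro y
      have := D.vr1h (e.h y)
      rw [D.vhh] at this
      have h2 := congrArg e.h this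
      rw [D.vhh] at h2
      exact h2.symm
    rw [h1, ← D.vzer1, D.vr1h]
  have hb3 : ∀ w, e.b3 (e.h (e.ze (e.h w))) = e.h (e.ze (e.h (e.b3 w))) := by
    intro w
    have h1 : ∀ y, e.b3 (e.h y) = e.h (e.r2 y) := by
      intro y
      have := D.vr2h (e.h y)
      rw [D.vhh] at this
      have h2 := congrArg e.h this
      rw [D.vhh] at h2
      exact h2.symm
    rw [h1, ← D.vzer2, D.vr2h]
  have hmX : e.h (e.ze (e.h F.v)) ∈ X e i := by
    refine ⟨hm _ F.hv.1, mem_ES.2 ?_⟩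
    rw [ha3, (mem_X.1 F.hv).2, map_smul, map_smul, map_smul]
  obtain ⟨σ, hσ⟩ : ∃ σ : K, e.h (e.ze (e.h F.v)) = σ • F.v := ⟨_, Frame.eq_of_mem H F hmX⟩
  have hσ2 : V2 e ≤ LinearMap.ker (e.h ∘ₗ e.ze ∘ₗ e.h - σ • (1 : Module.End K V)) := by
    have memk : ∀ y, y ∈ LinearMap.ker (e.h ∘ₗ e.ze ∘ₗ e.h - σ • (1 : Module.End K V)) ↔
        e.h (e.ze (e.h y)) = σ • y := by
      intro y
      rw [LinearMap.mem_ker, LinearMap.sub_apply, sub_eq_zero]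
      rfl
    apply H.V2_irr _ _ _ F.hv.1 ((memk _).2 hσ) (Frame.ne H F)
    · intro x hx
      rw [memk] at hx ⊢
      rw [← ha3, hx, map_smul]
    · intro x hx
      rw [memk] at hx ⊢
      rw [← hb3, hx, map_smul]
  have hσ1 : ∀ x ∈ V1 e, e.ze x = σ • x := by
    intro x hx
    have h1 : e.h (e.ze (e.h (e.h x))) = σ • e.h x := by
      have := hσ2 (H.h_V1 hx)
      rw [LinearMap.mem_ker, LinearMap.sub_apply, sub_eq_zero] at this
      exact this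
    rw [D.vhh] at h1
    have h2 := congrArg e.h h1
    rw [D.vhh, map_smul, D.vhh] at h2
    exact h2
  obtain ⟨w1, hw1, hw10⟩ := H.exists_v1
  have hσ3 : σ ^ 3 = 1 := by
    have h1 := D.vzeze w1
    have h2 := hσ1 w1 hw1
    rw [h2, map_smul, h2, map_smul, map_smul, h2, smul_smul, smul_smul] at h1
    have h3 : (σ * (σ * σ) - 1) • w1 = 0 := by rw [sub_smul, one_smul, sub_eq_zero]; nth_rewrite 2 [← h1]; congr 1; ring
    have h4 := (smul_eq_zero.1 h3).resolve_right hw10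
    linear_combination h4
  have hw1p := (mem_V1.1 hw1).1
  -- characteristic
  have h3 : (3 : K) ≠ 0 := by
    intro h3
    obtain ⟨y, hy, hy0, hyy⟩ := unip_fixed h3 (Vp e) e.ze (fun x hx => by
      rw [mem_Vp] at hx ⊢
      rw [D.vz1ze, hx]) (fun x _ => D.vzeze x) (mem_Vp.2 hw1p) hw10
    exact hy0 (H.claimB hI hV0 hn hω (mem_Vp.1 hy) hyy)
  have hσne : σ ≠ 1 := by
    intro h
    have h2 := hσ1 w1 hw1
    rw [h, one_smul] at h2
    exact hw10 (H.claimB hI hV0 hn hω hw1p h2)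
  have hσq : σ ^ 2 + σ + 1 = 0 := by
    have : (σ - 1) * (σ ^ 2 + σ + 1) = 0 := by linear_combination hσ3
    exact (mul_eq_zero.1 this).resolve_left (sub_ne_zero.2 hσne)
  have hσ0 : σ ≠ 0 := by rintro rfl; simp at hσq
  -- `ze = σ`
  set W : Submodule K V := Vp e ⊓ LinearMap.ker (e.ze * e.ze + σ • e.ze + σ ^ 2 • (1 : Module.End K V)) with hW
  have memW : ∀ x, x ∈ W ↔ e.z1 x = x ∧ e.ze (e.ze x) + σ • e.ze x + σ ^ 2 • x = 0 := by
    intro x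
    rw [hW, Submodule.mem_inf, mem_Vp, LinearMap.mem_ker]
    rfl
  have stab : ∀ T : Module.End K V, (∀ x, e.z1 (T x) = T (e.z1 x)) → (∀ x, e.ze (T x) = T (e.ze x)) →
      ∀ x ∈ W, T x ∈ W := by
    intro T h1 h2 x hx
    rw [memW] at hx ⊢
    refine ⟨by rw [h1, hx.1], ?_⟩
    have h5 := congrArg T hx.2
    rw [map_zero, map_add, map_add, map_smul, map_smul] at h5
    rw [h2, h2]
    exact h5
  have W0 : W ≤ V0 e := by
    apply H.le_V0 W (fun x hx => hx.1) (stab _ (fun x => D.vz1z2 x) (fun x => (D.vz2ze x).symm))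
    intro x hx hx1
    have h1 := ((memW x).1 hx).2
    rw [hσ1 x hx1, map_smul, hσ1 x hx1] at h1
    have h2 : (3 * σ ^ 2) • x = 0 := by rw [← h1]; module
    exact (smul_eq_zero.1 h2).resolve_left (mul_ne_zero h3 (pow_ne_zero 2 hσ0))
  have Wb := H.P1 hI W W0 (stab _ D.vz1c' D.vzec) (stab _ D.vz1y1 D.vzey1) (stab _ D.vz1y2 D.vzey2)
  have hze : ∀ x, e.z1 x = x → e.ze x = σ • x := by
    intro x hx
    have h1 : e.ze x - σ • x ∈ W := by
      rw [memW]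
      refine ⟨by rw [map_sub, map_smul, D.vz1ze, hx], ?_⟩
      simp only [map_sub, map_smul, D.vzeze]
      have : x - σ • e.ze (e.ze x) + σ • (e.ze (e.ze x) - σ • e.ze x) + σ ^ 2 • (e.ze x - σ • x) =
        (1 - σ ^ 3) • x := by module
      rw [this, hσ3, sub_self, zero_smul]
    rw [Wb, Submodule.mem_bot] at h1
    exact sub_eq_zero.1 h1
  -- dimension
  have s0 := finrank_three (Vp e) e.y1 σ hσq h3 (fun x hx => by
    rw [mem_Vp] at hx ⊢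
    rw [D.vz1y1, hx]) (fun x _ => D.vy1y1 x)
  have st : ∀ α β : K, β = σ * α → finrank K ↥(Vp e ⊓ ES e.y1 α) ≤ finrank K ↥(Vp e ⊓ ES e.y1 β) := by
    intro α β hβ
    apply finrank_le_of_maps e.y2 (fun x => inj_y2 D x)
    rintro x ⟨hx1, hx2⟩
    replace hx2 := mem_ES.1 hx2
    have hx1' := mem_Vp.1 hx1
    have h5 : e.z1 (e.y2 x) = e.y2 x := by rw [D.vz1y2, hx1']
    refine ⟨mem_Vp.2 h5, mem_ES.2 ?_⟩
    rw [D.vy1y2, hx2, map_smul, map_smul, hze _ h5, smul_smul, hβ, mul_comm]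
  have t1 := st 1 σ (by ring)
  have t2 := st σ (σ ^ 2) (by ring)
  have t3 := st (σ ^ 2) 1 (by rw [← hσ3]; ring)
  have hV : finrank K (Vp e) = 3 := by omega
  refine ⟨hV, σ, hσq, h3, hze, by omega⟩

end

end Cfsg.Agent.H36.U52
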