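import Cfsg.Agent.H36.U52.Three
import Cfsg.Agent.H36.U52.Plus

/-!
# Two modules with the same invariants are isomorphic
-/

set_option autoImplicit false
set_option linter.unusedSectionVars false

namespace Cfsg.Agent.H36.U52

open Module

universe u v v' w

variable {K : Type u} {V : Type v} {W : Type v'} [Field K] [AddCommGroup V] [Module K V]

/-- six times the projection onto the part `y1 = 1` of `z1 = 1` -/
def qU (e : El (Module.End K V)) (x : V) : V :=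
  let x1 := x + e.z1 x
  x1 + e.y1 x1 + e.y1 (e.y1 x1)

/-- a vector and a functional -/
structure FrameP (e : El (Module.End K V)) where
  w : V
  g : V →ₗ[K] K
  hw : e.z1 w = w ∧ e.y1 w = w
  gw : g w = 1
  hg : ∀ x, (6 * g x) • w = qU e x

/-- linear version -/
def qUl (e : El (Module.End K V)) : V →ₗ[K] V where
  toFun := qU e
  map_add' x y := by simp only [qU, map_add]; abel
  map_smul' k x := by simp only [qU, map_smul, map_add, smul_add, RingHom.id_apply]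

theorem six_ne (h2 : (2 : K) ≠ 0) (h3 : (3 : K) ≠ 0) : (6 : K) ≠ 0 := by
  have : (6 : K) = 2 * 3 := by norm_num
  rw [this]
  exact mul_ne_zero h2 h3

section one

variable [FiniteDimensional K V] {e : El (Module.End K V)} {i σ : K} (H : Good e i) (P : Plus e σ)
include H P

theorem exists_frameP : Nonempty (FrameP e) := by
  have D := H.rel
  have h6 := six_ne H.two P.three
  set U : Submodule K V := Vp e ⊓ ES e.y1 1 with hU
  have memU : ∀ x, x ∈ U ↔ e.z1 x = x ∧ e.y1 x = x := by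
    intro x; rw [hU, Submodule.mem_inf, mem_Vp, mem_ES, one_smul]
  have hm : ∀ x, qU e x ∈ U := by
    intro x
    rw [memU]
    constructor
    · simp only [qU, map_add, D.vz1y1, D.vz1z1]; abel
    · simp only [qU, map_add, D.vy1y1]; abel
  let t : U ≃ₗ[K] K := LinearEquiv.ofFinrankEq _ _ (by rw [P.dimU, finrank_self])
  let q : V →ₗ[K] U := LinearMap.codRestrict U ((6 : K)⁻¹ • qUl e) (fun x => by
    rw [LinearMap.smul_apply]
    exact U.smul_mem _ (hm x))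
  have hq : ∀ x, (q x : V) = (6 : K)⁻¹ • qU e x := fun x => rfl
  refine ⟨⟨(t.symm 1 : U), t.toLinearMap ∘ₗ q, (memU _).1 (t.symm 1).2, ?_, ?_⟩⟩
  · have h1 : q ((t.symm 1 : U) : V) = t.symm 1 := by
      apply Subtype.ext
      have h2 := (memU _).1 (t.symm 1).2
      rw [hq]
      have h3 : qU e ((t.symm 1 : U) : V) = (6 : K) • ((t.symm 1 : U) : V) := by
        simp only [qU, h2.1, map_add, h2.2]
        module
      rw [h3, smul_smul, inv_mul_cancel₀ h6, one_smul]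
    rw [LinearMap.comp_apply, h1]
    exact t.apply_symm_apply 1
  · intro x
    rw [LinearMap.comp_apply]
    have h1 : (t (q x)) • (t.symm 1 : U) = q x := by
      apply t.injective
      rw [map_smul, t.apply_symm_apply, smul_eq_mul, mul_one]
    have h2 := congrArg Subtype.val h1
    rw [Submodule.coe_smul, hq] at h2
    rw [mul_smul]
    have h3 : t.toLinearMap (q x) = t (q x) := rfl
    rw [h3, h2, smul_smul, mul_inv_cancel₀ h6, one_smul]

variable (F : FrameP e)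

theorem FrameP.ne : F.w ≠ 0 := by
  intro h
  have := F.gw
  rw [h, map_zero] at this
  exact zero_ne_one this

theorem FrameP.g_of {T : Module.End K V} {k : K} (h : ∀ x, qU e (T x) = k • qU e x) (x : V) :
    F.g (T x) = k * F.g x := by
  have h1 := F.hg (T x)
  rw [h, ← F.hg x, smul_smul, ← sub_eq_zero, ← sub_smul] at h1
  have h2 := (smul_eq_zero.1 h1).resolve_right (FrameP.ne H P F)
  have h3 : (6 : K) * (F.g (T x) - k * F.g x) = 0 := by linear_combination h2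
  exact sub_eq_zero.1 ((mul_eq_zero.1 h3).resolve_left (six_ne H.two P.three))

theorem FrameP.g_z1 (x : V) : F.g (e.z1 x) = F.g x := by
  have D := H.rel
  rw [FrameP.g_of H P F (T := e.z1) (k := 1) (fun x => by
    simp only [qU, map_add, D.vz1z1, one_smul, D.vz1y1]; abel), one_mul]

theorem FrameP.g_y1 (x : V) : F.g (e.y1 x) = F.g x := by
  have D := H.rel
  rw [FrameP.g_of H P F (T := e.y1) (k := 1) (fun x => by
    simp only [qU, map_add, D.vz1z1, one_smul, D.vz1y1, D.vy1y1]; abel), one_mul]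

theorem FrameP.g_ze (x : V) : F.g (e.ze x) = σ * F.g x := by
  have D := H.rel
  apply FrameP.g_of H P F
  intro x
  have h1 : e.ze (x + e.z1 x) = σ • (x + e.z1 x) := P.ze _ (by rw [map_add, D.vz1z1]; abel)
  have h2 : e.ze x + e.z1 (e.ze x) = σ • (x + e.z1 x) := by rw [D.vz1ze, ← map_add, h1]
  simp only [qU]
  rw [h2, map_smul, map_smul]
  module

theorem FrameP.eq_of_mem {x : V} (h1 : e.z1 x = x) (h2 : e.y1 x = x) : x = F.g x • F.w := by
  have h3 := F.hg x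
  have h4 : qU e x = (6 : K) • x := by
    simp only [qU, h1, map_add, h2]; module
  rw [h4, mul_smul] at h3
  exact (smul_right_injective V (six_ne H.two P.three) h3).symm

end one

variable [AddCommGroup W] [Module K W]
variable {G : Type w} [Group G]
variable {ρ : G →* Module.End K V} {ρ' : G →* Module.End K W}
variable {E : El G} (D : Rel E) {i σ : K}

/-- the rank one map -/
def fp (F : FrameP (E.map ρ)) (F' : FrameP (E.map ρ')) : W →ₗ[K] V := F'.g.smulRight F.w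

/-- the map on `z1 = 1` -/
def ff (F : FrameP (E.map ρ)) (F' : FrameP (E.map ρ')) : W →ₗ[K] V :=
  fp F F' + tw ρ ρ' E.y2 (fp F F') + tw ρ ρ' E.y2 (tw ρ ρ' E.y2 (fp F F'))

theorem fp_apply (F : FrameP (E.map ρ)) (F' : FrameP (E.map ρ')) (x : W) : fp F F' x = F'.g x • F.w := rfl

section two

variable [FiniteDimensional K V] [FiniteDimensional K W]
variable (H : Good (E.map ρ) i) (H' : Good (E.map ρ') i) (P : Plus (E.map ρ) σ) (P' : Plus (E.map ρ') σ)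
  (F : FrameP (E.map ρ)) (F' : FrameP (E.map ρ'))
include D H H' P P'

omit D in
theorem z1_fp : E.z1 ∈ Fx ρ ρ' (fp F F') := by
  intro x
  rw [fp_apply, fp_apply, map_smul, show ρ E.z1 F.w = F.w from F.hw.1,
    show F'.g (ρ' E.z1 x) = F'.g x from FrameP.g_z1 H' P' F' x]

omit D in
theorem y1_fp : E.y1 ∈ Fx ρ ρ' (fp F F') := by
  intro x
  rw [fp_apply, fp_apply, map_smul, show ρ E.y1 F.w = F.w from F.hw.2,
    show F'.g (ρ' E.y1 x) = F'.g x from FrameP.g_y1 H' P' F' x]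

omit D in
theorem ze_fp : E.ze ∈ Fx ρ ρ' (fp F F') := by
  intro x
  rw [fp_apply, fp_apply, map_smul, show ρ E.ze F.w = σ • F.w from P.ze _ F.hw.1,
    show F'.g (ρ' E.ze x) = σ * F'.g x from FrameP.g_ze H' P' F' x, smul_smul, mul_comm]

theorem z1_ff : E.z1 ∈ Fx ρ ρ' (ff F F') := by
  have h1 := z1_fp H H' P P' F F'
  have h2 := mem_Fx_tw' D.z1y2 h1
  exact Fx_add (Fx_add h1 h2) (mem_Fx_tw' D.z1y2 h2)

theorem ze_ff : E.ze ∈ Fx ρ ρ' (ff F F') := by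
  have h1 := ze_fp H H' P P' F F'
  have h2 := mem_Fx_tw' D.zey2 h1
  exact Fx_add (Fx_add h1 h2) (mem_Fx_tw' D.zey2 h2)

theorem y1_ff : E.y1 ∈ Fx ρ ρ' (ff F F') := by
  have h1 := y1_fp H H' P P' F F'
  have z1 := ze_fp H H' P P' F F'
  have z2 := mem_Fx_tw' D.zey2 z1
  have hr : E.y1 * E.y2 = E.y2 * (E.ze * E.y1) := by
    rw [D.y1y2, ← mul_assoc, D.zey2, mul_assoc]
  have h2 : E.y1 ∈ Fx ρ ρ' (tw ρ ρ' E.y2 (fp F F')) := mem_Fx_tw' hr (mul_mem z1 h1)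
  exact Fx_add (Fx_add h1 h2) (mem_Fx_tw' hr (mul_mem z2 h2))

theorem y2_ff : E.y2 ∈ Fx ρ ρ' (ff F F') := by
  rw [mem_Fx_iff_tw, ff, tw_add, tw_add]
  have h1 : tw ρ ρ' E.y2 (tw ρ ρ' E.y2 (tw ρ ρ' E.y2 (fp F F'))) = fp F F' := by
    rw [← tw_mul, ← tw_mul, mul_assoc, D.y23, tw_one]
  rw [h1]
  abel

theorem ff_z1 (x : W) : ff F F' (ρ' E.z1 x) = ff F F' x := by
  have h1 : ∀ x, fp F F' (ρ' E.z1 x) = fp F F' x := by
    intro x
    rw [fp_apply, fp_apply, show F'.g (ρ' E.z1 x) = F'.g x from FrameP.g_z1 H' P' F' x]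
  have h2 : ∀ (θ : W →ₗ[K] V), (∀ x, θ (ρ' E.z1 x) = θ x) → ∀ x, tw ρ ρ' E.y2 θ (ρ' E.z1 x) = tw ρ ρ' E.y2 θ x := by
    intro θ h x
    rw [tw_apply, tw_apply]
    have e1 : ρ' E.y2⁻¹ (ρ' E.z1 x) = ρ' E.z1 (ρ' E.y2⁻¹ x) := by
      rw [← ract, ← ract]
      congr 2
      rw [inv_mul_eq_iff_eq_mul, ← mul_assoc, ← D.z1y2, mul_inv_cancel_right]
    rw [e1, h]
  rw [ff, LinearMap.add_apply, LinearMap.add_apply, LinearMap.add_apply, LinearMap.add_apply, h1, h2 _ h1,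
    h2 _ (h2 _ h1)]

omit H' P' in
theorem ff_self (x : V) : (2 : K) • ff F F x = x + ρ E.z1 x := by
  have D' := H.rel
  have h6 := six_ne H.two P.three
  have y2i : ∀ y, ρ E.y2⁻¹ y = ρ E.y2 (ρ E.y2 y) := by
    intro y
    rw [← ract]
    congr 2
    rw [inv_eq_iff_mul_eq_one, D.y23]
  have hf : ∀ y, (6 : K) • fp F F y = qU (E.map ρ) y := by
    intro y
    rw [fp_apply, smul_smul, F.hg]
  have hσ3 : σ ^ 3 = 1 := by linear_combination (σ - 1) * P.hσ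
  -- commutation on `Vp`
  have key : ∀ y, (E.map ρ).z1 y = y → (E.map ρ).y2 ((E.map ρ).y1 y) = σ ^ 2 • (E.map ρ).y1 ((E.map ρ).y2 y) := by
    intro y hy
    have h1 : (E.map ρ).z1 ((E.map ρ).y2 ((E.map ρ).y1 y)) = (E.map ρ).y2 ((E.map ρ).y1 y) := by
      rw [D'.vz1y2, D'.vz1y1, hy]
    rw [D'.vy1y2, P.ze _ h1, smul_smul, ← pow_succ, hσ3, one_smul]
  set x' := x + ρ E.z1 x with hx'
  have hx1 : (E.map ρ).z1 x' = x' := by
    rw [hx', map_add]
    have : (E.map ρ).z1 (ρ E.z1 x) = x := D'.vz1z1 x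
    rw [this]
    exact add_comm _ _
  have m1 : ∀ y, (E.map ρ).z1 y = y → (E.map ρ).z1 ((E.map ρ).y1 y) = (E.map ρ).y1 y := fun y hy => by
    rw [D'.vz1y1, hy]
  have m2 : ∀ y, (E.map ρ).z1 y = y → (E.map ρ).z1 ((E.map ρ).y2 y) = (E.map ρ).y2 y := fun y hy => by
    rw [D'.vz1y2, hy]
  have q0 : qU (E.map ρ) x = x' + (E.map ρ).y1 x' + (E.map ρ).y1 ((E.map ρ).y1 x') := rfl
  have shift : ∀ y, y + (E.map ρ).z1 y = y + (E.map ρ).z1 y := fun _ => rfl
  have q1 : qU (E.map ρ) ((E.map ρ).y2 ((E.map ρ).y2 x)) =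
      (E.map ρ).y2 ((E.map ρ).y2 x') + (E.map ρ).y1 ((E.map ρ).y2 ((E.map ρ).y2 x')) +
        (E.map ρ).y1 ((E.map ρ).y1 ((E.map ρ).y2 ((E.map ρ).y2 x'))) := by
    have e1 : (E.map ρ).y2 ((E.map ρ).y2 x) + (E.map ρ).z1 ((E.map ρ).y2 ((E.map ρ).y2 x)) =
        (E.map ρ).y2 ((E.map ρ).y2 x') := by
      rw [D'.vz1y2, D'.vz1y2, hx', map_add, map_add]; rfl
    simp only [qU]
    rw [e1]
  have q2 : qU (E.map ρ) ((E.map ρ).y2 ((E.map ρ).y2 ((E.map ρ).y2 ((E.map ρ).y2 x)))) =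
      (E.map ρ).y2 x' + (E.map ρ).y1 ((E.map ρ).y2 x') + (E.map ρ).y1 ((E.map ρ).y1 ((E.map ρ).y2 x')) := by
    have e1 : (E.map ρ).y2 x + (E.map ρ).z1 ((E.map ρ).y2 x) = (E.map ρ).y2 x' := by
      rw [D'.vz1y2, hx', map_add]; rfl
    rw [D'.vy2y2]
    simp only [qU]
    rw [e1]
  have n2 := m2 _ hx1
  have n22 := m2 _ n2
  have k1 : (E.map ρ).y2 ((E.map ρ).y1 ((E.map ρ).y2 ((E.map ρ).y2 x'))) = σ ^ 2 • (E.map ρ).y1 x' := by
    rw [key _ n22, D'.vy2y2]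
  have k2 : (E.map ρ).y2 ((E.map ρ).y1 ((E.map ρ).y1 ((E.map ρ).y2 ((E.map ρ).y2 x')))) =
      σ • (E.map ρ).y1 ((E.map ρ).y1 x') := by
    rw [key _ (m1 _ n22), k1, map_smul, smul_smul]
    congr 1
    linear_combination σ * hσ3
  have k3 : (E.map ρ).y2 ((E.map ρ).y2 ((E.map ρ).y1 ((E.map ρ).y2 x'))) = σ • (E.map ρ).y1 x' := by
    rw [key _ n2, map_smul, k1, smul_smul]
    congr 1
    linear_combination σ * hσ3
  have k4 : (E.map ρ).y2 ((E.map ρ).y2 ((E.map ρ).y1 ((E.map ρ).y1 ((E.map ρ).y2 x')))) =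
      σ ^ 2 • (E.map ρ).y1 ((E.map ρ).y1 x') := by
    rw [key _ (m1 _ n2), map_smul, key _ (m1 _ (m2 _ (m1 _ hx1)) |> fun _ => by
      rw [D'.vz1y2, D'.vz1y1, D'.vz1y2, hx1]), smul_smul]
    rw [show (E.map ρ).y2 ((E.map ρ).y2 ((E.map ρ).y1 ((E.map ρ).y2 x'))) = σ • (E.map ρ).y1 x' from k3, map_smul,
      smul_smul]
    congr 1
    linear_combination (σ ^ 2) * hσ3
  have tot : (6 : K) • ff F F x = (3 : K) • x' := by
    rw [ff, LinearMap.add_apply, LinearMap.add_apply, tw_apply, tw_apply, tw_apply, y2i, y2i, smul_add, smul_add,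
      ← map_smul (ρ E.y2), ← map_smul (ρ E.y2), ← map_smul (ρ E.y2), hf, hf, hf, q0]
    change _ + (E.map ρ).y2 (qU (E.map ρ) ((E.map ρ).y2 ((E.map ρ).y2 x))) + (E.map ρ).y2 ((E.map ρ).y2
      (qU (E.map ρ) ((E.map ρ).y2 ((E.map ρ).y2 ((E.map ρ).y2 ((E.map ρ).y2 x)))))) = _
    rw [q1, q2]
    simp only [map_add, D'.vy2y2, k1, k2, k3, k4]
    have e1 : x' + (E.map ρ).y1 x' + (E.map ρ).y1 ((E.map ρ).y1 x') +
        (x' + σ ^ 2 • (E.map ρ).y1 x' + σ • (E.map ρ).y1 ((E.map ρ).y1 x')) +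
        (x' + σ • (E.map ρ).y1 x' + σ ^ 2 • (E.map ρ).y1 ((E.map ρ).y1 x')) =
        (3 : K) • x' + (σ ^ 2 + σ + 1) • (E.map ρ).y1 x' + (σ ^ 2 + σ + 1) • (E.map ρ).y1 ((E.map ρ).y1 x') := by
      module
    rw [e1, P.hσ, zero_smul, zero_smul, add_zero, add_zero]
  have h4 : (3 : K) • ((2 : K) • ff F F x) = (3 : K) • x' := by
    rw [← tot, smul_smul]; norm_num
  exact smul_right_injective V P.three h4

theorem comp_ff {θ : W →ₗ[K] V} (h1 : E.y1 ∈ Fx ρ ρ' θ) (h2 : E.y2 ∈ Fx ρ ρ' θ) (h3 : E.z1 ∈ Fx ρ ρ' θ) :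
    θ ∘ₗ ff F' F' = F.g (θ F'.w) • ff F F' := by
  have hw : θ F'.w = F.g (θ F'.w) • F.w := by
    apply FrameP.eq_of_mem H P F
    · have := h3 F'.w
      rw [show ρ' E.z1 F'.w = F'.w from F'.hw.1] at this
      exact this
    · have := h1 F'.w
      rw [show ρ' E.y1 F'.w = F'.w from F'.hw.2] at this
      exact this
  have hc : θ ∘ₗ fp F' F' = F.g (θ F'.w) • fp F F' := by
    ext x
    rw [LinearMap.comp_apply, fp_apply, map_smul, LinearMap.smul_apply, fp_apply, smul_comm]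
    congr 1
  rw [ff, LinearMap.comp_add, LinearMap.comp_add, comp_tw h2, comp_tw h2, comp_tw h2, hc, tw_smul, tw_smul,
    ← smul_add, ← smul_add, ← ff]

theorem eq_smul_ff {θ : W →ₗ[K] V} (h1 : E.y1 ∈ Fx ρ ρ' θ) (h2 : E.y2 ∈ Fx ρ ρ' θ) (h3 : E.z1 ∈ Fx ρ ρ' θ)
    (h4 : ∀ x, θ (ρ' E.z1 x) = θ x) : θ = F.g (θ F'.w) • ff F F' := by
  rw [← comp_ff D H H' P P' F F' h1 h2 h3]
  ext x
  rw [LinearMap.comp_apply]
  have e1 := ff_self D H' P' F' x
  have e2 : (2 : K) • θ (ff F' F' x) = (2 : K) • θ x := by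
    rw [← map_smul, e1, map_add, h4, two_smul]
  exact (smul_right_injective V H.two e2).symm

/-- non-vanishing: the composite in the other direction is the projection -/
theorem ff_ne : ff F F' ≠ 0 := by
  intro h0
  have h1 : ff F F' ∘ₗ ff F' F' = F.g (ff F F' F'.w) • ff F F' :=
    comp_ff D H H' P P' F F' (y1_ff D H H' P P' F F') (y2_ff D H H' P P' F F') (z1_ff D H H' P P' F F')
  -- use the reverse composite `ff F' F ∘ ff F F'`
  have h2 : ff F F ∘ₗ fp F F' = fp F F' := by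
    ext x
    rw [LinearMap.comp_apply, fp_apply, map_smul]
    congr 1
    have h3 := ff_self D H P F F.w
    rw [show ρ E.z1 F.w = F.w from F.hw.1, ← two_smul K F.w] at h3
    exact smul_right_injective V H.two h3
  -- evaluate on `w'`: the three summands have different `y1`-eigenvalues
  have y1w : ∀ (θ : W →ₗ[K] V), E.y1 ∈ Fx ρ ρ' θ → ρ E.y1 (θ F'.w) = θ F'.w := by
    intro θ h
    rw [h, show ρ' E.y1 F'.w = F'.w from F'.hw.2]
  have D' := H.rel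
  -- `tw y2 fp w' = g'(y2⁻¹ w') y2 w`, and `g' (y2⁻¹ w') = 0`
  have g0 : ∀ y : W, ρ' E.z1 y = y → ∀ α : K, α ≠ 1 → ρ' E.y1 y = α • y → F'.g y = 0 := by
    intro y hy α hα h
    have h3 := FrameP.g_y1 H' P' F' y
    change F'.g (ρ' E.y1 y) = _ at h3
    rw [h, map_smul, smul_eq_mul] at h3
    have h4 : (α - 1) * F'.g y = 0 := by linear_combination h3
    exact (mul_eq_zero.1 h4).resolve_left (sub_ne_zero.2 hα)
  have hσ1 : σ ≠ 1 := by
    intro h
    have := P.hσ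
    rw [h] at this
    apply P.three
    linear_combination this
  have hσ3 : σ ^ 3 = 1 := by linear_combination (σ - 1) * P.hσ
  have hσ2 : σ ^ 2 ≠ 1 := by
    intro h
    apply hσ1
    linear_combination hσ3 - σ * h
  have D'' := H'.rel
  have ze' : ∀ y, ρ' E.z1 y = y → ρ' E.ze y = σ • y := P'.ze
  have hz : ∀ y, ρ' E.z1 y = y → ρ' E.z1 (ρ' E.y2 y) = ρ' E.y2 y := fun y hy => by
    have : ρ' E.z1 (ρ' E.y2 y) = ρ' E.y2 (ρ' E.z1 y) := D''.vz1y2 y
    rw [this, hy]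
  have hy : ∀ y α, ρ' E.z1 y = y → ρ' E.y1 y = α • y → ρ' E.y1 (ρ' E.y2 y) = (σ * α) • ρ' E.y2 y := by
    intro y α hy1 hy2
    have h3 : ρ' E.y1 (ρ' E.y2 y) = ρ' E.ze (ρ' E.y2 (ρ' E.y1 y)) := D''.vy1y2 y
    rw [h3, hy2, map_smul, map_smul, ze' _ (hz y hy1), smul_smul, mul_comm]
  have w1 : ρ' E.z1 F'.w = F'.w := F'.hw.1
  have w2 : ρ' E.y1 F'.w = (1 : K) • F'.w := by rw [one_smul]; exact F'.hw.2
  have y2i : ∀ y, ρ' E.y2⁻¹ y = ρ' E.y2 (ρ' E.y2 y) := by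
    intro y
    rw [← ract]
    congr 2
    rw [inv_eq_iff_mul_eq_one, D.y23]
  have y222 : ∀ y, ρ' E.y2 (ρ' E.y2 (ρ' E.y2 y)) = y := D''.vy2y2
  have a1 := hy _ _ w1 w2
  have a2 := hy _ _ (hz _ w1) a1
  have e1 : F'.g (ρ' E.y2⁻¹ F'.w) = 0 := by
    rw [y2i]
    exact g0 _ (hz _ (hz _ w1)) _ (by rw [mul_one, ← pow_two]; exact hσ2) a2
  have e2 : F'.g (ρ' E.y2⁻¹ (ρ' E.y2⁻¹ F'.w)) = 0 := by
    rw [y2i, y2i, y222]
    exact g0 _ (hz _ w1) _ (by rw [mul_one]; exact hσ1) a1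
  have e3 : ff F F' F'.w = F.w := by
    rw [ff, LinearMap.add_apply, LinearMap.add_apply, tw_apply, tw_apply, tw_apply, fp_apply, fp_apply, fp_apply, e1,
      e2, F'.gw, zero_smul, one_smul, map_zero, map_zero, add_zero, add_zero]
  rw [h0, LinearMap.zero_apply] at e3
  exact FrameP.ne H P F e3.symm

theorem semiP {g k1 k2 : G} (hz : E.z1 * g = g * E.z1) (h1 : E.y1 * g = g * k1) (h2 : E.y2 * g = g * k2)
    (m1 : k1 ∈ Fx ρ ρ' (ff F F')) (m2 : k2 ∈ Fx ρ ρ' (ff F F')) :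
    ∃ μ : K, μ ≠ 0 ∧ tw ρ ρ' g (ff F F') = μ • ff F F' := by
  have h := eq_smul_ff D H H' P P' F F' (θ := tw ρ ρ' g (ff F F')) (mem_Fx_tw' h1 m1) (mem_Fx_tw' h2 m2)
    (mem_Fx_tw' hz (z1_ff D H H' P P' F F')) (by
      intro x
      rw [tw_apply, tw_apply]
      have e1 : ρ' g⁻¹ (ρ' E.z1 x) = ρ' E.z1 (ρ' g⁻¹ x) := by
        rw [← ract, ← ract]
        congr 2
        rw [inv_mul_eq_iff_eq_mul, ← mul_assoc, ← hz, mul_inv_cancel_right]
      rw [e1, ff_z1 D H H' P P' F F'])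
  refine ⟨_, ?_, h⟩
  intro h0
  rw [h0, zero_smul] at h
  have h7 : tw ρ ρ' g (ff F F') = tw ρ ρ' g 0 := by
    rw [h]; ext x; simp [tw_apply]
  exact ff_ne D H H' P P' F F' (tw_inj h7)

theorem smul_ff_inj {k l : K} (h : k • ff F F' = l • ff F F') : k = l := by
  have : (k - l) • ff F F' = 0 := by rw [sub_smul, h, sub_self]
  exact sub_eq_zero.1 ((smul_eq_zero.1 this).resolve_right (ff_ne D H H' P P' F F'))

theorem r_ff : E.r1 ∈ Fx ρ ρ' (ff F F') ∧ E.r2 ∈ Fx ρ ρ' (ff F F') ∧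
    ∃ ν : K, ν ≠ 0 ∧ tw ρ ρ' E.c (ff F F') = ν • ff F F' := by
  have y1 := y1_ff D H H' P P' F F'
  have y2 := y2_ff D H H' P P' F F'
  have y1r1 : E.y1 * E.r1 = E.r1 * (E.y2 * E.y2) := by
    have h1 := D.r1y2
    have h3 := D.y13
    calc E.y1 * E.r1 = E.y1 * (E.y1 * E.y1) * (E.y1 * E.r1) := by rw [h3, one_mul]
      _ = E.y1 * E.y1 * (E.y1 * E.y1 * E.r1) := by simp only [mul_assoc]
      _ = E.y1 * E.y1 * (E.r1 * E.y2) := by rw [h1]
      _ = (E.y1 * E.y1 * E.r1) * E.y2 := by simp only [mul_assoc]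
      _ = (E.r1 * E.y2) * E.y2 := by rw [h1]
      _ = E.r1 * (E.y2 * E.y2) := by simp only [mul_assoc]
  have y2c : E.y2 * E.c = E.c * (E.y1 * E.y2 * E.y1) := by
    have h1 := D.cy2
    have h3 := D.y13
    have h4 := D.cy1
    calc E.y2 * E.c = (E.y1 * (E.y1 * E.y1)) * E.y2 * (E.y1 * (E.y1 * E.y1)) * E.c := by rw [h3, one_mul, mul_one]
      _ = E.y1 * (E.y1 * E.y1 * E.y2 * E.y1 * E.y1) * (E.y1 * E.c) := by simp only [mul_assoc]
      _ = E.y1 * (E.y1 * E.y1 * E.y2 * E.y1 * E.y1 * E.c) * E.y1 := by rw [← h4]; simp only [mul_assoc]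
      _ = (E.y1 * E.c) * (E.y2 * E.y1) := by rw [← h1]; simp only [mul_assoc]
      _ = E.c * (E.y1 * E.y2 * E.y1) := by rw [← h4]; simp only [mul_assoc]
  obtain ⟨μ, hμ, h⟩ := semiP D H H' P P' F F' D.z1r1 y1r1 D.r1y1.symm (mul_mem y2 y2) y1
  obtain ⟨ν, hν, h'⟩ := semiP D H H' P P' F F' D.z1c D.cy1.symm y2c y1 (mul_mem (mul_mem y1 y2) y1)
  have h1 := congrArg (fun g => tw ρ ρ' g (ff F F')) D.cr1
  simp only [tw_mul, h, h', tw_smul] at h1
  -- `μ ν ff = ν tw r2 ff`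
  have h1' : tw ρ ρ' E.r2 (ff F F') = μ • ff F F' := by
    have h3 : ν • tw ρ ρ' E.r2 (ff F F') = ν • (μ • ff F F') := by rw [← h1, smul_comm]
    have h4 := congrArg (fun z => ν⁻¹ • z) h3
    simp only [smul_smul, inv_mul_cancel₀ hν, one_smul] at h4
    rw [h4, ← mul_assoc, inv_mul_cancel₀ hν, one_mul]
  have h2 := congrArg (fun g => tw ρ ρ' g (ff F F')) D.cr2
  simp only [tw_mul, h, h', h1', tw_smul, smul_smul] at h2
  have h2' := smul_ff_inj D H H' P P' F F' h2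
  have h3 : μ = 1 := by
    have : (ν * μ) * (μ - 1) = 0 := by linear_combination -h2'
    exact sub_eq_zero.1 ((mul_eq_zero.1 this).resolve_left (mul_ne_zero hν hμ))
  refine ⟨?_, ?_, ν, hν, h'⟩
  · rw [mem_Fx_iff_tw, h, h3, one_smul]
  · rw [mem_Fx_iff_tw, h1', h3, one_smul]

end two

end Cfsg.Agent.H36.U52
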