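import Mathlib

/-!
# Generators and relations inside `SU_5(2)` used for its low-dimensional representations
-/

set_option autoImplicit false

namespace Cfsg.Agent.H36.U52

universe u v

/-- the elements -/
structure El (G : Type u) where
  (z1 z2 z3 z4 z5 a1 a2 a3 b1 b2 b3 h c r1 r2 d1 d2 y1 y2 t ze : G)

/-- image of the elements under a map -/
def El.map {G : Type u} {H : Type v} (E : El G) (f : G → H) : El H :=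
  ⟨f E.z1, f E.z2, f E.z3, f E.z4, f E.z5, f E.a1, f E.a2, f E.a3, f E.b1, f E.b2, f E.b3, f E.h, f E.c, f E.r1,
    f E.r2, f E.d1, f E.d2, f E.y1, f E.y2, f E.t, f E.ze⟩

/-- the relations (in a monoid) -/
structure Rel {G : Type u} [Monoid G] (E : El G) : Prop where
  z1z1 : E.z1 * E.z1 = 1
  z2z2 : E.z2 * E.z2 = 1
  a1a1 : E.a1 * E.a1 = 1
  a2a2 : E.a2 * E.a2 = 1
  a3a3 : E.a3 * E.a3 = E.z1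
  b1b1 : E.b1 * E.b1 = 1
  b2b2 : E.b2 * E.b2 = 1
  b3b3 : E.b3 * E.b3 = E.z1
  hh : E.h * E.h = 1
  z1z2 : E.z1 * E.z2 = E.z2 * E.z1
  z1a1 : E.z1 * E.a1 = E.a1 * E.z1
  z1a2 : E.z1 * E.a2 = E.a2 * E.z1
  z1a3 : E.z1 * E.a3 = E.a3 * E.z1
  z1b1 : E.z1 * E.b1 = E.b1 * E.z1
  z1b2 : E.z1 * E.b2 = E.b2 * E.z1
  z1b3 : E.z1 * E.b3 = E.b3 * E.z1
  z1c : E.z1 * E.c = E.c * E.z1
  z1r1 : E.z1 * E.r1 = E.r1 * E.z1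
  z1y1 : E.z1 * E.y1 = E.y1 * E.z1
  z1y2 : E.z1 * E.y2 = E.y2 * E.z1
  z2a1 : E.z2 * E.a1 = E.a1 * E.z2
  z2a2 : E.z2 * E.a2 = E.a2 * E.z2
  z2a3 : E.z2 * E.a3 = E.a3 * E.z2
  z2b3 : E.z2 * E.b3 = E.b3 * E.z2
  z2c : E.z2 * E.c = E.c * E.z2
  z2r1 : E.z2 * E.r1 = E.r1 * E.z2
  z2ze : E.z2 * E.ze = E.ze * E.z2
  z3e : E.z3 = E.z2 * E.a1
  z4e : E.z4 = E.z2 * E.a2
  z5e : E.z5 = E.z1 * E.a1 * E.a2 * E.z2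
  a1a2 : E.a1 * E.a2 = E.a2 * E.a1
  a1a3 : E.a1 * E.a3 = E.a3 * E.a1
  a2a3 : E.a2 * E.a3 = E.a3 * E.a2
  a1b1 : E.a1 * E.b1 = E.z1 * E.b1 * E.a1
  a1b2 : E.a1 * E.b2 = E.b2 * E.a1
  a1b3 : E.a1 * E.b3 = E.b3 * E.a1
  a2b1 : E.a2 * E.b1 = E.b1 * E.a2
  a2b2 : E.a2 * E.b2 = E.z1 * E.b2 * E.a2
  a2b3 : E.a2 * E.b3 = E.b3 * E.a2
  a3b1 : E.a3 * E.b1 = E.b1 * E.a3
  a3b2 : E.a3 * E.b2 = E.b2 * E.a3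
  a3b3 : E.a3 * E.b3 = E.z1 * E.b3 * E.a3
  b1b2 : E.b1 * E.b2 = E.b2 * E.b1
  b1b3 : E.b1 * E.b3 = E.b3 * E.b1
  b2b3 : E.b2 * E.b3 = E.b3 * E.b2
  z2b1 : E.z2 * E.b1 = E.b1 * E.z4
  z2b2 : E.z2 * E.b2 = E.b2 * E.z3
  z1h : E.z1 * E.h = E.h * E.z2
  z2h : E.z2 * E.h = E.h * E.z1
  z3h : E.z3 * E.h = E.h * E.z3
  z4h : E.z4 * E.h = E.h * E.z5
  c3 : E.c * (E.c * E.c) = 1
  ca1 : E.c * E.a1 = E.a1 * E.c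
  ca2 : E.c * E.a2 = E.a2 * E.c
  cb1 : E.c * E.b1 = E.b1 * E.c
  cb2 : E.c * E.b2 = E.b2 * E.c
  ch : E.c * E.h = E.h * E.c
  ca3 : E.c * E.a3 = E.b3 * E.c
  cb3 : E.c * E.b3 = E.a3 * E.b3 * E.c
  r1h : E.r1 * E.h = E.h * E.a3
  r2h : E.r2 * E.h = E.h * E.b3
  d1h : E.d1 * E.h = E.h * E.b1
  d2h : E.d2 * E.h = E.h * E.b2
  he : E.h = E.b2 * E.d2 * E.b2
  te : E.t = E.c * E.ze
  te' : E.t = E.b2 * E.d1 * E.b1 * E.d2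
  y1y2 : E.y1 * E.y2 = E.ze * (E.y2 * E.y1)
  zey1 : E.ze * E.y1 = E.y1 * E.ze
  zey2 : E.ze * E.y2 = E.y2 * E.ze
  z1ze : E.z1 * E.ze = E.ze * E.z1
  zer2 : E.ze * E.r2 = E.r2 * E.ze
  zer1 : E.ze * E.r1 = E.r1 * E.ze
  zec : E.ze * E.c = E.c * E.ze
  ze3 : E.ze * (E.ze * E.ze) = 1
  y13 : E.y1 * (E.y1 * E.y1) = 1
  y23 : E.y2 * (E.y2 * E.y2) = 1
  z2y1 : E.z2 * E.y1 = E.y1 * E.y1 * E.z2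
  z2y2 : E.z2 * E.y2 = E.y2 * E.y2 * E.z2
  r1y1 : E.r1 * E.y1 = E.y2 * E.r1
  r1y2 : E.r1 * E.y2 = E.y1 * E.y1 * E.r1
  cy1 : E.c * E.y1 = E.y1 * E.c
  cy2 : E.c * E.y2 = E.y1 * E.y1 * E.y2 * E.y1 * E.y1 * E.c
  r1r1 : E.r1 * E.r1 = E.z2
  cr1 : E.c * E.r1 = E.r2 * E.c
  cr2 : E.c * E.r2 = E.r1 * E.r2 * E.c
  a1r1 : E.a1 * E.r1 = E.r1 * E.a1
  a2r1 : E.a2 * E.r1 = E.r1 * E.a2
  a3r1 : E.a3 * E.r1 = E.r1 * (E.z1 * E.a1 * E.a3)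
  b1r1 : E.b1 * E.r1 = E.r1 * (E.z1 * E.a1 * E.b1 * E.b3)
  b2r1 : E.b2 * E.r1 = E.r1 * (E.a1 * E.a2 * E.a3 * E.b2)
  b3r1 : E.b3 * E.r1 = E.r1 * (E.z1 * E.a2 * E.b3)
  a1y1 : E.a1 * E.y1 = E.y1 * (E.z1 * E.a1 * E.b2)
  a2y1 : E.a2 * E.y1 = E.y1 * (E.z1 * E.a2 * E.b1)
  a3y1 : E.a3 * E.y1 = E.y1 * E.a3
  b1y1 : E.b1 * E.y1 = E.y1 * (E.z1 * E.a2)
  b2y1 : E.b2 * E.y1 = E.y1 * (E.z1 * E.a1)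
  b3y1 : E.b3 * E.y1 = E.y1 * E.b3
  a1y2 : E.a1 * E.y2 = E.y2 * (E.z1 * E.a1 * E.a2 * E.a3 * E.b2)
  a2y2 : E.a2 * E.y2 = E.y2 * (E.a1 * E.b1 * E.b3)
  a3y2 : E.a3 * E.y2 = E.y2 * (E.a2 * E.b2)
  b1y2 : E.b1 * E.y2 = E.y2 * (E.a1 * E.a2 * E.a3 * E.b2 * E.b3)
  b2y2 : E.b2 * E.y2 = E.y2 * (E.z1 * E.a2 * E.b1 * E.b2 * E.b3)
  b3y2 : E.b3 * E.y2 = E.y2 * (E.z1 * E.a1 * E.a2 * E.b1)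
  z1d1 : E.z1 * E.d1 = E.d1 * E.z5
  z2d1 : E.z2 * E.d1 = E.d1 * E.z2
  a1d1 : E.a1 * E.d1 = E.d1 * E.a2
  a2d1 : E.a2 * E.d1 = E.d1 * E.a1
  z1r2 : E.z1 * E.r2 = E.r2 * E.z1
  z2r2 : E.z2 * E.r2 = E.r2 * E.z2
  r1r2 : E.r1 * E.r2 = E.z2 * E.r2 * E.r1
  r2r2 : E.r2 * E.r2 = E.z2
  a3d1 : E.a3 * E.d1 = E.d1 * (E.b3 * E.a3 * E.r2 * E.b3)
  b3d1 : E.b3 * E.d1 = E.d1 * (E.r2 * E.b3 * E.r1 * E.z2)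
  td1 : E.t * E.d1 = E.d2 * E.t
  td2 : E.t * E.d2 = E.d1 * E.d2 * E.t
  w1 : E.h * E.b1 = E.b1 * E.b2 * (E.d1 * E.t)
  w2 : E.h * E.b2 = E.b2 * E.d2

theorem Rel.map {G : Type u} {H : Type v} [Monoid G] [Monoid H] {E : El G} (D : Rel E) (f : G →* H) :
    Rel (E.map f) := by
  obtain ⟨⟩ := D
  constructor <;> simp only [El.map] <;> first
    | (rw [← map_one f]; simp only [← map_mul]; congr 1)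
    | (simp only [← map_mul]; congr 1)

end Cfsg.Agent.H36.U52
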