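import Cfsg.Agent.H36.U52.Two

/-!
# Two modules: equivariance under the centraliser of `z1` on `z1 = -1`, and gluing over the line stabiliser
-/

set_option autoImplicit false
set_option linter.unusedSectionVars false

namespace Cfsg.Agent.H36.U52

open Module

universe u v v' w

variable {K : Type u} {V : Type v} {W : Type v'} [Field K] [AddCommGroup V] [Module K V]

/-- `1 + a3 + b3 + a3 b3` -/
def TT (E : El (Module.End K V)) (x : V) : V := x + E.a3 x + E.b3 x + E.a3 (E.b3 x)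

/-- `c` on `z1 = -1` -/
def CS (E : El (Module.End K V)) (s : K) : Prop :=
  ∀ x, E.z1 x = -x → (2 : K) • E.c x = -(s • TT E x)

section words

variable {E : El (Module.End K V)} (D : Rel E) (x : V)
include D

theorem Rel.vz1c : E.z1 (E.c x) = E.c (E.z1 x) := ap D.z1c x
theorem Rel.va1c : E.a1 (E.c x) = E.c (E.a1 x) := (ap D.ca1 x).symm
theorem Rel.va2c : E.a2 (E.c x) = E.c (E.a2 x) := (ap D.ca2 x).symm
theorem Rel.vb1c : E.b1 (E.c x) = E.c (E.b1 x) := (ap D.cb1 x).symm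
theorem Rel.vb2c : E.b2 (E.c x) = E.c (E.b2 x) := (ap D.cb2 x).symm
theorem Rel.vb3c : E.b3 (E.c x) = E.c (E.a3 x) := (ap D.ca3 x).symm
theorem Rel.va3c : E.a3 (E.c x) = E.c (E.a3 (E.b3 x)) := by
  have h1 : E.c (E.a3 (E.b3 x)) = E.b3 (E.c (E.b3 x)) := ap D.ca3 _
  have h2 : E.c (E.b3 x) = E.a3 (E.b3 (E.c x)) := ap D.cb3 _
  rw [h1, h2, D.va3b3, D.vb3b3, D.vz1a3, D.vz1z1]

end words

variable [AddCommGroup W] [Module K W]
variable {G : Type w} [Group G]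
variable {ρ : G →* Module.End K V} {ρ' : G →* Module.End K W}
variable {E : El G} (D : Rel E) {i : K}

section cs

variable [FiniteDimensional K V] (H : Good (E.map ρ) i) (F : Frame (E.map ρ) i)
include D H

theorem TT_cube {x : V} (hx : ρ E.z1 x = -x) :
    TT (E.map ρ) (TT (E.map ρ) (TT (E.map ρ) x)) = -((8 : K) • x) := by
  have D' := H.rel
  have hx' : (E.map ρ).z1 x = -x := hx
  simp only [TT, map_sub, map_add, D'.vb3b3, D'.va3b3, D'.va3a3, D'.vz1a3, D'.vz1b3, hx', map_neg]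
  module

theorem TT_z1 {x : V} (hx : ρ E.z1 x = -x) : ρ E.z1 (TT (E.map ρ) x) = - TT (E.map ρ) x := by
  have D' := H.rel
  have hx' : (E.map ρ).z1 x = -x := hx
  change (E.map ρ).z1 (TT (E.map ρ) x) = - TT (E.map ρ) x
  simp only [TT, map_sub, map_add, D'.vb3b3, D'.va3b3, D'.va3a3, D'.vz1a3, D'.vz1b3, hx', map_neg]
  abel

theorem exists_cs (F : Frame (E.map ρ) i) : ∃ s : K, s ^ 3 = 1 ∧ CS (E.map ρ) s := by
  have D' := H.rel
  set e := E.map ρ with he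
  let θ : V →ₗ[K] V := e.c ∘ₗ (1 - e.a3 - e.b3 - e.a3 * e.b3) ∘ₗ (1 - e.z1)
  have hθ : ∀ x, θ x = e.c (x - e.z1 x - e.a3 (x - e.z1 x) - e.b3 (x - e.z1 x) - e.a3 (e.b3 (x - e.z1 x))) :=
    fun x => rfl
  have m1 : E.a1 ∈ Fx ρ ρ θ := by
    intro x
    change e.a1 (θ x) = θ (e.a1 x)
    simp only [hθ, map_sub, D'.va1c, D'.vz1a1, D'.va3a1, D'.va1b3, D'.va3b3, D'.vz1a3]
  have m2 : E.a2 ∈ Fx ρ ρ θ := by
    intro x
    change e.a2 (θ x) = θ (e.a2 x)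
    simp only [hθ, map_sub, D'.va2c, D'.vz1a2, D'.va3a2, D'.va2b3, D'.va3b3, D'.vz1a3]
  have m3 : E.b1 ∈ Fx ρ ρ θ := by
    intro x
    change e.b1 (θ x) = θ (e.b1 x)
    simp only [hθ, map_sub, D'.vb1c, D'.vz1b1, D'.va3b1, D'.vb3b1]
  have m4 : E.b2 ∈ Fx ρ ρ θ := by
    intro x
    change e.b2 (θ x) = θ (e.b2 x)
    simp only [hθ, map_sub, D'.vb2c, D'.vz1b2, D'.va3b2, D'.vb3b2]
  have m5 : E.a3 ∈ Fx ρ ρ θ := by
    intro x
    change e.a3 (θ x) = θ (e.a3 x)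
    simp only [hθ, map_sub, D'.va3c, D'.vz1a3, D'.vz1b3, D'.va3a3, D'.va3b3, D'.vb3b3, D'.vz1z1]
    abel
  have m6 : E.b3 ∈ Fx ρ ρ θ := by
    intro x
    change e.b3 (θ x) = θ (e.b3 x)
    simp only [hθ, map_sub, D'.vb3c, D'.vz1a3, D'.vz1b3, D'.va3a3, D'.va3b3, D'.vb3b3, D'.vz1z1]
    abel
  have m7 : ∀ x, θ (ρ E.z1 x) = - θ x := by
    intro x
    change θ (e.z1 x) = - θ x
    simp only [hθ, map_sub, D'.vz1z1]
    abel
  have key := eq_smul_tm D H H F F m1 m2 m5 m6 m4 m3 m7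
  set κ := F.f (θ F.v) with hκ
  have h4 : (4 : K) ≠ 0 := by
    have : (4 : K) = 2 * 2 := by norm_num
    rw [this]
    exact mul_ne_zero H.two H.two
  have kx : ∀ x, (2 : K) • θ x = κ • (x - e.z1 x) := by
    intro x
    rw [key, LinearMap.smul_apply, smul_comm, tm_self D H F x]
    rfl
  have hcs : CS e (-(κ / 4)) := by
    intro w hw
    have k1 := kx (TT e w)
    have hw' : e.z1 (TT e w) = - TT e w := TT_z1 D H hw
    rw [hθ, hw'] at k1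
    have k2 : TT e w - -TT e w - e.a3 (TT e w - -TT e w) - e.b3 (TT e w - -TT e w) -
        e.a3 (e.b3 (TT e w - -TT e w)) = (8 : K) • w := by
      simp only [TT, map_sub, map_add, D'.vb3b3, D'.va3b3, D'.va3a3, D'.vz1a3, D'.vz1b3, hw, map_neg]
      module
    rw [k2, map_smul] at k1
    have k3 : (8 : K) • ((2 : K) • e.c w) = (8 : K) • (-(-(κ / 4) • TT e w)) := by
      rw [smul_comm, k1]
      have : (8 : K) • (-(-(κ / 4) • TT e w)) = (2 * (4 * (κ / 4))) • TT e w := by module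
      rw [this, mul_div_cancel₀ _ h4]
      module
    have h8 : (8 : K) ≠ 0 := by
      have : (8 : K) = 2 * 4 := by norm_num
      rw [this]
      exact mul_ne_zero H.two h4
    exact smul_right_injective V h8 k3
  refine ⟨-(κ / 4), ?_, hcs⟩
  set s := -(κ / 4) with hs
  have hv : e.z1 F.v = -F.v := (mem_X.1 F.hv).1.1.1
  have hc : ∀ x, e.z1 x = -x → e.z1 (e.c x) = -(e.c x) := fun x hx => by rw [D'.vz1c, hx, map_neg]
  have e1 := hcs _ hv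
  have e2 := hcs _ (hc _ hv)
  have e3 := hcs _ (hc _ (hc _ hv))
  have TTs : ∀ (k : K) (x : V), TT e (k • x) = k • TT e x := by
    intro k x; simp only [TT, map_smul, smul_add]
  have TTn : ∀ (x : V), TT e (-x) = - TT e x := by
    intro x; simp only [TT, map_neg]; abel
  have f2 : (4 : K) • e.c (e.c F.v) = (s ^ 2) • TT e (TT e F.v) := by
    have : (4 : K) • e.c (e.c F.v) = (2 : K) • ((2 : K) • e.c (e.c F.v)) := by rw [smul_smul]; norm_num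
    rw [this, e2, smul_neg, smul_comm, ← TTs, e1, TTn, TTs, smul_neg, neg_neg, smul_smul, pow_two]
  have f3 : (8 : K) • e.c (e.c (e.c F.v)) = -((s ^ 3) • TT e (TT e (TT e F.v))) := by
    have : (8 : K) • e.c (e.c (e.c F.v)) = (4 : K) • ((2 : K) • e.c (e.c (e.c F.v))) := by rw [smul_smul]; norm_num
    rw [this, e3, smul_neg, smul_comm, ← TTs, f2, TTs, smul_smul, ← pow_succ']
  rw [TT_cube D H hv, show e.c (e.c (e.c F.v)) = F.v from ap D'.c3 _, smul_neg, neg_neg, smul_smul] at f3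
  have hne := Frame.ne H F
  have h8 : (8 : K) ≠ 0 := by
    have : (8 : K) = 2 * 4 := by norm_num
    rw [this]
    exact mul_ne_zero H.two h4
  have f4 : (8 - s ^ 3 * 8) • F.v = 0 := by rw [sub_smul, f3, sub_self]
  have f5 := (smul_eq_zero.1 f4).resolve_right hne
  have f6 : (8 : K) * (s ^ 3 - 1) = 0 := by linear_combination -f5
  have f7 := (mul_eq_zero.1 f6).resolve_left h8
  linear_combination f7

end cs

section two

variable [FiniteDimensional K V] [FiniteDimensional K W]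
variable (H : Good (E.map ρ) i) (H' : Good (E.map ρ') i) (F : Frame (E.map ρ) i) (F' : Frame (E.map ρ') i)
include D H H'

theorem two_tm (x : W) : tm F F' (x - ρ' E.z1 x) = (2 : K) • tm F F' x := by
  rw [map_sub, tm_z1 D H H' F F', two_smul]; abel

theorem c_tm {s : K} (hs : CS (E.map ρ) s) (hs' : CS (E.map ρ') s) : E.c ∈ Fx ρ ρ' (tm F F') := by
  have key : ∀ x, ρ' E.z1 x = -x → ρ E.c (tm F F' x) = tm F F' (ρ' E.c x) := by
    intro x hx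
    have h1 : ρ E.z1 (tm F F' x) = - tm F F' x := by rw [z1_tm D H H' F F', hx, map_neg]
    have h2 := hs (tm F F' x) h1
    have h3 := hs' x hx
    have h4 : (2 : K) • ρ E.c (tm F F' x) = (2 : K) • tm F F' (ρ' E.c x) := by
      rw [← map_smul (tm F F') (2 : K) (ρ' E.c x)]
      change (2 : K) • (E.map ρ).c (tm F F' x) = tm F F' ((2 : K) • (E.map ρ').c x)
      rw [h2, h3, map_neg, map_smul]
      congr 2
      unfold TT
      change tm F F' x + ρ E.a3 (tm F F' x) + ρ E.b3 (tm F F' x) + ρ E.a3 (ρ E.b3 (tm F F' x)) =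
        tm F F' (x + ρ' E.a3 x + ρ' E.b3 x + ρ' E.a3 (ρ' E.b3 x))
      rw [a3_tm D H H' F F' x, b3_tm D H H' F F' x, a3_tm D H H' F F', map_add, map_add, map_add]
    exact smul_right_injective V H.two h4
  intro x
  have h1 := key (x - ρ' E.z1 x) (by rw [map_sub, show ρ' E.z1 (ρ' E.z1 x) = x from H'.rel.vz1z1 x]; abel)
  rw [two_tm D H H' F F', map_sub] at h1
  have h2 : ρ' E.c (ρ' E.z1 x) = ρ' E.z1 (ρ' E.c x) := (H'.rel.vz1c x).symm
  rw [h2, two_tm D H H' F F', map_smul] at h1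
  exact smul_right_injective V H.two h1

/-- the value at `v'` -/
theorem t2_v : t2 F F' F'.v = F.v := by
  have hv := mem_X.1 F'.hv
  have D' := H'.rel
  have h1 : F'.f (ρ' E.b3⁻¹ F'.v) = 0 := by
    have e1 : ρ' E.a3 (ρ' E.b3⁻¹ F'.v) = -(i • (ρ' E.b3⁻¹ F'.v)) := by
      have e2 : ρ' E.b3 (ρ' E.a3 (ρ' E.b3⁻¹ F'.v)) = ρ' E.b3 (-(i • (ρ' E.b3⁻¹ F'.v))) := by
        have e3 : (E.map ρ').a3 ((E.map ρ').b3 (ρ' E.b3⁻¹ F'.v)) =
          (E.map ρ').b3 ((E.map ρ').a3 ((E.map ρ').z1 (ρ' E.b3⁻¹ F'.v))) := D'.va3b3 _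
        have e4 : (E.map ρ').z1 (ρ' E.b3⁻¹ F'.v) = -(ρ' E.b3⁻¹ F'.v) := by
          have e5 : ρ' E.b3 (ρ' E.z1 (ρ' E.b3⁻¹ F'.v)) = ρ' E.b3 (-(ρ' E.b3⁻¹ F'.v)) := by
            have e6 : ρ' E.b3 (ρ' E.z1 (ρ' E.b3⁻¹ F'.v)) = ρ' E.z1 (ρ' E.b3 (ρ' E.b3⁻¹ F'.v)) := (D'.vz1b3 _).symm
            rw [e6, ract_inv, map_neg, ract_inv]
            exact hv.1.1.1
          have := congrArg (ρ' E.b3⁻¹) e5
          rwa [ract_inv', ract_inv'] at this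
        rw [e4, map_neg, map_neg] at e3
        have e7 : (E.map ρ').b3 (ρ' E.b3⁻¹ F'.v) = F'.v := ract_inv ρ' _ _
        rw [e7, hv.2] at e3
        rw [map_neg, map_smul, ract_inv]
        change (E.map ρ').b3 ((E.map ρ').a3 (ρ' E.b3⁻¹ F'.v)) = _
        rw [e3, neg_neg]
      have := congrArg (ρ' E.b3⁻¹) e2
      rwa [ract_inv', ract_inv'] at this
    have e8 := Frame.f_a3 H' F' (ρ' E.b3⁻¹ F'.v)
    change F'.f (ρ' E.a3 _) = _ at e8
    rw [e1, map_neg, map_smul, smul_eq_mul] at e8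
    have e9 : (2 : K) * (i * F'.f (ρ' E.b3⁻¹ F'.v)) = 0 := by linear_combination -e8
    have hi0 : i ≠ 0 := by
      rintro rfl
      have := H.hi
      rw [mul_zero] at this
      apply H.two
      linear_combination 2 * this
    exact (mul_eq_zero.1 ((mul_eq_zero.1 e9).resolve_left H.two)).resolve_left hi0
  rw [t2, LinearMap.add_apply, tw_apply, tp_apply, tp_apply, F'.fv, one_smul, h1, zero_smul, map_zero, add_zero]

theorem t2_mem (x : W) : t2 F F' x ∈ V2 (E.map ρ) := by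
  rw [t2, LinearMap.add_apply, tw_apply, tp_apply, tp_apply, map_smul]
  exact (V2 _).add_mem ((V2 _).smul_mem _ F.hv.1) ((V2 _).smul_mem _ (b3_V2 H.rel _ F.hv.1))

theorem t3_mem (x : W) : ρ E.a1 (t3 F F' x) = - t3 F F' x := by
  have h1 := (mem_V2.1 (t2_mem D H H' F F' x)).1.2
  have h2 := t2_mem D H H' F F' (ρ' E.b2⁻¹ x)
  have h3 := (mem_V2.1 h2).1.2
  rw [t3, LinearMap.add_apply, map_add, tw_apply]
  have h4 : ρ E.a1 (ρ E.b2 (t2 F F' (ρ' E.b2⁻¹ x))) = ρ E.b2 (ρ E.a1 (t2 F F' (ρ' E.b2⁻¹ x))) := H.rel.va1b2 _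
  rw [h4]
  change (E.map ρ).a1 (t2 F F' x) + ρ E.b2 ((E.map ρ).a1 (t2 F F' (ρ' E.b2⁻¹ x))) = _
  rw [h1, h3, map_neg]
  abel

theorem t3_v : t3 F F' F'.v = F.v := by
  have hv := mem_X.1 F'.hv
  have D' := H'.rel
  rw [t3, LinearMap.add_apply, tw_apply, t2_v D H H' F F']
  have h1 : ρ' E.b2⁻¹ F'.v = ρ' E.b2 F'.v := by
    congr 2
    rw [inv_eq_iff_mul_eq_one, D.b2b2]
  have h2 : ρ' E.a2 (ρ' E.b2 F'.v) = ρ' E.b2 F'.v := by
    have e1 : ρ' E.a2 (ρ' E.b2 F'.v) = ρ' E.b2 (ρ' E.a2 (ρ' E.z1 F'.v)) := D'.va2b2 _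
    rw [e1, show ρ' E.z1 F'.v = -F'.v from hv.1.1.1, map_neg, show ρ' E.a2 F'.v = -F'.v from hv.1.2, neg_neg]
  have h3 := a2_t2 D H H' F F' (ρ' E.b2 F'.v)
  rw [h2, show ρ E.a2 _ = _ from (mem_V2.1 (t2_mem D H H' F F' _)).2] at h3
  rw [h1, half H.two h3.symm, map_zero, add_zero]

theorem tm_v : tm F F' F'.v = F.v := by
  have hv := mem_X.1 F'.hv
  have D' := H'.rel
  rw [tm, LinearMap.add_apply, tw_apply, t3_v D H H' F F']
  have h1 : ρ' E.b1⁻¹ F'.v = ρ' E.b1 F'.v := by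
    congr 2
    rw [inv_eq_iff_mul_eq_one, D.b1b1]
  have h2 : ρ' E.a1 (ρ' E.b1 F'.v) = ρ' E.b1 F'.v := by
    have e1 : ρ' E.a1 (ρ' E.b1 F'.v) = ρ' E.b1 (ρ' E.a1 (ρ' E.z1 F'.v)) := D'.va1b1 _
    rw [e1, show ρ' E.z1 F'.v = -F'.v from hv.1.1.1, map_neg, show ρ' E.a1 F'.v = -F'.v from hv.1.1.2, neg_neg]
  have h3 := a1_t3 D H H' F F' (ρ' E.b1 F'.v)
  rw [h2, t3_mem D H H' F F'] at h3
  rw [h1, half H.two h3.symm, map_zero, add_zero]

theorem tm_ne : tm F F' ≠ 0 := by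
  intro h
  have := tm_v D H H' F F'
  rw [h, LinearMap.zero_apply] at this
  exact Frame.ne H F this.symm

theorem t2_ne : t2 F F' ≠ 0 := by
  intro h
  have := t2_v D H H' F F'
  rw [h, LinearMap.zero_apply] at this
  exact Frame.ne H F this.symm

theorem smul_tm_inj {k l : K} (h : k • tm F F' = l • tm F F') : k = l := by
  have : (k - l) • tm F F' = 0 := by rw [sub_smul, h, sub_self]
  exact sub_eq_zero.1 ((smul_eq_zero.1 this).resolve_right (tm_ne D H H' F F'))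

theorem smul_t2_inj {k l : K} (h : k • t2 F F' = l • t2 F F') : k = l := by
  have : (k - l) • t2 F F' = 0 := by rw [sub_smul, h, sub_self]
  exact sub_eq_zero.1 ((smul_eq_zero.1 this).resolve_right (t2_ne D H H' F F'))

omit D H H' in
theorem tw_inj {g : G} {θ φ : W →ₗ[K] V} (h : tw ρ ρ' g θ = tw ρ ρ' g φ) : θ = φ := by
  have := congrArg (tw ρ ρ' g⁻¹) h
  rwa [← tw_mul, ← tw_mul, inv_mul_cancel, tw_one, tw_one] at this

/-- an element normalising the extraspecial group -/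
theorem semi {g k1 k2 k3 l1 l2 l3 : G} (hz : E.z1 * g = g * E.z1)
    (h1 : E.a1 * g = g * k1) (h2 : E.a2 * g = g * k2) (h3 : E.a3 * g = g * k3)
    (h4 : E.b3 * g = g * l3) (h5 : E.b2 * g = g * l2) (h6 : E.b1 * g = g * l1)
    (m1 : k1 ∈ Fx ρ ρ' (tm F F')) (m2 : k2 ∈ Fx ρ ρ' (tm F F')) (m3 : k3 ∈ Fx ρ ρ' (tm F F'))
    (n3 : l3 ∈ Fx ρ ρ' (tm F F')) (n2 : l2 ∈ Fx ρ ρ' (tm F F')) (n1 : l1 ∈ Fx ρ ρ' (tm F F')) :
    ∃ μ : K, μ ≠ 0 ∧ tw ρ ρ' g (tm F F') = μ • tm F F' := by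
  have h := eq_smul_tm D H H' F F' (θ := tw ρ ρ' g (tm F F')) (mem_Fx_tw' h1 m1) (mem_Fx_tw' h2 m2)
    (mem_Fx_tw' h3 m3) (mem_Fx_tw' h4 n3) (mem_Fx_tw' h5 n2) (mem_Fx_tw' h6 n1)
    (tw_z1 D H H' (tm_z1 D H H' F F') hz)
  refine ⟨_, ?_, h⟩
  intro h0
  rw [h0, zero_smul] at h
  have h7 : tw ρ ρ' g (tm F F') = tw ρ ρ' g 0 := by
    rw [h]; ext x; simp [tw_apply]
  exact tm_ne D H H' F F' (tw_inj h7)

omit D H H' in
theorem tw_of_mem {θ : W →ₗ[K] V} {g k : G} (hk : k ∈ Fx ρ ρ' θ) : tw ρ ρ' (g * k) θ = tw ρ ρ' g θ := by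
  rw [tw_mul, mem_Fx_iff_tw.1 hk]

theorem y1_tm : E.y1 ∈ Fx ρ ρ' (tm F F') := by
  have a1 := a1_tm D H H' F F'
  have a2 := a2_tm D H H' F F'
  have a3 := a3_tm D H H' F F'
  have b1 := b1_tm D H H' F F'
  have b2 := b2_tm D H H' F F'
  have b3 := b3_tm D H H' F F'
  have z1 := z1_tm D H H' F F'
  have z2 := z2_tm D H H' F F'
  obtain ⟨μ, hμ, h⟩ := semi D H H' F F' D.z1y1 D.a1y1 D.a2y1 D.a3y1 D.b3y1 D.b2y1 D.b1y1
    (mul_mem (mul_mem z1 a1) b2) (mul_mem (mul_mem z1 a2) b1) a3 b3 (mul_mem z1 a1) (mul_mem z1 a2)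
  have h1 := congrArg (fun g => tw ρ ρ' g (tm F F')) D.z2y1
  simp only [tw_mul, h, mem_Fx_iff_tw.1 z2, tw_smul] at h1
  rw [smul_smul] at h1
  have h2 := smul_tm_inj D H H' F F' h1
  have h3 : μ = 1 := by
    have : μ * (μ - 1) = 0 := by linear_combination -h2
    exact sub_eq_zero.1 ((mul_eq_zero.1 this).resolve_left hμ)
  rw [mem_Fx_iff_tw, h, h3, one_smul]

theorem y2_tm : E.y2 ∈ Fx ρ ρ' (tm F F') := by
  have a1 := a1_tm D H H' F F'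
  have a2 := a2_tm D H H' F F'
  have a3 := a3_tm D H H' F F'
  have b1 := b1_tm D H H' F F'
  have b2 := b2_tm D H H' F F'
  have b3 := b3_tm D H H' F F'
  have z1 := z1_tm D H H' F F'
  have z2 := z2_tm D H H' F F'
  obtain ⟨μ, hμ, h⟩ := semi D H H' F F' D.z1y2 D.a1y2 D.a2y2 D.a3y2 D.b3y2 D.b2y2 D.b1y2
    (mul_mem (mul_mem (mul_mem (mul_mem z1 a1) a2) a3) b2) (mul_mem (mul_mem a1 b1) b3) (mul_mem a2 b2)
    (mul_mem (mul_mem (mul_mem z1 a1) a2) b1)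
    (mul_mem (mul_mem (mul_mem (mul_mem z1 a2) b1) b2) b3)
    (mul_mem (mul_mem (mul_mem (mul_mem a1 a2) a3) b2) b3)
  have h1 := congrArg (fun g => tw ρ ρ' g (tm F F')) D.z2y2
  simp only [tw_mul, h, mem_Fx_iff_tw.1 z2, tw_smul] at h1
  rw [smul_smul] at h1
  have h2 := smul_tm_inj D H H' F F' h1
  have h3 : μ = 1 := by
    have : μ * (μ - 1) = 0 := by linear_combination -h2
    exact sub_eq_zero.1 ((mul_eq_zero.1 this).resolve_left hμ)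
  rw [mem_Fx_iff_tw, h, h3, one_smul]

theorem ze_tm : E.ze ∈ Fx ρ ρ' (tm F F') := by
  have h1 : E.ze = E.y1 * E.y2 * (E.y2 * E.y1)⁻¹ := by rw [D.y1y2, mul_inv_cancel_right]
  rw [h1]
  have y1 := y1_tm D H H' F F'
  have y2 := y2_tm D H H' F F'
  exact mul_mem (mul_mem y1 y2) (inv_mem (mul_mem y2 y1))

theorem r1_tm (hc : E.c ∈ Fx ρ ρ' (tm F F')) : E.r1 ∈ Fx ρ ρ' (tm F F') ∧ E.r2 ∈ Fx ρ ρ' (tm F F') := by
  have a1 := a1_tm D H H' F F'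
  have a2 := a2_tm D H H' F F'
  have a3 := a3_tm D H H' F F'
  have b1 := b1_tm D H H' F F'
  have b2 := b2_tm D H H' F F'
  have b3 := b3_tm D H H' F F'
  have z1 := z1_tm D H H' F F'
  have z2 := z2_tm D H H' F F'
  obtain ⟨μ, hμ, h⟩ := semi D H H' F F' D.z1r1 D.a1r1 D.a2r1 D.a3r1 D.b3r1 D.b2r1 D.b1r1
    a1 a2 (mul_mem (mul_mem z1 a1) a3) (mul_mem (mul_mem z1 a2) b3) (mul_mem (mul_mem (mul_mem a1 a2) a3) b2)
    (mul_mem (mul_mem (mul_mem z1 a1) b1) b3)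
  have hc' := mem_Fx_iff_tw.1 hc
  have h1 := congrArg (fun g => tw ρ ρ' g (tm F F')) D.cr1
  simp only [tw_mul, h, hc', tw_smul] at h1
  have h2 := congrArg (fun g => tw ρ ρ' g (tm F F')) D.cr2
  simp only [tw_mul, hc', ← h1, tw_smul, h] at h2
  rw [smul_smul] at h2
  have h2 := smul_tm_inj D H H' F F' h2
  have h3 : μ = 1 := by
    have : μ * (μ - 1) = 0 := by linear_combination -h2
    exact sub_eq_zero.1 ((mul_eq_zero.1 this).resolve_left hμ)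
  rw [mem_Fx_iff_tw, mem_Fx_iff_tw, h, ← h1, h3, one_smul]
  exact ⟨rfl, rfl⟩

theorem t_tm (hc : E.c ∈ Fx ρ ρ' (tm F F')) : E.t ∈ Fx ρ ρ' (tm F F') := by
  rw [D.te]
  exact mul_mem hc (ze_tm D H H' F F')

/-- `t2` as the part of `tm` on `z2 = 1` -/
theorem tm_t2 (x : W) : tm F F' (x + ρ' E.z2 x) = (2 : K) • t2 F F' x := by
  have D' := H.rel
  have q2 : ∀ y, (E.map ρ).z2 (t2 F F' y) = t2 F F' y := fun y => H.z2V2 _ (t2_mem D H H' F F' y)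
  have q3 : ∀ y, (E.map ρ).z2 (ρ E.b2 (t2 F F' y)) = -(ρ E.b2 (t2 F F' y)) := by
    intro y
    have e1 : (E.map ρ).z2 ((E.map ρ).b2 (t2 F F' y)) = (E.map ρ).b2 ((E.map ρ).z3 (t2 F F' y)) := ap D'.z2b2 _
    rw [H.z3e, (mem_V2.1 (t2_mem D H H' F F' y)).1.2, map_neg, q2, map_neg] at e1
    exact e1
  have q4 : ∀ y, (E.map ρ).z4 (t2 F F' y) = -(t2 F F' y) := by
    intro y
    rw [H.z4e, (mem_V2.1 (t2_mem D H H' F F' y)).2, map_neg, q2]
  have q5 : ∀ y, (E.map ρ).z4 (ρ E.b2 (t2 F F' y)) = -(ρ E.b2 (t2 F F' y)) := by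
    intro y
    have e1 : (E.map ρ).a2 ((E.map ρ).b2 (t2 F F' y)) = (E.map ρ).b2 ((E.map ρ).a2 ((E.map ρ).z1 (t2 F F' y))) :=
      D'.va2b2 _
    rw [(mem_V2.1 (t2_mem D H H' F F' y)).1.1, map_neg, (mem_V2.1 (t2_mem D H H' F F' y)).2, neg_neg] at e1
    change (E.map ρ).z4 ((E.map ρ).b2 (t2 F F' y)) = _
    rw [H.z4e, e1]
    exact q3 y
  have q6 : ∀ y, (E.map ρ).z4 (t3 F F' y) = -(t3 F F' y) := by
    intro y
    rw [t3, LinearMap.add_apply, tw_apply, map_add, q4, q5]; abel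
  have q7 : ∀ y, (E.map ρ).z2 (ρ E.b1 (t3 F F' y)) = -(ρ E.b1 (t3 F F' y)) := by
    intro y
    have e1 : (E.map ρ).z2 ((E.map ρ).b1 (t3 F F' y)) = (E.map ρ).b1 ((E.map ρ).z4 (t3 F F' y)) := ap D'.z2b1 _
    rw [q6, map_neg] at e1
    exact e1
  have h1 : ρ E.z2 (tm F F' x) = t2 F F' x - tw ρ ρ' E.b2 (t2 F F') x - tw ρ ρ' E.b1 (t3 F F') x := by
    have e1 : tm F F' x = t2 F F' x + tw ρ ρ' E.b2 (t2 F F') x + tw ρ ρ' E.b1 (t3 F F') x := rfl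
    rw [e1, map_add, map_add]
    change (E.map ρ).z2 (t2 F F' x) + (E.map ρ).z2 (ρ E.b2 (t2 F F' _)) + (E.map ρ).z2 (ρ E.b1 (t3 F F' _)) = _
    rw [q2, q3, q7, tw_apply, tw_apply]
    abel
  rw [map_add, ← z2_tm D H H' F F' x, h1]
  have e1 : tm F F' x = t2 F F' x + tw ρ ρ' E.b2 (t2 F F') x + tw ρ ρ' E.b1 (t3 F F') x := rfl
  rw [e1]
  module

theorem t2_of_tm {g : G} (hg : g ∈ Fx ρ ρ' (tm F F')) (hz : E.z2 * g = g * E.z2) : g ∈ Fx ρ ρ' (t2 F F') := by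
  intro x
  have h1 : (2 : K) • ρ g (t2 F F' x) = (2 : K) • t2 F F' (ρ' g x) := by
    rw [← map_smul (ρ g), ← tm_t2 D H H' F F', ← tm_t2 D H H' F F', hg, map_add (ρ' g)]
    congr 2
    rw [← ract, ← ract, hz]
  exact smul_right_injective V H.two h1

omit D H in
/-- in the second module: the projection onto `V2` commutes with `d1` -/
theorem d1_P2 (D : Rel E) : E.d1 ∈ Fx ρ' ρ' (t2 F' F') := by
  have D' := H'.rel
  -- `4 t2 = (1 - z1)(1 + z2)`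
  have h1 : ∀ x, (4 : K) • t2 F' F' x = (x + (E.map ρ').z2 x) - (E.map ρ').z1 (x + (E.map ρ').z2 x) := by
    intro x
    have e1 := tm_t2 D H' H' F' F' x
    have e2 := tm_self D H' F' (x + (E.map ρ').z2 x)
    have e3 : (4 : K) • t2 F' F' x = (2 : K) • ((2 : K) • t2 F' F' x) := by rw [smul_smul]; norm_num
    rw [e3, ← e1]
    exact e2
  -- `z5 = z1` on `z2 = 1`
  have h2 : ∀ y, (E.map ρ').z2 y = y → (E.map ρ').z5 y = (E.map ρ').z1 y := by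
    intro y hy
    have e1 : (E.map ρ').z5 y = (E.map ρ').z1 ((E.map ρ').a1 ((E.map ρ').a2 ((E.map ρ').z2 y))) := ap D'.z5e y
    rw [e1, hy]
    have e2 : (E.map ρ').a1 ((E.map ρ').a2 (y + (E.map ρ').z1 y)) = y + (E.map ρ').z1 y := by
      have e3 : (E.map ρ').z1 (y + (E.map ρ').z1 y) = y + (E.map ρ').z1 y := by rw [map_add, D'.vz1z1]; abel
      rw [H'.a2_triv _ e3, H'.a1_triv _ e3]
    have e4 : (E.map ρ').a1 ((E.map ρ').a2 (y - (E.map ρ').z1 y)) = y - (E.map ρ').z1 y := by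
      have e5 := mem_V2.1 (H'.toV2 (y - (E.map ρ').z1 y) (by rw [map_sub, D'.vz1z1]; abel)
        (by rw [map_sub, ← H'.z1z2, hy]))
      rw [e5.2, map_neg, e5.1.2, neg_neg]
    have e6 : (E.map ρ').a1 ((E.map ρ').a2 y) = y := by
      have e7 : (2 : K) • (E.map ρ').a1 ((E.map ρ').a2 y) = (2 : K) • y := by
        have e8 : (2 : K) • (E.map ρ').a1 ((E.map ρ').a2 y) = (E.map ρ').a1 ((E.map ρ').a2 (y + (E.map ρ').z1 y)) + (E.map ρ').a1 ((E.map ρ').a2 (y - (E.map ρ').z1 y)) := by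
          rw [← map_add, ← map_add, two_smul, ← map_add, ← map_add]; congr 2; abel
        rw [e8, e2, e4, two_smul]; abel
      exact smul_right_injective W H'.two e7
    rw [e6]
  intro x
  have h3 : (4 : K) • ρ' E.d1 (t2 F' F' x) = (4 : K) • t2 F' F' (ρ' E.d1 x) := by
    rw [← map_smul (ρ' E.d1), h1, h1]
    have e1 : (E.map ρ').z2 (ρ' E.d1 x) = ρ' E.d1 ((E.map ρ').z2 x) := ap D'.z2d1 x
    rw [e1, ← map_add (ρ' E.d1)]
    have e2 : (E.map ρ').z1 (ρ' E.d1 (x + (E.map ρ').z2 x)) = ρ' E.d1 ((E.map ρ').z5 (x + (E.map ρ').z2 x)) := ap D'.z1d1 _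
    rw [e2, h2 _ (by rw [map_add, H'.z2z2]; abel), map_sub]
  have h4 : (4 : K) ≠ 0 := by
    have : (4 : K) = 2 * 2 := by norm_num
    rw [this]
    exact mul_ne_zero H'.two H'.two
  exact smul_right_injective W h4 h3

theorem t2_comp : t2 F F' ∘ₗ t2 F' F' = t2 F F' := by
  rw [comp_t2 D H H' F F' (a1_t2 D H H' F F') (a2_t2 D H H' F F') (a3_t2 D H H' F F') (b3_t2 D H H' F F'),
    t2_v D H H' F F', F.fv, one_smul]

theorem d_t2 (hc : E.c ∈ Fx ρ ρ' (tm F F')) : E.t ∈ Fx ρ ρ' (t2 F F') ∧ E.d1 ∈ Fx ρ ρ' (t2 F F') ∧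
    E.d2 ∈ Fx ρ ρ' (t2 F F') := by
  have a1 := a1_t2 D H H' F F'
  have a2 := a2_t2 D H H' F F'
  have a3 := a3_t2 D H H' F F'
  have b3 := b3_t2 D H H' F F'
  have z2 := z2_t2 D H H' F F'
  obtain ⟨r1', r2'⟩ := r1_tm D H H' F F' hc
  have r1 := t2_of_tm D H H' F F' r1' D.z2r1
  have r2 := t2_of_tm D H H' F F' r2' D.z2r2
  have ht := t2_of_tm D H H' F F' (t_tm D H H' F F' hc) (by
    rw [D.te, ← mul_assoc, D.z2c, mul_assoc, D.z2ze, mul_assoc])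
  have hP := d1_P2 H' F' D
  have h := eq_smul_t2 D H H' F F' (θ := tw ρ ρ' E.d1 (t2 F F')) (mem_Fx_tw' D.a1d1 a2) (mem_Fx_tw' D.a2d1 a1)
    (mem_Fx_tw' D.a3d1 (mul_mem (mul_mem (mul_mem b3 a3) r2) b3))
    (mem_Fx_tw' D.b3d1 (mul_mem (mul_mem (mul_mem r2 b3) r1) z2)) (by
      ext x
      rw [LinearMap.comp_apply, tw_apply, tw_apply]
      have e1 := (inv_mem hP : E.d1⁻¹ ∈ Fx ρ' ρ' (t2 F' F')) x
      rw [e1]
      exact congrArg _ (LinearMap.congr_fun (t2_comp D H H' F F') _))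
  set χ := F.f ((tw ρ ρ' E.d1 (t2 F F')) F'.v)
  have hχ : χ ≠ 0 := by
    intro h0
    rw [h0, zero_smul] at h
    have h7 : tw ρ ρ' E.d1 (t2 F F') = tw ρ ρ' E.d1 0 := by
      rw [h]; ext x; simp [tw_apply]
    exact t2_ne D H H' F F' (tw_inj h7)
  have ht' := mem_Fx_iff_tw.1 ht
  have h1 := congrArg (fun g => tw ρ ρ' g (t2 F F')) D.td1
  simp only [tw_mul, h, ht', tw_smul] at h1
  have h2 := congrArg (fun g => tw ρ ρ' g (t2 F F')) D.td2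
  simp only [tw_mul, ht', ← h1, tw_smul, h] at h2
  rw [smul_smul] at h2
  have h2 := smul_t2_inj D H H' F F' h2
  have h3 : χ = 1 := by
    have : χ * (χ - 1) = 0 := by linear_combination -h2
    exact sub_eq_zero.1 ((mul_eq_zero.1 this).resolve_left hχ)
  refine ⟨ht, ?_, ?_⟩
  · rw [mem_Fx_iff_tw, h, h3, one_smul]
  · rw [mem_Fx_iff_tw, ← h1, h3, one_smul]

/-- the map on `V1` -/
def t1 (F : Frame (E.map ρ) i) (F' : Frame (E.map ρ') i) : W →ₗ[K] V := tw ρ ρ' E.h (t2 F F')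

/-- **the glued map is equivariant under the line stabiliser** -/
theorem glue (hc : E.c ∈ Fx ρ ρ' (tm F F')) :
    (E.a3 ∈ Fx ρ ρ' (t1 F F') ∧ E.b1 ∈ Fx ρ ρ' (t1 F F') ∧ E.b2 ∈ Fx ρ ρ' (t1 F F') ∧
      E.c ∈ Fx ρ ρ' (t1 F F') ∧ E.r1 ∈ Fx ρ ρ' (t1 F F') ∧ E.r2 ∈ Fx ρ ρ' (t1 F F')) ∧
      E.h ∈ Fx ρ ρ' (tm F F' + t1 F F') := by
  obtain ⟨ht, d1, d2⟩ := d_t2 D H H' F F' hc
  obtain ⟨r1', r2'⟩ := r1_tm D H H' F F' hc
  have r1 := t2_of_tm D H H' F F' r1' D.z2r1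
  have hh : E.h * E.h = 1 := D.hh
  have conj : ∀ {x y : G}, y * E.h = E.h * x → x * E.h = E.h * y := by
    intro x y h
    calc x * E.h = E.h * E.h * x * E.h := by rw [hh, one_mul]
      _ = E.h * (E.h * x) * E.h := by simp only [mul_assoc]
      _ = E.h * y * (E.h * E.h) := by rw [← h]; simp only [mul_assoc]
      _ = E.h * y := by rw [hh, mul_one]
  refine ⟨⟨mem_Fx_tw' (conj D.r1h) r1, mem_Fx_tw' (conj D.d1h) d1, mem_Fx_tw' (conj D.d2h) d2,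
    mem_Fx_tw' D.ch (t2_of_tm D H H' F F' hc D.z2c), mem_Fx_tw' D.r1h (a3_t2 D H H' F F'),
    mem_Fx_tw' D.r2h (b3_t2 D H H' F F')⟩, ?_⟩
  -- `h`
  have e0 : tm F F' = t2 F F' + tw ρ ρ' E.b2 (t2 F F') + (tw ρ ρ' E.b1 (t2 F F') +
      tw ρ ρ' (E.b1 * E.b2) (t2 F F')) := by
    rw [tw_mul, ← tw_add]
    rfl
  have f1 : tw ρ ρ' E.h (tw ρ ρ' E.b2 (t2 F F')) = tw ρ ρ' E.b2 (t2 F F') := by
    rw [← tw_mul, D.w2, tw_of_mem d2]
  have f2 : tw ρ ρ' E.h (tw ρ ρ' E.b1 (t2 F F')) = tw ρ ρ' (E.b1 * E.b2) (t2 F F') := by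
    rw [← tw_mul, D.w1, tw_of_mem (mul_mem d1 ht)]
  have f3 : tw ρ ρ' E.h (tw ρ ρ' (E.b1 * E.b2) (t2 F F')) = tw ρ ρ' E.b1 (t2 F F') := by
    rw [← f2, ← tw_mul, hh, tw_one]
  have f4 : tw ρ ρ' E.h (t1 F F') = t2 F F' := by
    rw [t1, ← tw_mul, hh, tw_one]
  rw [mem_Fx_iff_tw, tw_add, f4, e0, tw_add, tw_add, tw_add, f1, f2, f3, ← t1]
  abel

theorem t1_z1 (x : W) : t1 F F' (ρ' E.z1 x) = t1 F F' x := by
  rw [t1, tw_apply, tw_apply]
  have e1 : ρ' E.h⁻¹ (ρ' E.z1 x) = ρ' E.z2 (ρ' E.h⁻¹ x) := by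
    rw [← ract, ← ract]
    congr 2
    rw [inv_mul_eq_iff_eq_mul, ← mul_assoc, ← D.z1h, mul_inv_cancel_right]
  rw [e1, ← z2_t2 D H H' F F', show ρ E.z2 (t2 F F' (ρ' E.h⁻¹ x)) = _ from H.z2V2 _ (t2_mem D H H' F F' _)]

theorem t1_mem (x : W) : t1 F F' x ∈ V1 (E.map ρ) := H.h_V2 (t2_mem D H H' F F' _)

end two

end Cfsg.Agent.H36.U52
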