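import Cfsg.Agent.H36.U52.Compare

/-!
# Traces and the determinant of `c`
-/

set_option autoImplicit false
set_option linter.unusedSectionVars false

namespace Cfsg.Agent.H36.U52

open Module

universe u v

variable {K : Type u} {V : Type v} [Field K] [AddCommGroup V] [Module K V] [FiniteDimensional K V]
variable {e : El (Module.End K V)} {i s σ : K}

local notation "Tr" => LinearMap.trace K V

theorem tr_eq_zero (h2 : (2 : K) ≠ 0) {M B B' : Module.End K V} (h : B * B' = 1) (hM : B' * M * B = -M) :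
    Tr M = 0 := by
  have h1 : Tr (B' * M * B) = Tr M := by
    rw [mul_assoc, LinearMap.trace_mul_comm, mul_assoc, h, mul_one]
  rw [hM, map_neg] at h1
  have h3 : (2 : K) * Tr M = 0 := by linear_combination -h1
  exact (mul_eq_zero.1 h3).resolve_left h2

theorem tr_proj (W : Submodule K V) (T : Module.End K V) (h2 : (2 : K) ≠ 0) (h1 : ∀ x, T x ∈ W)
    (h : ∀ x ∈ W, T x = (2 : K) • x) : Tr T = 2 * (finrank K W : K) := by
  have h3 : LinearMap.IsProj W ((2 : K)⁻¹ • T) := by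
    constructor
    · intro x
      rw [LinearMap.smul_apply]
      exact W.smul_mem _ (h1 x)
    · intro x hx
      rw [LinearMap.smul_apply, h x hx, smul_smul, inv_mul_cancel₀ h2, one_smul]
  have h4 := h3.trace
  rw [map_smul, smul_eq_mul] at h4
  rw [← h4, ← mul_assoc, mul_inv_cancel₀ h2, one_mul]

variable (H : Good e i) (hVm : finrank K (Vm e) = 8)
include H

theorem tr_one_sub (hVm : finrank K (Vm e) = 8) : Tr (1 - e.z1) = 16 := by
  rw [tr_proj (Vm e) (1 - e.z1) H.two _ _, hVm]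
  · norm_num
  · intro x
    rw [mem_Vm, LinearMap.sub_apply, Module.End.one_apply, map_sub, H.rel.vz1z1]; abel
  · intro x hx
    rw [LinearMap.sub_apply, Module.End.one_apply, mem_Vm.1 hx]; module

theorem tr_one_add (hVp : finrank K (Vp e) = 3) : Tr (1 + e.z1) = 6 := by
  rw [tr_proj (Vp e) (1 + e.z1) H.two _ _, hVp]
  · norm_num
  · intro x
    rw [mem_Vp, LinearMap.add_apply, Module.End.one_apply, map_add, H.rel.vz1z1]; abel
  · intro x hx
    rw [LinearMap.add_apply, Module.End.one_apply, mem_Vp.1 hx]; module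

theorem b3inv : e.b3 * (e.z1 * e.b3) = 1 ∧ e.a3 * (e.z1 * e.a3) = 1 := by
  have D := H.rel
  constructor
  · ext x
    simp only [Module.End.mul_apply, D.vz1b3, D.vb3b3, D.vz1z1, Module.End.one_apply]
  · ext x
    simp only [Module.End.mul_apply, D.vz1a3, D.va3a3, D.vz1z1, Module.End.one_apply]

theorem tr_a3 : Tr (e.a3 * (1 - e.z1)) = 0 := by
  have D := H.rel
  apply tr_eq_zero H.two (b3inv H).1
  ext x
  simp only [Module.End.mul_apply, LinearMap.sub_apply, LinearMap.neg_apply, Module.End.one_apply, map_sub, D.vz1b3,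
    D.va3b3, D.vz1a3, D.vb3b3, D.vz1z1]
  abel

theorem tr_b3 : Tr (e.b3 * (1 - e.z1)) = 0 := by
  have D := H.rel
  apply tr_eq_zero H.two (b3inv H).2
  ext x
  simp only [Module.End.mul_apply, LinearMap.sub_apply, LinearMap.neg_apply, Module.End.one_apply, map_sub, D.vz1b3,
    D.va3b3, D.vz1a3, D.va3a3, D.vz1z1]
  abel

theorem tr_a3b3 : Tr (e.a3 * e.b3 * (1 - e.z1)) = 0 := by
  have D := H.rel
  apply tr_eq_zero H.two (b3inv H).2
  ext x
  simp only [Module.End.mul_apply, LinearMap.sub_apply, LinearMap.neg_apply, Module.End.one_apply, map_sub, D.vz1b3,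
    D.va3b3, D.vz1a3, D.va3a3, D.vz1z1]
  abel

theorem tr_c (hVm : finrank K (Vm e) = 8) (hs : CS e s) : Tr (e.c * (1 - e.z1)) = -8 * s := by
  have D := H.rel
  have h1 : (2 : K) • (e.c * (1 - e.z1)) =
      -(s • ((1 - e.z1) + e.a3 * (1 - e.z1) + e.b3 * (1 - e.z1) + e.a3 * e.b3 * (1 - e.z1))) := by
    ext x
    have h3 := hs (x - e.z1 x) (by rw [map_sub, D.vz1z1]; abel)
    exact h3
  have h2 := congrArg Tr h1
  rw [map_smul, map_neg, map_smul, map_add, map_add, map_add, tr_a3 H, tr_b3 H, tr_a3b3 H, tr_one_sub H hVm,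
    smul_eq_mul, smul_eq_mul] at h2
  have h3 : (2 : K) * (Tr (e.c * (1 - e.z1)) - -8 * s) = 0 := by linear_combination h2
  exact sub_eq_zero.1 ((mul_eq_zero.1 h3).resolve_left H.two)

theorem cc_eq (hs : CS e s) (x : V) (hx : e.z1 x = -x) :
    (2 : K) • e.c (e.c x) = (s ^ 2) • (e.a3 x + e.b3 x + e.a3 (e.b3 x) - x) := by
  have D := H.rel
  have h1 := hs x hx
  have h3 : e.z1 (e.c x) = -(e.c x) := by rw [D.vz1c, hx, map_neg]
  have h2 := hs (e.c x) h3
  have h4 : (4 : K) • e.c (e.c x) = (s ^ 2) • TT e (TT e x) := by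
    have e1 : (4 : K) • e.c (e.c x) = (2 : K) • ((2 : K) • e.c (e.c x)) := by rw [smul_smul]; norm_num
    have e2 : (2 : K) • TT e (e.c x) = TT e ((2 : K) • e.c x) := by
      simp only [TT, map_smul, smul_add]
    rw [e1, h2, smul_neg, smul_comm, e2, h1]
    have e3 : TT e (-(s • TT e x)) = -(s • TT e (TT e x)) := by
      simp only [TT, map_neg, map_smul, map_add, smul_add]; abel
    rw [e3, smul_neg, neg_neg, smul_smul, pow_two]
  have h5 : TT e (TT e x) = (2 : K) • (e.a3 x + e.b3 x + e.a3 (e.b3 x) - x) := by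
    simp only [TT, map_add, D.vb3b3, D.va3b3, D.va3a3, D.vz1a3, D.vz1b3, hx, map_neg]
    module
  rw [h5] at h4
  have h6 : (2 : K) • ((2 : K) • e.c (e.c x)) = (2 : K) • ((s ^ 2) • (e.a3 x + e.b3 x + e.a3 (e.b3 x) - x)) := by
    rw [smul_comm (2 : K) (s ^ 2), ← h4, smul_smul]; norm_num
  exact smul_right_injective V H.two h6

theorem tr_cc (hVm : finrank K (Vm e) = 8) (hs : CS e s) : Tr (e.c * e.c * (1 - e.z1)) = -8 * s ^ 2 := by
  have D := H.rel
  have h1 : (2 : K) • (e.c * e.c * (1 - e.z1)) =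
      (s ^ 2) • (e.a3 * (1 - e.z1) + e.b3 * (1 - e.z1) + e.a3 * e.b3 * (1 - e.z1) - (1 - e.z1)) := by
    ext x
    exact cc_eq H hs (x - e.z1 x) (by rw [map_sub, D.vz1z1]; abel)
  have h2 := congrArg Tr h1
  rw [map_smul, map_smul, map_sub, map_add, map_add, tr_a3 H, tr_b3 H, tr_a3b3 H, tr_one_sub H hVm,
    smul_eq_mul, smul_eq_mul] at h2
  have h3 : (2 : K) * (Tr (e.c * e.c * (1 - e.z1)) - -8 * s ^ 2) = 0 := by linear_combination h2
  exact sub_eq_zero.1 ((mul_eq_zero.1 h3).resolve_left H.two)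

theorem tr_ze (hVp : finrank K (Vp e) = 3) (P : Plus e σ) : Tr (e.ze * (1 + e.z1)) = 6 * σ := by
  have D := H.rel
  have h1 : e.ze * (1 + e.z1) = σ • (1 + e.z1) := by
    ext x
    exact P.ze (x + e.z1 x) (by rw [map_add, D.vz1z1]; abel)
  rw [h1, map_smul, tr_one_add H hVp, smul_eq_mul, mul_comm]

theorem tr_zeze (hVp : finrank K (Vp e) = 3) (P : Plus e σ) : Tr (e.ze * e.ze * (1 + e.z1)) = 6 * σ ^ 2 := by
  have D := H.rel
  have h1 : e.ze * e.ze * (1 + e.z1) = (σ ^ 2) • (1 + e.z1) := by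
    ext x
    have hx : e.z1 (x + e.z1 x) = x + e.z1 x := by rw [map_add, D.vz1z1]; abel
    have h3 := P.ze (x + e.z1 x) hx
    change e.ze (e.ze (x + e.z1 x)) = σ ^ 2 • (x + e.z1 x)
    rw [h3, map_smul, h3, smul_smul, pow_two]
  rw [h1, map_smul, tr_one_add H hVp, smul_eq_mul, mul_comm]

/-- in dimension 10, `det c = 1` gives `s = 1` -/
theorem s_eq_one (hV0 : V0 e = ⊥) (hn : finrank K V = 10) (hs : CS e s) (hs3 : s ^ 3 = 1)
    (hdet : LinearMap.det e.c = 1) : s = 1 := by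
  have D := H.rel
  have hs0 : s ≠ 0 := by rintro rfl; simp at hs3
  let A : Module.End K V := e.a3 - e.b3
  let Y : Module.End K V := A * (1 - e.z1) + e.h * A * e.h * (1 + e.z1)
  have Ya : ∀ x, Y x = (e.a3 (x - e.z1 x) - e.b3 (x - e.z1 x)) +
    e.h (e.a3 (e.h (x + e.z1 x)) - e.b3 (e.h (x + e.z1 x))) := fun x => rfl
  -- on `z1 = -1`
  have Ym : ∀ x, e.z1 x = -x → Y x = (2 : K) • (e.a3 x - e.b3 x) := by
    intro x hx
    rw [Ya, hx]
    simp only [sub_neg_eq_add, add_neg_cancel, map_zero, sub_self, add_zero, map_add]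
    module
  have Yp : ∀ x, e.z1 x = x → Y x = (2 : K) • e.h (e.a3 (e.h x) - e.b3 (e.h x)) := by
    intro x hx
    rw [Ya, hx]
    simp only [sub_self, map_zero, zero_add, map_add, map_sub]
    module
  have z1A : ∀ x, e.z1 x = -x → e.z1 (e.a3 x - e.b3 x) = -(e.a3 x - e.b3 x) := by
    intro x hx
    rw [map_sub, D.vz1a3, D.vz1b3, hx, map_neg, map_neg]; abel
  have hz2 : ∀ x, e.z1 x = x → e.z2 x = -x := by
    intro x hx
    have h1 : x + e.z2 x ∈ V0 e := mem_V0.2 ⟨by rw [map_add, D.vz1z2, hx], by rw [map_add, D.vz2z2]; abel⟩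
    rw [hV0, Submodule.mem_bot] at h1
    exact (neg_eq_of_add_eq_zero_right h1).symm
  have hhm : ∀ x, e.z1 x = x → e.z1 (e.h x) = -(e.h x) := by
    intro x hx
    rw [show e.z1 (e.h x) = e.h (e.z2 x) from ap D.z1h x, hz2 x hx, map_neg]
  -- on `z1 = -1`: the identity
  have key : ∀ x, e.z1 x = -x → Y (e.c x) = (s ^ 2) • e.c (e.c (Y x)) := by
    intro x hx
    have hcx : e.z1 (e.c x) = -(e.c x) := by rw [D.vz1c, hx, map_neg]
    have h1 := hs x hx
    have h2 := cc_eq H hs (e.a3 x - e.b3 x) (z1A x hx)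
    rw [Ym _ hcx, Ym _ hx, map_smul, map_smul, h2]
    have h3 : (2 : K) • (e.a3 (e.c x) - e.b3 (e.c x)) = e.a3 ((2 : K) • e.c x) - e.b3 ((2 : K) • e.c x) := by
      simp only [map_smul]; module
    rw [h3, h1]
    have hs4 : s ^ 2 * s ^ 2 = s := by linear_combination s * hs3
    rw [smul_smul, hs4]
    simp only [TT, map_add, map_neg, map_smul, map_sub, D.vb3b3, D.va3b3, D.va3a3, D.vz1a3, D.vz1b3, hx]
    module
  have key2 : ∀ x, e.z1 x = x → Y (e.c x) = (s ^ 2) • e.c (e.c (Y x)) := by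
    intro x hx
    have hm := hhm x hx
    have hcx : e.z1 (e.c x) = e.c x := by rw [D.vz1c, hx]
    have ch : ∀ y, e.c (e.h y) = e.h (e.c y) := fun y => ap D.ch y
    have h1 : Y (e.c x) = e.h (Y (e.c (e.h x))) := by
      rw [Yp _ hcx, Ym _ (by rw [D.vz1c, hm, map_neg]), ch, map_smul]
    have h2 : Y x = e.h (Y (e.h x)) := by
      rw [Yp _ hx, Ym _ hm, map_smul]
    rw [h1, key _ hm, map_smul, h2, ch, ch]
  have tot : Y * e.c = (s ^ 2) • (e.c * e.c * Y) := by
    ext x
    change Y (e.c x) = (s ^ 2) • e.c (e.c (Y x))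
    have e1 : (2 : K) • Y (e.c x) = (2 : K) • ((s ^ 2) • e.c (e.c (Y x))) := by
      have k1 := key (x - e.z1 x) (by rw [map_sub, D.vz1z1]; abel)
      have k2 := key2 (x + e.z1 x) (by rw [map_add, D.vz1z1]; abel)
      have e2 : (2 : K) • Y (e.c x) = Y (e.c (x - e.z1 x)) + Y (e.c (x + e.z1 x)) := by
        simp only [map_sub, map_add]; module
      rw [e2, k1, k2]
      simp only [map_sub, map_add]; module
    exact smul_right_injective V H.two e1
  -- `Y` is injective
  have four : (4 : K) ≠ 0 := by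
    have : (4 : K) = 2 * 2 := by norm_num
    rw [this]
    exact mul_ne_zero H.two H.two
  have eight : (8 : K) ≠ 0 := by
    have : (8 : K) = 2 * 4 := by norm_num
    rw [this]
    exact mul_ne_zero H.two four
  have YYm : ∀ x, e.z1 x = -x → Y (Y x) = -((8 : K) • x) := by
    intro x hx
    rw [Ym _ hx, map_smul, Ym _ (z1A x hx)]
    simp only [map_sub, D.vb3b3, D.va3b3, D.va3a3, D.vz1a3, D.vz1b3, hx, map_neg]
    module
  have YYp : ∀ x, e.z1 x = x → Y (Y x) = -((8 : K) • x) := by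
    intro x hx
    have hm := hhm x hx
    have h2 : Y x = e.h (Y (e.h x)) := by
      rw [Yp _ hx, Ym _ hm, map_smul]
    have h3 : e.z1 (Y (e.h x)) = -(Y (e.h x)) := by
      rw [Ym _ hm, map_smul, z1A _ hm, smul_neg]
    -- `e.h (Y (e.h x))` lies in `z1 = 1`
    have h4 : e.z2 (Y (e.h x)) = Y (e.h x) := by
      have hz : e.z2 (e.h x) = e.h x := by
        rw [show e.z2 (e.h x) = e.h (e.z1 x) from ap D.z2h x, hx]
      rw [Ym _ hm, map_smul, map_sub, show e.z2 (e.a3 (e.h x)) = e.a3 (e.z2 (e.h x)) from ap D.z2a3 _,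
        show e.z2 (e.b3 (e.h x)) = e.b3 (e.z2 (e.h x)) from ap D.z2b3 _, hz]
    have h5 : e.z1 (Y x) = Y x := by
      rw [h2, show e.z1 (e.h (Y (e.h x))) = e.h (e.z2 (Y (e.h x))) from ap D.z1h _, h4]
    have h6 : Y (Y x) = e.h (Y (e.h (Y x))) := by
      rw [Yp _ h5, Ym _ (hhm _ h5), map_smul]
    rw [h6, h2, D.vhh, YYm _ hm, map_neg, map_smul, D.vhh]
  have YY : Y * Y = -((8 : K) • (1 : Module.End K V)) := by
    ext x
    change Y (Y x) = -((8 : K) • x)
    have e1 : (2 : K) • Y (Y x) = (2 : K) • (-((8 : K) • x)) := by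
      have e2 : (2 : K) • Y (Y x) = Y (Y (x - e.z1 x)) + Y (Y (x + e.z1 x)) := by
        simp only [map_sub, map_add]; module
      rw [e2, YYm _ (by rw [map_sub, D.vz1z1]; abel), YYp _ (by rw [map_add, D.vz1z1]; abel)]
      module
    exact smul_right_injective V H.two e1
  have dY : LinearMap.det Y ≠ 0 := by
    intro h0
    have h1 := congrArg LinearMap.det YY
    rw [map_mul, h0, mul_zero, ← neg_smul, LinearMap.det_smul, map_one, mul_one] at h1
    exact pow_ne_zero _ (neg_ne_zero.2 eight) h1.symm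
  have h1 := congrArg LinearMap.det tot
  rw [map_mul, hdet, mul_one, LinearMap.det_smul, map_mul, map_mul, hdet, mul_one, one_mul, hn] at h1
  have h2 : (1 - (s ^ 2) ^ 10) * LinearMap.det Y = 0 := by linear_combination h1
  have h3 := (mul_eq_zero.1 h2).resolve_right dY
  have h4 : s ^ 2 = 1 := by
    have : (s ^ 2) ^ 10 = s ^ 2 := by
      calc (s ^ 2) ^ 10 = (s ^ 3) ^ 6 * s ^ 2 := by ring
        _ = s ^ 2 := by rw [hs3, one_pow, one_mul]
    rw [this] at h3
    linear_combination -h3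
  linear_combination hs3 - s * h4

end Cfsg.Agent.H36.U52
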