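import Cfsg.Agent.H36.U52.Frame

/-!
# Two modules: the intertwining map of the extraspecial group on `z1 = -1`
-/

set_option autoImplicit false
set_option linter.unusedSectionVars false

namespace Cfsg.Agent.H36.U52

open Module

universe u v v' w

variable {K : Type u} {V : Type v} {W : Type v'} {U : Type v'} [Field K] [AddCommGroup V] [Module K V]
  [AddCommGroup W] [Module K W]
variable {G : Type w} [Group G]

/-- conjugate of a linear map -/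
def tw (ρ : G →* Module.End K V) (ρ' : G →* Module.End K W) (g : G) (θ : W →ₗ[K] V) : W →ₗ[K] V :=
  (ρ g) ∘ₗ θ ∘ₗ (ρ' g⁻¹)

theorem ract (ρ : G →* Module.End K V) (g h : G) (x : V) : ρ (g * h) x = ρ g (ρ h x) := by
  rw [map_mul]; rfl

theorem ract_inv (ρ : G →* Module.End K V) (g : G) (x : V) : ρ g (ρ g⁻¹ x) = x := by
  rw [← ract, mul_inv_cancel, map_one]; rfl

theorem ract_inv' (ρ : G →* Module.End K V) (g : G) (x : V) : ρ g⁻¹ (ρ g x) = x := by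
  rw [← ract, inv_mul_cancel, map_one]; rfl

variable (ρ : G →* Module.End K V) (ρ' : G →* Module.End K W)

theorem tw_apply (g : G) (θ : W →ₗ[K] V) (x : W) : tw ρ ρ' g θ x = ρ g (θ (ρ' g⁻¹ x)) := rfl

/-- elements commuting with a linear map -/
def Fx (θ : W →ₗ[K] V) : Subgroup G where
  carrier := {g | ∀ x, ρ g (θ x) = θ (ρ' g x)}
  one_mem' x := by rw [map_one, map_one]; rfl
  mul_mem' {g h} hg hh x := by rw [ract, ract, hh, hg]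
  inv_mem' {g} hg x := by
    have h1 := hg (ρ' g⁻¹ x)
    rw [ract_inv] at h1
    rw [← h1, ract_inv']

variable {ρ ρ'}

theorem mem_Fx {θ : W →ₗ[K] V} {g : G} : g ∈ Fx ρ ρ' θ ↔ ∀ x, ρ g (θ x) = θ (ρ' g x) := Iff.rfl

theorem mem_Fx_iff_tw {θ : W →ₗ[K] V} {g : G} : g ∈ Fx ρ ρ' θ ↔ tw ρ ρ' g θ = θ := by
  constructor
  · intro h
    ext x
    rw [tw_apply, h, ract_inv]
  · intro h x
    have h1 := LinearMap.congr_fun h (ρ' g x)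
    rw [tw_apply, ract_inv'] at h1
    exact h1

theorem mem_Fx_tw {θ : W →ₗ[K] V} {g x : G} (h : g⁻¹ * x * g ∈ Fx ρ ρ' θ) : x ∈ Fx ρ ρ' (tw ρ ρ' g θ) := by
  intro y
  rw [tw_apply, tw_apply]
  have h1 := h (ρ' g⁻¹ y)
  have h2 : ρ g (ρ (g⁻¹ * x * g) (θ (ρ' g⁻¹ y))) = ρ x (ρ g (θ (ρ' g⁻¹ y))) := by
    rw [← ract, ← ract]; congr 2; group
  have h4 : ρ' (g⁻¹ * x * g) (ρ' g⁻¹ y) = ρ' g⁻¹ (ρ' x y) := by
    rw [← ract, ← ract]; congr 2; group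
  rw [← h2, h1, h4]

/-- in the form of a relation `x g = g k` -/
theorem mem_Fx_tw' {θ : W →ₗ[K] V} {g x k : G} (hr : x * g = g * k) (h : k ∈ Fx ρ ρ' θ) :
    x ∈ Fx ρ ρ' (tw ρ ρ' g θ) := by
  apply mem_Fx_tw
  rw [mul_assoc, hr, inv_mul_cancel_left]
  exact h

theorem Fx_add {θ φ : W →ₗ[K] V} {g : G} (h : g ∈ Fx ρ ρ' θ) (h' : g ∈ Fx ρ ρ' φ) : g ∈ Fx ρ ρ' (θ + φ) := by
  intro x
  rw [LinearMap.add_apply, LinearMap.add_apply, map_add, h, h']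

theorem Fx_smul {θ : W →ₗ[K] V} {g : G} (k : K) (h : g ∈ Fx ρ ρ' θ) : g ∈ Fx ρ ρ' (k • θ) := by
  intro x
  rw [LinearMap.smul_apply, LinearMap.smul_apply, map_smul, h]

theorem tw_add (g : G) (θ φ : W →ₗ[K] V) : tw ρ ρ' g (θ + φ) = tw ρ ρ' g θ + tw ρ ρ' g φ := by
  ext x; simp only [tw_apply, LinearMap.add_apply, map_add]

theorem tw_smul (g : G) (k : K) (θ : W →ₗ[K] V) : tw ρ ρ' g (k • θ) = k • tw ρ ρ' g θ := by
  ext x; simp only [tw_apply, LinearMap.smul_apply, map_smul]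

theorem tw_mul (g h : G) (θ : W →ₗ[K] V) : tw ρ ρ' (g * h) θ = tw ρ ρ' g (tw ρ ρ' h θ) := by
  ext x; simp only [tw_apply, ract, mul_inv_rev]

theorem tw_one (θ : W →ₗ[K] V) : tw ρ ρ' 1 θ = θ := mem_Fx_iff_tw.1 (one_mem _)

/-- doubling -/
theorem dbl_mem {θ : W →ₗ[K] V} {b x k : G} (hr : x * b = b * k) (hx : x ∈ Fx ρ ρ' θ) (hk : k ∈ Fx ρ ρ' θ) :
    x ∈ Fx ρ ρ' (θ + tw ρ ρ' b θ) := Fx_add hx (mem_Fx_tw' hr hk)

theorem dbl_self {θ : W →ₗ[K] V} {b : G} (h : b * b ∈ Fx ρ ρ' θ) : b ∈ Fx ρ ρ' (θ + tw ρ ρ' b θ) := by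
  rw [mem_Fx_iff_tw, tw_add, ← tw_mul, mem_Fx_iff_tw.1 h, add_comm]

/-- composition -/
theorem comp_tw {θ : W →ₗ[K] V} {b : G} (h : b ∈ Fx ρ ρ' θ) (φ : W →ₗ[K] W) :
    θ ∘ₗ tw ρ' ρ' b φ = tw ρ ρ' b (θ ∘ₗ φ) := by
  ext x
  rw [LinearMap.comp_apply, tw_apply, tw_apply, LinearMap.comp_apply, h]

variable {E : El G} (D : Rel E) {i : K}

/-- the rank one map -/
def tp (F : Frame (E.map ρ) i) (F' : Frame (E.map ρ') i) : W →ₗ[K] V := F'.f.smulRight F.v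

/-- the map on `V2` -/
def t2 (F : Frame (E.map ρ) i) (F' : Frame (E.map ρ') i) : W →ₗ[K] V := tp F F' + tw ρ ρ' E.b3 (tp F F')

/-- the map on `V3` -/
def t3 (F : Frame (E.map ρ) i) (F' : Frame (E.map ρ') i) : W →ₗ[K] V := t2 F F' + tw ρ ρ' E.b2 (t2 F F')

/-- the map on `Vm` -/
def tm (F : Frame (E.map ρ) i) (F' : Frame (E.map ρ') i) : W →ₗ[K] V := t3 F F' + tw ρ ρ' E.b1 (t3 F F')

theorem tp_apply (F : Frame (E.map ρ) i) (F' : Frame (E.map ρ') i) (x : W) : tp F F' x = F'.f x • F.v := rfl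

section two

variable [FiniteDimensional K V] [FiniteDimensional K W]
variable (H : Good (E.map ρ) i) (H' : Good (E.map ρ') i) (F : Frame (E.map ρ) i) (F' : Frame (E.map ρ') i)
include D H H'

omit D in
theorem a1_tp : E.a1 ∈ Fx ρ ρ' (tp F F') := by
  intro x
  rw [tp_apply, tp_apply, map_smul, show ρ E.a1 F.v = -F.v from (mem_X.1 F.hv).1.1.2,
    show F'.f (ρ' E.a1 x) = -F'.f x from Frame.f_a1 H' F' x]
  module

omit D in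
theorem a2_tp : E.a2 ∈ Fx ρ ρ' (tp F F') := by
  intro x
  rw [tp_apply, tp_apply, map_smul, show ρ E.a2 F.v = -F.v from (mem_X.1 F.hv).1.2,
    show F'.f (ρ' E.a2 x) = -F'.f x from Frame.f_a2 H' F' x]
  module

omit D in
theorem z1_tp : E.z1 ∈ Fx ρ ρ' (tp F F') := by
  intro x
  rw [tp_apply, tp_apply, map_smul, show ρ E.z1 F.v = -F.v from (mem_X.1 F.hv).1.1.1,
    show F'.f (ρ' E.z1 x) = -F'.f x from Frame.f_z1 H' F' x]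
  module

omit D in
theorem a3_tp : E.a3 ∈ Fx ρ ρ' (tp F F') := by
  intro x
  rw [tp_apply, tp_apply, map_smul, show ρ E.a3 F.v = i • F.v from (mem_X.1 F.hv).2,
    show F'.f (ρ' E.a3 x) = i * F'.f x from Frame.f_a3 H' F' x, smul_smul, mul_comm]

omit D in
theorem z2_tp : E.z2 ∈ Fx ρ ρ' (tp F F') := by
  intro x
  rw [tp_apply, tp_apply, map_smul, show ρ E.z2 F.v = F.v from H.z2V2 _ F.hv.1,
    show F'.f (ρ' E.z2 x) = F'.f x from Frame.f_z2 H' F' x]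

/-! `t2` -/

theorem z1_t2 : E.z1 ∈ Fx ρ ρ' (t2 F F') := dbl_mem D.z1b3 (z1_tp H H' F F') (z1_tp H H' F F')
theorem z2_t2 : E.z2 ∈ Fx ρ ρ' (t2 F F') := dbl_mem D.z2b3 (z2_tp H H' F F') (z2_tp H H' F F')
theorem a1_t2 : E.a1 ∈ Fx ρ ρ' (t2 F F') := dbl_mem D.a1b3 (a1_tp H H' F F') (a1_tp H H' F F')
theorem a2_t2 : E.a2 ∈ Fx ρ ρ' (t2 F F') := dbl_mem D.a2b3 (a2_tp H H' F F') (a2_tp H H' F F')
theorem a3_t2 : E.a3 ∈ Fx ρ ρ' (t2 F F') :=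
  dbl_mem (k := E.z1 * E.a3) (by rw [D.a3b3, D.z1b3, mul_assoc]) (a3_tp H H' F F')
    (mul_mem (z1_tp H H' F F') (a3_tp H H' F F'))
theorem b3_t2 : E.b3 ∈ Fx ρ ρ' (t2 F F') := dbl_self (by rw [D.b3b3]; exact z1_tp H H' F F')

/-! `t3` -/

theorem z1_t3 : E.z1 ∈ Fx ρ ρ' (t3 F F') := dbl_mem D.z1b2 (z1_t2 D H H' F F') (z1_t2 D H H' F F')
theorem z2_t3 : E.z2 ∈ Fx ρ ρ' (t3 F F') :=
  dbl_mem D.z2b2 (z2_t2 D H H' F F') (by rw [D.z3e]; exact mul_mem (z2_t2 D H H' F F') (a1_t2 D H H' F F'))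
theorem a1_t3 : E.a1 ∈ Fx ρ ρ' (t3 F F') := dbl_mem D.a1b2 (a1_t2 D H H' F F') (a1_t2 D H H' F F')
theorem a2_t3 : E.a2 ∈ Fx ρ ρ' (t3 F F') :=
  dbl_mem (k := E.z1 * E.a2) (by rw [D.a2b2, D.z1b2, mul_assoc]) (a2_t2 D H H' F F')
    (mul_mem (z1_t2 D H H' F F') (a2_t2 D H H' F F'))
theorem a3_t3 : E.a3 ∈ Fx ρ ρ' (t3 F F') := dbl_mem D.a3b2 (a3_t2 D H H' F F') (a3_t2 D H H' F F')
theorem b3_t3 : E.b3 ∈ Fx ρ ρ' (t3 F F') := dbl_mem D.b2b3.symm (b3_t2 D H H' F F') (b3_t2 D H H' F F')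
theorem b2_t3 : E.b2 ∈ Fx ρ ρ' (t3 F F') := dbl_self (by rw [D.b2b2]; exact one_mem _)

/-! `tm` -/

theorem z1_tm : E.z1 ∈ Fx ρ ρ' (tm F F') := dbl_mem D.z1b1 (z1_t3 D H H' F F') (z1_t3 D H H' F F')
theorem z2_tm : E.z2 ∈ Fx ρ ρ' (tm F F') :=
  dbl_mem D.z2b1 (z2_t3 D H H' F F') (by rw [D.z4e]; exact mul_mem (z2_t3 D H H' F F') (a2_t3 D H H' F F'))
theorem a1_tm : E.a1 ∈ Fx ρ ρ' (tm F F') :=
  dbl_mem (k := E.z1 * E.a1) (by rw [D.a1b1, D.z1b1, mul_assoc]) (a1_t3 D H H' F F')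
    (mul_mem (z1_t3 D H H' F F') (a1_t3 D H H' F F'))
theorem a2_tm : E.a2 ∈ Fx ρ ρ' (tm F F') := dbl_mem D.a2b1 (a2_t3 D H H' F F') (a2_t3 D H H' F F')
theorem a3_tm : E.a3 ∈ Fx ρ ρ' (tm F F') := dbl_mem D.a3b1 (a3_t3 D H H' F F') (a3_t3 D H H' F F')
theorem b3_tm : E.b3 ∈ Fx ρ ρ' (tm F F') := dbl_mem D.b1b3.symm (b3_t3 D H H' F F') (b3_t3 D H H' F F')
theorem b2_tm : E.b2 ∈ Fx ρ ρ' (tm F F') := dbl_mem D.b1b2.symm (b2_t3 D H H' F F') (b2_t3 D H H' F F')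
theorem b1_tm : E.b1 ∈ Fx ρ ρ' (tm F F') := dbl_self (by rw [D.b1b1]; exact one_mem _)

omit D in
theorem tp_z1 (x : W) : tp F F' (ρ' E.z1 x) = - tp F F' x := by
  rw [tp_apply, tp_apply, show F'.f (ρ' E.z1 x) = -F'.f x from Frame.f_z1 H' F' x, neg_smul]

theorem tw_z1 {θ : W →ₗ[K] V} (h : ∀ x, θ (ρ' E.z1 x) = -θ x) {g : G} (hg : E.z1 * g = g * E.z1) (x : W) :
    tw ρ ρ' g θ (ρ' E.z1 x) = - tw ρ ρ' g θ x := by
  rw [tw_apply, tw_apply]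
  have h1 : ρ' g⁻¹ (ρ' E.z1 x) = ρ' E.z1 (ρ' g⁻¹ x) := by
    rw [← ract, ← ract]
    congr 2
    rw [inv_mul_eq_iff_eq_mul, ← mul_assoc, ← hg, mul_inv_cancel_right]
  rw [h1, h, map_neg]

theorem t2_z1 (x : W) : t2 F F' (ρ' E.z1 x) = - t2 F F' x := by
  rw [t2, LinearMap.add_apply, LinearMap.add_apply, tp_z1 H H' F F', tw_z1 D H H' (tp_z1 H H' F F') D.z1b3]
  abel

theorem t3_z1 (x : W) : t3 F F' (ρ' E.z1 x) = - t3 F F' x := by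
  rw [t3, LinearMap.add_apply, LinearMap.add_apply, t2_z1 D H H' F F', tw_z1 D H H' (t2_z1 D H H' F F') D.z1b2]
  abel

theorem tm_z1 (x : W) : tm F F' (ρ' E.z1 x) = - tm F F' x := by
  rw [tm, LinearMap.add_apply, LinearMap.add_apply, t3_z1 D H H' F F', tw_z1 D H H' (t3_z1 D H H' F F') D.z1b1]
  abel

end two

section res

variable [FiniteDimensional K V] (H : Good (E.map ρ) i) (F : Frame (E.map ρ) i)
include D H

omit D in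
theorem tp_self (x : V) : (16 : K) • tp F F x = pX (E.map ρ) i x := by
  rw [tp_apply, smul_smul, F.hf]

theorem t2_self (x : V) : (8 : K) • t2 F F x = p3 (E.map ρ) x := by
  have h1 := res3 (i := i) H.rel x
  have h2 : ρ E.b3⁻¹ x = ρ E.b3 (ρ E.z1 x) := by
    rw [← ract]
    congr 2
    rw [eq_comm, ← mul_eq_one_iff_eq_inv, mul_assoc, D.z1b3, ← mul_assoc, D.b3b3, D.z1z1]
  have h3 : (16 : K) • t2 F F x = pX (E.map ρ) i x + (E.map ρ).b3 (pX (E.map ρ) i ((E.map ρ).b3 ((E.map ρ).z1 x))) := by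
    rw [t2, LinearMap.add_apply, smul_add, tp_self H, tw_apply, ← map_smul, tp_self H, h2]
    rfl
  rw [h1] at h3
  have h4 : (2 : K) • ((8 : K) • t2 F F x) = (2 : K) • p3 (E.map ρ) x := by
    rw [← h3, smul_smul]; norm_num
  exact smul_right_injective V H.two h4

theorem t3_self (x : V) : (4 : K) • t3 F F x = p4 (E.map ρ) x := by
  have h1 := res2 H.rel x
  have h2 : ρ E.b2⁻¹ x = ρ E.b2 x := by
    congr 2
    rw [inv_eq_iff_mul_eq_one, D.b2b2]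
  have h3 : (8 : K) • t3 F F x = p3 (E.map ρ) x + (E.map ρ).b2 (p3 (E.map ρ) ((E.map ρ).b2 x)) := by
    rw [t3, LinearMap.add_apply, smul_add, t2_self D H, tw_apply, ← map_smul, t2_self D H, h2]
    rfl
  rw [h1] at h3
  have h4 : (2 : K) • ((4 : K) • t3 F F x) = (2 : K) • p4 (E.map ρ) x := by
    rw [← h3, smul_smul]; norm_num
  exact smul_right_injective V H.two h4

theorem tm_self (x : V) : (2 : K) • tm F F x = x - ρ E.z1 x := by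
  have h1 := res1 H.rel x
  have h2 : ρ E.b1⁻¹ x = ρ E.b1 x := by
    congr 2
    rw [inv_eq_iff_mul_eq_one, D.b1b1]
  have h3 : (4 : K) • tm F F x = p4 (E.map ρ) x + (E.map ρ).b1 (p4 (E.map ρ) ((E.map ρ).b1 x)) := by
    rw [tm, LinearMap.add_apply, smul_add, t3_self D H, tw_apply, ← map_smul, t3_self D H, h2]
    rfl
  rw [h1] at h3
  have h4 : (2 : K) • ((2 : K) • tm F F x) = (2 : K) • (x - ρ E.z1 x) := by
    rw [smul_smul]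
    have : (2 : K) * 2 = 4 := by norm_num
    rw [this, h3]
    rfl
  exact smul_right_injective V H.two h4

end res

section uniq

variable [FiniteDimensional K V] [FiniteDimensional K W]
variable (H : Good (E.map ρ) i) (H' : Good (E.map ρ') i) (F : Frame (E.map ρ) i) (F' : Frame (E.map ρ') i)
include D H H'

/-- the image of `v'` -/
theorem map_v {θ : W →ₗ[K] V} (h1 : E.a1 ∈ Fx ρ ρ' θ) (h2 : E.a2 ∈ Fx ρ ρ' θ) (h3 : E.a3 ∈ Fx ρ ρ' θ) :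
    θ F'.v = F.f (θ F'.v) • F.v := by
  apply Frame.eq_of_mem H F
  have hv := mem_X.1 F'.hv
  have e3 : ρ E.a3 (θ F'.v) = i • θ F'.v := by
    rw [h3, show ρ' E.a3 F'.v = i • F'.v from hv.2, map_smul]
  rw [mem_X]
  refine ⟨⟨⟨?_, ?_⟩, ?_⟩, e3⟩
  · have : ρ E.a3 (ρ E.a3 (θ F'.v)) = ρ E.z1 (θ F'.v) := by rw [← ract, D.a3a3]
    change ρ E.z1 (θ F'.v) = _
    rw [← this, e3, map_smul, e3, smul_smul, H.hi, neg_one_smul]
  · change ρ E.a1 (θ F'.v) = _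
    rw [h1, show ρ' E.a1 F'.v = -F'.v from hv.1.1.2, map_neg]
  · change ρ E.a2 (θ F'.v) = _
    rw [h2, show ρ' E.a2 F'.v = -F'.v from hv.1.2, map_neg]

theorem comp_tp {θ : W →ₗ[K] V} (h1 : E.a1 ∈ Fx ρ ρ' θ) (h2 : E.a2 ∈ Fx ρ ρ' θ) (h3 : E.a3 ∈ Fx ρ ρ' θ) :
    θ ∘ₗ tp F' F' = F.f (θ F'.v) • tp F F' := by
  ext x
  rw [LinearMap.comp_apply, tp_apply, map_smul, LinearMap.smul_apply, tp_apply, smul_comm]
  congr 1
  exact map_v D H H' F F' h1 h2 h3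

theorem comp_t2 {θ : W →ₗ[K] V} (h1 : E.a1 ∈ Fx ρ ρ' θ) (h2 : E.a2 ∈ Fx ρ ρ' θ) (h3 : E.a3 ∈ Fx ρ ρ' θ)
    (h4 : E.b3 ∈ Fx ρ ρ' θ) : θ ∘ₗ t2 F' F' = F.f (θ F'.v) • t2 F F' := by
  rw [t2, LinearMap.comp_add, comp_tw h4, comp_tp D H H' F F' h1 h2 h3, tw_smul, ← smul_add, ← t2]

theorem comp_t3 {θ : W →ₗ[K] V} (h1 : E.a1 ∈ Fx ρ ρ' θ) (h2 : E.a2 ∈ Fx ρ ρ' θ) (h3 : E.a3 ∈ Fx ρ ρ' θ)
    (h4 : E.b3 ∈ Fx ρ ρ' θ) (h5 : E.b2 ∈ Fx ρ ρ' θ) : θ ∘ₗ t3 F' F' = F.f (θ F'.v) • t3 F F' := by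
  rw [t3, LinearMap.comp_add, comp_tw h5, comp_t2 D H H' F F' h1 h2 h3 h4, tw_smul, ← smul_add, ← t3]

theorem comp_tm {θ : W →ₗ[K] V} (h1 : E.a1 ∈ Fx ρ ρ' θ) (h2 : E.a2 ∈ Fx ρ ρ' θ) (h3 : E.a3 ∈ Fx ρ ρ' θ)
    (h4 : E.b3 ∈ Fx ρ ρ' θ) (h5 : E.b2 ∈ Fx ρ ρ' θ) (h6 : E.b1 ∈ Fx ρ ρ' θ) :
    θ ∘ₗ tm F' F' = F.f (θ F'.v) • tm F F' := by
  rw [tm, LinearMap.comp_add, comp_tw h6, comp_t3 D H H' F F' h1 h2 h3 h4 h5, tw_smul, ← smul_add, ← tm]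

/-- **Uniqueness**: maps commuting with the extraspecial group, odd under `z1` -/
theorem eq_smul_tm {θ : W →ₗ[K] V} (h1 : E.a1 ∈ Fx ρ ρ' θ) (h2 : E.a2 ∈ Fx ρ ρ' θ) (h3 : E.a3 ∈ Fx ρ ρ' θ)
    (h4 : E.b3 ∈ Fx ρ ρ' θ) (h5 : E.b2 ∈ Fx ρ ρ' θ) (h6 : E.b1 ∈ Fx ρ ρ' θ) (h7 : ∀ x, θ (ρ' E.z1 x) = -θ x) :
    θ = F.f (θ F'.v) • tm F F' := by
  rw [← comp_tm D H H' F F' h1 h2 h3 h4 h5 h6]
  ext x
  rw [LinearMap.comp_apply]
  have e1 := tm_self D H' F' x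
  have e2 : (2 : K) • θ (tm F' F' x) = (2 : K) • θ x := by
    rw [← map_smul, e1, map_sub, h7, two_smul]; abel
  exact (smul_right_injective V H.two e2).symm

/-- **Uniqueness on `V2`** -/
theorem eq_smul_t2 {θ : W →ₗ[K] V} (h1 : E.a1 ∈ Fx ρ ρ' θ) (h2 : E.a2 ∈ Fx ρ ρ' θ) (h3 : E.a3 ∈ Fx ρ ρ' θ)
    (h4 : E.b3 ∈ Fx ρ ρ' θ) (h7 : θ ∘ₗ t2 F' F' = θ) : θ = F.f (θ F'.v) • t2 F F' := by
  rw [← comp_t2 D H H' F F' h1 h2 h3 h4, h7]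

end uniq

end Cfsg.Agent.H36.U52
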